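import Cfsg.Agent.H516.BadComp

/-!
# S4095, S4096, S4094: the frame of the sporadic rows, `p` odd

* `Good L` : what is used of a sporadic group: simple, even order, `O(C_L(t)) = 1` for the involutions `t`, `C_L(T)` a
  2-group for `T` Sylow, automorphisms of odd order inner;
* `IH p L` : the rows at `p` for all smaller simple groups;
* `Bad.centralizer_le` : `C_L(y) ≤ C_L(a)` if `a` is bad and fixes `y` and `O_p(C_L(y)) = 1`;
* `Bad.odd` : **`|C_L(a)|` is odd** for a bad automorphism `a ≠ 1`;
* `Sit p a b` : **the situation to be contradicted in every sporadic group**: `a` bad, `|C_L(a)|` odd, `b` of odd prime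
  order, `conj b` a power of `a`;
* `Sit.le`, `Sit.card_le`, `Sit.two_pow_le`, `Sit.le_of_inv`, `Sit.false_of_comp`, `Sit.two_group`, `Sit.core_two`,
  `Sit.false_of_dvd` : the tools;
* `row_of_sit` : `Sit p a b → False` for all `a`, `b` gives `Row p L`.
-/

set_option autoImplicit false

namespace Cfsg.Agent.H516

open Subgroup Cfsg Cfsg.Agent.SignalizersComponents.Components
open scoped commutatorElement Pointwise

universe u v

/-- The rows at `p` for the smaller nonabelian simple groups. -/
def IH (p : ℕ) (L : Type u) [Group L] : Prop :=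
  ∀ (K : Type u) [Group K] [Finite K] [IsSimpleGroup K], ¬ IsMulCommutative K → Nat.card K < Nat.card L → Row p K

/-- What is used of a sporadic group. -/
structure Good (L : Type u) [Group L] : Prop where
  simple : IsSimpleGroup L
  center : center L = ⊥
  even : Even (Nat.card L)
  core : ∀ t : L, orderOf t = 2 → centralizerPPrimeCore 2 t = ⊥
  ct : ∀ T : Sylow 2 L, IsPGroup 2 (centralizer ((T : Subgroup L) : Set L))
  oi : ∀ a : MulAut L, Odd (orderOf a) → ∃ g : L, a = MulAut.conj g

section

variable {L : Type u} [Group L] {p : ℕ} {a : MulAut L}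

/-- an automorphism fixing `y` normalizes `C_L(y)` -/
theorem map_centralizer [Finite L] {y : L} (hy : a y = y) :
    (centralizer ({y} : Set L)).map a.toMonoidHom = centralizer ({y} : Set L) := by
  refine map_eq_of_forall fun s hs => ?_
  rw [mem_centralizer_singleton_iff] at hs ⊢
  have h1 := congrArg a hs
  rw [map_mul, map_mul, hy] at h1
  exact h1

/-- The components of a proper subgroup, modulo their centers, satisfy the row at `p`. -/
theorem IH.comp [Finite L] (ih : IH p L) {H : Subgroup L} (hH : H ≠ ⊤) {K : Subgroup H} (hK : IsComponent K) :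
    Row p (K ⧸ Subgroup.center K) := by
  have hs : IsSimpleGroup (K ⧸ Subgroup.center K) := hK.2.2
  refine ih _ ?_ ?_
  · intro hc
    have hf : Group.IsNilpotent (K ⧸ Subgroup.center K) := open scoped IsMulCommutative in inferInstance
    have h3 : Group.IsNilpotent K := Group.of_quotient_center_nilpotent hf
    exact quasisimple_not_isSolvable hK.2 inferInstance
  · calc Nat.card (K ⧸ Subgroup.center K) ≤ Nat.card K := Nat.card_le_card_of_surjective _ QuotientGroup.mk_surjective
      _ ≤ Nat.card H := Subgroup.card_le_card_group K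
      _ < Nat.card L := by
        refine lt_of_le_of_ne (Subgroup.card_le_card_group H) fun h => hH ?_
        exact (Subgroup.card_eq_iff_eq_top H).1 h

/-- The same for quasisimple subgroups. -/
theorem IH.quasi [Finite L] (ih : IH p L) {K : Subgroup L} (hK' : K ≠ ⊤) (hK : IsQuasisimple K) :
    Row p (K ⧸ Subgroup.center K) := by
  have hs : IsSimpleGroup (K ⧸ Subgroup.center K) := hK.2
  refine ih _ ?_ ?_
  · intro hc
    have hf : Group.IsNilpotent (K ⧸ Subgroup.center K) := open scoped IsMulCommutative in inferInstance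
    have h3 : Group.IsNilpotent K := Group.of_quotient_center_nilpotent hf
    exact quasisimple_not_isSolvable hK inferInstance
  · calc Nat.card (K ⧸ Subgroup.center K) ≤ Nat.card K := Nat.card_le_card_of_surjective _ QuotientGroup.mk_surjective
      _ < Nat.card L := by
        refine lt_of_le_of_ne (Subgroup.card_le_card_group K) fun h => hK' ?_
        exact (Subgroup.card_eq_iff_eq_top K).1 h

/-- A bad automorphism centralizes the proper invariant subgroups `H` with `O_p(H) = 1`. -/
theorem Bad.le_of_pCore [Finite L] (hp : p.Prime) (h : Bad p a) (ih : IH p L) {H : Subgroup L} (hH : H ≠ ⊤)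
    (hm : H.map a.toMonoidHom = H) (hO : pCore p H = ⊥) : H ≤ fixedSubgroup a :=
  le_fixed_of_res (hH := hm) ((h.res H hm).eq_one_of_pCore hp hO fun _ hK => ih.comp hH hK)

/-- `C_L(y) ≤ C_L(a)` if `a` fixes `y` and `O_p(C_L(y)) = 1`. -/
theorem Bad.centralizer_le [Finite L] (hp : p.Prime) (h : Bad p a) (ih : IH p L) {y : L} (hc : Subgroup.center L = ⊥) (hy1 : y ≠ 1)
    (hy : a y = y) (hO : pCore p ↥(centralizer ({y} : Set L)) = ⊥) : centralizer ({y} : Set L) ≤ fixedSubgroup a := by
  refine h.le_of_pCore hp ih ?_ (map_centralizer hy) hO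
  intro h1
  apply hy1
  have h2 : y ∈ Subgroup.center L := by
    rw [mem_center_iff]
    intro g
    have h3 : g ∈ centralizer ({y} : Set L) := by rw [h1]; exact mem_top g
    exact mem_centralizer_singleton_iff.1 h3
  rwa [hc, mem_bot] at h2

theorem pCore_eq_bot_of_core [Finite L] (hp : p.Prime) (hp2 : p ≠ 2) {t : L} (h : centralizerPPrimeCore 2 t = ⊥) :
    pCore p ↥(centralizer ({t} : Set L)) = ⊥ := by
  have hf : Fact p.Prime := ⟨hp⟩
  have h1 : pPrimeCore 2 ↥(centralizer ({t} : Set L)) = ⊥ := by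
    rw [centralizerPPrimeCore, Subgroup.map_eq_bot_iff_of_injective _ (Subgroup.subtype_injective _)] at h
    exact h
  rw [eq_bot_iff, ← h1]
  refine Lib.Cores.le_pPrimeCore (Lib.Cores.pCore_normal p) ?_
  obtain ⟨n, hn⟩ := (IsPGroup.iff_card).1 (Lib.Cores.pCore_isPGroup (G := ↥(centralizer ({t} : Set L))) p)
  rw [hn]
  exact Nat.Coprime.pow_left n ((Nat.coprime_primes hp Nat.prime_two).2 hp2)

/-- `C_L(t) ≤ C_L(a)` for the fixed involutions `t`. -/
theorem Bad.centralizer_inv_le [Finite L] (hL : Good L) (hp : p.Prime) (hp2 : p ≠ 2) (h : Bad p a) (ih : IH p L) {t : L}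
    (ht : orderOf t = 2) (hta : a t = t) : centralizer ({t} : Set L) ≤ fixedSubgroup a := by
  refine h.centralizer_le hp ih hL.center ?_ hta (pCore_eq_bot_of_core hp hp2 (hL.core t ht))
  intro h1
  rw [h1, orderOf_one] at ht
  norm_num at ht

/-- An automorphism of 2-power order of a group of even order has a fixed subgroup of even order. -/
theorem even_fixed [Finite L] (he : Even (Nat.card L)) {n : ℕ} (ha : a ^ 2 ^ n = 1) : Even (Nat.card (fixedSubgroup a)) := by
  have hf2 : Fact (Nat.Prime 2) := ⟨Nat.prime_two⟩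
  have h1 : IsPGroup 2 (zpowers a) := isPGroup_zpowers ha
  have h2 := h1.card_modEq_card_fixedPoints (α := L)
  have h3 : (MulAction.fixedPoints (zpowers a) L) = (fixedSubgroup a : Set L) := by
    ext s
    rw [MulAction.mem_fixedPoints]
    constructor
    · intro h
      exact h ⟨a, mem_zpowers a⟩
    · rintro hs ⟨b, hb⟩
      have h4 : zpowers a ≤ MulAction.stabilizer (MulAut L) s := by
        rw [zpowers_le]
        exact hs
      exact h4 hb
  rw [h3] at h2
  have h4 : Nat.card L ≡ 0 [MOD 2] := (Nat.modEq_zero_iff_dvd).2 he.two_dvd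
  exact even_iff_two_dvd.2 ((Nat.modEq_zero_iff_dvd).1 (h2.symm.trans h4))

theorem conj_mem_fixed_of_zpowers {b : L} (hb : MulAut.conj b ∈ zpowers a) (hc : Subgroup.center L = ⊥) : a b = b := by
  obtain ⟨k, hk⟩ := mem_zpowers_iff.1 hb
  have h1 : a * MulAut.conj b * a⁻¹ = MulAut.conj b := by
    rw [← hk, mul_inv_eq_iff_eq_mul]
    exact (Commute.refl a).zpow_right k
  rw [aut_conj] at h1
  exact conj_injective hc h1

theorem fixed_le_centralizer {b : L} (hb : MulAut.conj b ∈ zpowers a) : fixedSubgroup a ≤ centralizer ({b} : Set L) := by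
  intro s hs
  have h1 : zpowers a ≤ MulAction.stabilizer (MulAut L) s := by
    rw [zpowers_le]
    exact hs
  have h2 : MulAut.conj b s = s := h1 hb
  rw [MulAut.conj_apply, mul_inv_eq_iff_eq_mul] at h2
  exact mem_centralizer_singleton_iff.2 h2.symm

/-- **A bad automorphism has a fixed subgroup of odd order.** -/
theorem Bad.odd [Finite L] (hL : Good L) (hp : p.Prime) (hp2 : p ≠ 2) (ih : IH p L) (h : Bad p a) (hne : a ≠ 1) :
    Odd (Nat.card (fixedSubgroup a)) := by
  have hf2 : Fact (Nat.Prime 2) := ⟨Nat.prime_two⟩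
  have hs := hL.simple
  have hc := hL.center
  have hp2' : ¬ p ∣ 2 := fun h => hp2 ((Nat.prime_dvd_prime_iff_eq hp Nat.prime_two).1 h)
  by_contra hodd
  rw [Nat.not_odd_iff_even] at hodd
  set C := fixedSubgroup a with hC
  obtain ⟨t, ht⟩ := exists_prime_orderOf_dvd_card' (G := C) 2 hodd.two_dvd
  have ht' : orderOf (t : L) = 2 := by rw [Subgroup.orderOf_coe]; exact ht
  -- a Sylow 2-subgroup inside `C`
  have hCL : ∀ s : L, orderOf s = 2 → s ∈ C → centralizer ({s} : Set L) ≤ C := fun s hs hsC =>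
    h.centralizer_inv_le hL hp hp2 ih hs hsC
  obtain ⟨T, hT⟩ := (isPGroup_zpowers (p := 2) (n := 1) (x := (t : L))
    (by rw [pow_one, ← ht']; exact pow_orderOf_eq_one _)).exists_le_sylow
  have htT : (t : L) ∈ T := hT (mem_zpowers _)
  have hTC : (T : Subgroup L) ≤ C := by
    have hnt : Nontrivial (T : Subgroup L) := by
      refine ⟨⟨⟨t, htT⟩, 1, fun h1 => ?_⟩⟩
      have h2 : (t : L) = 1 := congrArg Subtype.val h1
      rw [h2, orderOf_one] at ht'
      norm_num at ht'
    have hz := T.2.center_nontrivial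
    obtain ⟨z, hz1⟩ := exists_ne (1 : Subgroup.center (T : Subgroup L))
    have hzp : IsPGroup 2 (Subgroup.center (T : Subgroup L)) := T.2.to_subgroup _
    obtain ⟨w, hw⟩ : ∃ w : Subgroup.center (T : Subgroup L), orderOf w = 2 := by
      have h2 : 2 ∣ Nat.card (Subgroup.center (T : Subgroup L)) := by
        obtain ⟨n, hn⟩ := IsPGroup.iff_card.1 hzp
        rw [hn]
        refine dvd_pow_self 2 fun h0 => ?_
        rw [h0, pow_zero] at hn
        have := (Nat.card_eq_one_iff_unique.1 hn).1
        exact hz1 (Subsingleton.elim _ _)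
      exact exists_prime_orderOf_dvd_card' 2 h2
    have hw' : orderOf ((w : (T : Subgroup L)) : L) = 2 := by
      rw [Subgroup.orderOf_coe, Subgroup.orderOf_coe]; exact hw
    have hwt : ((w : (T : Subgroup L)) : L) ∈ C := by
      refine hCL t ht' t.2 ?_
      rw [mem_centralizer_singleton_iff]
      have h3 := mem_center_iff.1 w.2 ⟨t, htT⟩
      exact (congrArg (Subtype.val) h3).symm
    refine le_trans ?_ (hCL _ hw' hwt)
    intro q hq
    rw [mem_centralizer_singleton_iff]
    have h3 := mem_center_iff.1 w.2 ⟨q, hq⟩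
    exact congrArg (Subtype.val) h3
  -- the odd part of `a` is inner and centralizes `T`
  obtain ⟨n, m, hm, hn⟩ := Nat.exists_eq_pow_mul_and_not_dvd (orderOf_pos a).ne' 2 (by norm_num)
  have hmodd : Odd m := by rw [← Nat.not_even_iff_odd, even_iff_two_dvd]; exact hm
  have ho : orderOf (a ^ 2 ^ n) = m := by
    rw [orderOf_pow_of_dvd (pow_ne_zero _ (by norm_num)) (by rw [hn]; exact dvd_mul_right _ _), hn,
      Nat.mul_div_cancel_left _ (pow_pos (by norm_num) _)]
  obtain ⟨g, hg⟩ := hL.oi (a ^ 2 ^ n) (by rw [ho]; exact hmodd)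
  have hgT : g ∈ centralizer ((T : Subgroup L) : Set L) := by
    rw [mem_centralizer_iff]
    intro q hq
    have h1 : zpowers a ≤ MulAction.stabilizer (MulAut L) q := by
      rw [zpowers_le]
      exact hTC hq
    have h2 : MulAut.conj g q = q := by rw [← hg]; exact h1 (pow_mem (mem_zpowers a) _)
    rw [MulAut.conj_apply, mul_inv_eq_iff_eq_mul] at h2
    exact h2.symm
  have hg1 : m = 1 := by
    obtain ⟨k, hk⟩ := hL.ct T ⟨g, hgT⟩
    have hk' : g ^ 2 ^ k = 1 := congrArg (Subtype.val) hk
    have h1 : orderOf g = m := by rw [← ho, hg, orderOf_injective _ (conj_injective hc)]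
    have h2 := orderOf_dvd_of_pow_eq_one hk'
    rw [h1] at h2
    exact Nat.eq_one_of_dvd_coprimes ((Nat.coprime_two_left.2 hmodd).pow_left k) h2 dvd_rfl
  rw [hg1, mul_one] at hn
  rcases n with _ | n
  · rw [pow_zero, orderOf_eq_one_iff] at hn
    exact hne hn
  · exact h.false_of_two hc hL.even hp2' hp hn

/-- **The situation to be contradicted in every sporadic group.** -/
structure Sit (p : ℕ) {L : Type u} [Group L] (a : MulAut L) (b : L) : Prop where
  good : Good L
  prime : p.Prime
  ne_two : p ≠ 2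
  ih : IH p L
  bad : Bad p a
  odd : Odd (Nat.card (fixedSubgroup a))
  bprime : (orderOf b).Prime
  b_ne_two : orderOf b ≠ 2
  pow : MulAut.conj b ∈ zpowers a

/-- **The row from the situation.** -/
theorem row_of_sit [Finite L] (hL : Good L) (hp : p.Prime) (hp2 : p ≠ 2) (ih : IH p L)
    (h : ∀ (a : MulAut L) (b : L), Sit p a b → False) : Row p L := by
  rw [row_iff]
  intro a ha
  by_contra hne
  have hodd := ha.odd hL hp hp2 ih hne
  obtain ⟨n, m, hm, hn⟩ := Nat.exists_eq_pow_mul_and_not_dvd (orderOf_pos a).ne' 2 (by norm_num)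
  have hm1 : m ≠ 1 := by
    rintro rfl
    rw [mul_one] at hn
    have h1 := even_fixed (a := a) hL.even (n := n) (by rw [← hn]; exact pow_orderOf_eq_one a)
    exact (Nat.not_odd_iff_even.2 h1) hodd
  obtain ⟨q, hq, hqm⟩ := Nat.exists_prime_and_dvd hm1
  have hq2 : q ≠ 2 := by
    rintro rfl
    exact hm hqm
  obtain ⟨c, rfl⟩ := hqm
  have hc0 : c ≠ 0 := by
    rintro rfl
    rw [mul_zero, mul_zero] at hn
    exact (orderOf_pos a).ne' hn
  have ho : orderOf (a ^ (2 ^ n * c)) = q := by
    rw [orderOf_pow_of_dvd (mul_ne_zero (pow_ne_zero _ (by norm_num)) hc0) (by rw [hn]; exact ⟨q, by ring⟩), hn]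
    refine Nat.div_eq_of_eq_mul_left (Nat.pos_of_ne_zero (mul_ne_zero (pow_ne_zero _ (by norm_num)) hc0)) (by ring)
  obtain ⟨b, hb⟩ := hL.oi _ (by rw [ho]; exact hq.odd_of_ne_two hq2)
  have hbo : orderOf b = q := by rw [← ho, hb, orderOf_injective _ (conj_injective hL.center)]
  exact h a b ⟨hL, hp, hp2, ih, ha, hodd, by rw [hbo]; exact hq, by rw [hbo]; exact hq2,
    by rw [← hb]; exact pow_mem (mem_zpowers a) _⟩

end

namespace Sit

set_option linter.unusedSectionVars false

variable {L : Type u} [Group L] [Finite L] {p : ℕ} {a : MulAut L} {b : L} (S : Sit p a b)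

include S

theorem le : fixedSubgroup a ≤ centralizer ({b} : Set L) := fixed_le_centralizer S.pow

theorem fix_b : a b = b := conj_mem_fixed_of_zpowers S.pow S.good.center

theorem b_ne_one : b ≠ 1 := by
  intro h
  have h1 := S.bprime
  rw [h, orderOf_one] at h1
  exact Nat.not_prime_one h1

/-- **Coset bound**: `|Q| ≤ |C_L(a)|` for `p'`-subgroups `Q`. -/
theorem card_le {Q : Subgroup L} (hQ : ¬ p ∣ Nat.card Q) : Nat.card Q ≤ Nat.card (fixedSubgroup a) := S.bad.card_le hQ

/-- `2 ^ k ≤ |C_L(a)|` if `2 ^ k` divides `|L|`. -/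
theorem two_pow_le {k : ℕ} (hk : 2 ^ k ∣ Nat.card L) : 2 ^ k ≤ Nat.card (fixedSubgroup a) := by
  have hf2 : Fact (Nat.Prime 2) := ⟨Nat.prime_two⟩
  obtain ⟨Q, hQ⟩ := Sylow.exists_subgroup_card_pow_prime 2 hk
  rw [← hQ]
  apply S.card_le
  rw [hQ]
  intro h
  exact S.ne_two ((Nat.prime_dvd_prime_iff_eq S.prime Nat.prime_two).1 (S.prime.dvd_of_dvd_pow h))

/-- the order of the fixed subgroup divides the odd part of `|C_L(b)|` -/
theorem card_dvd {j m : ℕ} (hm : Nat.card (centralizer ({b} : Set L)) ∣ 2 ^ j * m) : Nat.card (fixedSubgroup a) ∣ m := by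
  have h1 := (Subgroup.card_dvd_of_le S.le).trans hm
  exact (Nat.Coprime.pow_right j (Nat.coprime_two_right.2 S.odd)).dvd_of_dvd_mul_left h1

/-- **The main criterion**: the odd part of `|C_L(b)|` is smaller than the `2`-part of `|L|`. -/
theorem false_of_dvd {j k m : ℕ} (hk : 2 ^ k ∣ Nat.card L) (hm : Nat.card (centralizer ({b} : Set L)) ∣ 2 ^ j * m)
    (hm0 : m ≠ 0) (hlt : m < 2 ^ k) : False := by
  have h1 := Nat.le_of_dvd (Nat.pos_of_ne_zero hm0) (S.card_dvd hm)
  have h2 := S.two_pow_le hk
  omega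

/-- the same with a `p'`-subgroup -/
theorem false_of_dvd' {j m : ℕ} {Q : Subgroup L} (hQ : ¬ p ∣ Nat.card Q)
    (hm : Nat.card (centralizer ({b} : Set L)) ∣ 2 ^ j * m) (hm0 : m ≠ 0) (hlt : m < Nat.card Q) : False := by
  have h1 := Nat.le_of_dvd (Nat.pos_of_ne_zero hm0) (S.card_dvd hm)
  have h2 := S.card_le hQ
  omega

/-- `a` centralizes the invariant proper subgroups with `O_p = 1`; they have odd order. -/
theorem le_of_inv {H : Subgroup L} (hH : H ≠ ⊤) (hm : H.map a.toMonoidHom = H) (hO : pCore p H = ⊥) :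
    H ≤ fixedSubgroup a := S.bad.le_of_pCore S.prime S.ih hH hm hO

theorem odd_of_inv {H : Subgroup L} (hH : H ≠ ⊤) (hm : H.map a.toMonoidHom = H) (hO : pCore p H = ⊥) :
    Odd (Nat.card H) := S.odd.of_dvd_nat (Subgroup.card_dvd_of_le (S.le_of_inv hH hm hO))

/-- There is no nontrivial invariant 2-subgroup. -/
theorem two_group {Q : Subgroup L} (hQ : IsPGroup 2 Q) (hm : ∀ s ∈ Q, a s ∈ Q) : Q = ⊥ := by
  have hf2 : Fact (Nat.Prime 2) := ⟨Nat.prime_two⟩
  obtain ⟨n, hn⟩ := IsPGroup.iff_card.1 hQ
  have h1 : Q ≤ fixedSubgroup a := by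
    refine S.bad.le_fixed ?_ hm
    rw [hn]
    intro h
    exact S.ne_two ((Nat.prime_dvd_prime_iff_eq S.prime Nat.prime_two).1 (S.prime.dvd_of_dvd_pow h))
  have h2 := S.odd.of_dvd_nat (Subgroup.card_dvd_of_le h1)
  rw [hn] at h2
  rcases n with _ | n
  · rw [pow_zero] at hn
    exact Subgroup.eq_bot_of_card_eq Q hn
  · exact absurd h2 (Nat.not_odd_iff_even.2 (by rw [pow_succ]; exact even_two.mul_left _))

/-- `O_2(H) = 1` for the invariant subgroups `H`. -/
theorem core_two {H : Subgroup L} (hm : H.map a.toMonoidHom = H) : pCore 2 H = ⊥ := by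
  have h1 : (pCore 2 H).map H.subtype = ⊥ := by
    refine S.two_group ((Lib.Cores.pCore_isPGroup (G := H) 2).map _) ?_
    rintro _ ⟨s, hs, rfl⟩
    have h2 : (pCore 2 H).map (resAut a H hm).toMonoidHom = pCore 2 H := Lib.Cores.map_equiv_pCore (resAut a H hm) 2
    have h3 : resAut a H hm s ∈ (pCore 2 H).map (resAut a H hm).toMonoidHom := ⟨s, hs, rfl⟩
    rw [h2] at h3
    exact ⟨_, h3, rfl⟩
  rwa [Subgroup.map_eq_bot_iff_of_injective _ (Subgroup.subtype_injective _)] at h1

/-- There is no invariant quasisimple subgroup with center of order prime to `p`. -/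
theorem false_of_comp {K : Subgroup L} (hK : IsQuasisimple K) (hK' : K ≠ ⊤) (he : Even (Nat.card K))
    (hm : K.map a.toMonoidHom = K) (hz : ¬ p ∣ Nat.card (Subgroup.center K)) : False := by
  have h1 : K ≤ fixedSubgroup a :=
    le_fixed_of_res (hH := hm) ((S.bad.res K hm).eq_one_of_quasisimple S.prime hK hz (S.ih.quasi hK' hK))
  exact (Nat.not_even_iff_odd.2 (S.odd.of_dvd_nat (Subgroup.card_dvd_of_le h1))) he

/-- The centralizer of a fixed element `y`: it is invariant. -/
theorem map_centralizer {y : L} (hy : a y = y) :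
    (centralizer ({y} : Set L)).map a.toMonoidHom = centralizer ({y} : Set L) := H516.map_centralizer hy

theorem map_centralizer_b : (centralizer ({b} : Set L)).map a.toMonoidHom = centralizer ({b} : Set L) :=
  H516.map_centralizer S.fix_b

/-- `O_2(C_L(b)) = 1`. -/
theorem core_two_b : pCore 2 ↥(centralizer ({b} : Set L)) = ⊥ := S.core_two S.map_centralizer_b

end Sit

end Cfsg.Agent.H516
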