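import Cfsg.Agent.H516.Tools
import Cfsg.Agent.S5608
import Cfsg.Agent.S0366
import Cfsg.Agent.S0364
import Cfsg.Agent.SporadicA.MathieuRecog
import Cfsg.Agent.MTwelveType.SylowModel
import Cfsg.Agent.H994.TwoGen.M11
import Cfsg.Agent.CpAutTThree.MTwelve

/-!
# S4094-S4096: the rows of the Mathieu groups (p odd)

* `fx_le` : the elements of odd prime order of `M24` have at most 6 fixed points (at most 4 for the order `≥ 5`);
* `orbit_card` : commuting permutations of prime orders `p ≠ q`, a point moved by both: its orbit under `b c` has `p q`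
  points, all of them moved by both;
* `nadj24`, `nadj23`, `nadj12` : non-adjacent odd primes in `M24`, `M23`, `M12`;
* `m11`, `m12`, `m22`, `m23`, `m24` : **the rows**.
-/

set_option autoImplicit false

namespace Cfsg.Agent.H516.Mathieu

open Subgroup Cfsg
open scoped Pointwise
open Cfsg.Agent.H866.InvCount Cfsg.Agent.H866.InvolType Cfsg.Agent.H866.FpfCent

universe u

theorem fx_le_four {x : Equiv.Perm GolayPt} (hx : x ∈ M24) {p : ℕ} (hp : p.Prime) (h5 : 5 ≤ p) (ho : orderOf x = p) :
    (MulAction.fixedBy GolayPt x).ncard ≤ 4 := by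
  by_contra hcon
  push Not at hcon
  obtain ⟨s, hs, hsc⟩ := Set.exists_subset_card_eq (s := MulAction.fixedBy GolayPt x) (n := 5) (by omega)
  have h5' : MulAction.IsMultiplyPretransitive M24 GolayPt 5 := Cfsg.Agent.S0366.result
  have h1 := h5'.index_of_fixingSubgroup_mul hsc
  have h24 : Nat.card GolayPt = 24 := by
    rw [Nat.card_eq_fintype_card]
    rfl
  rw [h24] at h1
  have hM := Cfsg.Agent.S0364.result
  have h2 := (fixingSubgroup M24 s).card_mul_index
  rw [hM] at h2
  have h3 : (fixingSubgroup M24 s).index = 5100480 := by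
    have e1 : (24 - 5 : ℕ).factorial = 121645100408832000 := by decide
    have e2 : (24 : ℕ).factorial = 620448401733239439360000 := by decide
    rw [e1, e2] at h1
    omega
  rw [h3] at h2
  have h4 : Nat.card ↥(fixingSubgroup M24 s) = 48 := by omega
  have hmem : (⟨x, hx⟩ : M24) ∈ fixingSubgroup M24 s := by
    rw [mem_fixingSubgroup_iff]
    intro y hy
    exact hs hy
  have h6 : orderOf (⟨⟨x, hx⟩, hmem⟩ : fixingSubgroup M24 s) ∣ Nat.card ↥(fixingSubgroup M24 s) := orderOf_dvd_natCard _
  rw [← Subgroup.orderOf_coe, ← Subgroup.orderOf_coe] at h6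
  change orderOf x ∣ _ at h6
  rw [h4, ho] at h6
  have h7 : p ∣ 2 ^ 4 * 3 := by simpa using h6
  rcases hp.dvd_mul.1 h7 with h | h
  · have := Nat.le_of_dvd (by norm_num) (hp.dvd_of_dvd_pow h)
    omega
  · have := Nat.le_of_dvd (by norm_num) h
    omega

theorem fixedBy_ncard (x : Equiv.Perm GolayPt) : (MulAction.fixedBy GolayPt x).ncard = fx x := by
  rw [fx_eq_ncard]
  congr 1
  ext q
  simp [MulAction.mem_fixedBy]

theorem fx_le_six {x : Equiv.Perm GolayPt} (hx : x ∈ M24) {p : ℕ} (hp : p.Prime) (h2 : p ≠ 2) (ho : orderOf x = p) :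
    (MulAction.fixedBy GolayPt x).ncard ≤ 6 := by
  by_cases h5 : 5 ≤ p
  · exact (fx_le_four hx hp h5 ho).trans (by norm_num)
  · have h3 : p = 3 := by
      have := hp.two_le
      interval_cases p
      · exact absurd rfl h2
      · rfl
      · exact absurd hp (by norm_num)
    subst h3
    have h := Cfsg.Agent.S5608.fx_three hx ho
    rw [fixedBy_ncard]
    omega

section Orbit

variable {Ω : Type*} [Fintype Ω]

/-- Commuting permutations of different prime orders `p`, `q`; `ω` moved by both; `D` invariant under both and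
containing `ω`: `D` contains at least `p q` points moved by both. -/
theorem orbit_card {b c : Equiv.Perm Ω} {p q : ℕ} (hp : p.Prime) (hq : q.Prime) (hpq : p ≠ q) (hb : orderOf b = p)
    (hc : orderOf c = q) (hbc : b * c = c * b) {ω : Ω} (h1 : b ω ≠ ω) (h2 : c ω ≠ ω) {D : Set Ω} (hω : ω ∈ D)
    (hDb : ∀ x ∈ D, b x ∈ D) (hDc : ∀ x ∈ D, c x ∈ D) : p * q ≤ {x | x ∈ D ∧ b x ≠ x ∧ c x ≠ x}.ncard := by
  set g := b * c with hg
  have hcomm : Commute b c := hbc
  have hbp : b ^ p = 1 := by rw [← hb, pow_orderOf_eq_one]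
  have hcq : c ^ q = 1 := by rw [← hc, pow_orderOf_eq_one]
  -- a prime power of `g` fixing `ω`
  have key : ∀ {b c : Equiv.Perm Ω} {p q : ℕ}, p.Prime → q.Prime → p ≠ q → b ^ p = 1 → c ^ q = 1 → Commute b c →
      c ω ≠ ω → ((b * c) ^ p) ω ≠ ω := by
    intro b c p q hp hq hpq hbp hcq hcomm h2 h3
    rw [hcomm.mul_pow, hbp, one_mul] at h3
    apply h2
    obtain ⟨m, hm⟩ := exists_pow_eq_self_of_coprime (n := p) (x := c)
      (by
        have : orderOf c ∣ q := orderOf_dvd_of_pow_eq_one hcq
        exact Nat.Coprime.coprime_dvd_right this ((Nat.coprime_primes hp hq).2 hpq))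
    have h4 : ∀ k : ℕ, ((c ^ p) ^ k) ω = ω := by
      intro k
      induction k with
      | zero => rfl
      | succ k ih => rw [pow_succ, Equiv.Perm.mul_apply, h3, ih]
    rw [← hm]
    exact h4 m
  have hper : ∀ n : ℕ, Function.IsPeriodicPt (fun x => g x) n ω ↔ (g ^ n) ω = ω := by
    intro n
    unfold Function.IsPeriodicPt Function.IsFixedPt
    rw [← Equiv.Perm.iterate_eq_pow]
  set n := Function.minimalPeriod (fun x => g x) ω with hn
  have hgpq : g ^ (p * q) = 1 := by
    rw [hg, hcomm.mul_pow, pow_mul, hbp, one_pow, one_mul, mul_comm p q, pow_mul, hcq, one_pow]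
  have hnd : n ∣ p * q := by
    apply Function.IsPeriodicPt.minimalPeriod_dvd
    rw [hper, hgpq]
    rfl
  have hpow : ∀ m : ℕ, n ∣ m → (g ^ m) ω = ω := by
    intro m hm
    rw [← hper]
    exact (Function.isPeriodicPt_minimalPeriod _ _).trans_dvd hm
  have hpn : p ∣ n := by
    by_contra h
    have h3 : n ∣ q := (Nat.Coprime.dvd_of_dvd_mul_left ((Nat.Prime.coprime_iff_not_dvd hp).2 h).symm hnd)
    refine key hq hp hpq.symm hcq hbp hcomm.symm h1 ?_
    rw [← hcomm.eq]
    exact hpow q h3
  have hqn : q ∣ n := by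
    by_contra h
    have h3 : n ∣ p := (Nat.Coprime.dvd_of_dvd_mul_right ((Nat.Prime.coprime_iff_not_dvd hq).2 h).symm hnd)
    exact key hp hq hpq hbp hcq hcomm h2 (hpow p h3)
  have hn' : n = p * q := Nat.dvd_antisymm hnd (((Nat.coprime_primes hp hq).2 hpq).mul_dvd_of_dvd_of_dvd hpn hqn)
  -- the points `g ^ i ω`
  have hmem : ∀ i : ℕ, (g ^ i) ω ∈ {x | x ∈ D ∧ b x ≠ x ∧ c x ≠ x} := by
    intro i
    have hcb : Commute b g := (Commute.refl b).mul_right hcomm
    have hcc : Commute c g := hcomm.symm.mul_right (Commute.refl c)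
    refine ⟨?_, ?_, ?_⟩
    · induction i with
      | zero => exact hω
      | succ i ih =>
        rw [pow_succ', Equiv.Perm.mul_apply, hg, Equiv.Perm.mul_apply]
        exact hDb _ (hDc _ ih)
    · intro h
      apply h1
      apply (g ^ i).injective
      rw [← Equiv.Perm.mul_apply, ← (hcb.pow_right i).eq, Equiv.Perm.mul_apply]
      exact h
    · intro h
      apply h2
      apply (g ^ i).injective
      rw [← Equiv.Perm.mul_apply, ← (hcc.pow_right i).eq, Equiv.Perm.mul_apply]
      exact h
  have hinj : Set.InjOn (fun i : ℕ => (g ^ i) ω) (Set.Iio n) := by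
    intro i hi j hj hij
    have h3 := Function.iterate_injOn_Iio_minimalPeriod (f := fun x => g x) (x := ω)
    refine h3 hi hj ?_
    have e : ∀ k : ℕ, (fun x => g x)^[k] ω = (g ^ k) ω := fun k => by rw [← Equiv.Perm.iterate_eq_pow]
    change (fun x => g x)^[i] ω = (fun x => g x)^[j] ω
    rw [e, e]
    exact hij
  rw [← hn']
  have h3 : (fun i : ℕ => (g ^ i) ω) '' (Set.Iio n) ⊆ {x | x ∈ D ∧ b x ≠ x ∧ c x ≠ x} := by
    rintro _ ⟨i, -, rfl⟩
    exact hmem i
  calc n = (Set.Iio n).ncard := by
        rw [← Finset.coe_Iio, Set.ncard_coe_finset, Nat.card_Iio]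
    _ = ((fun i : ℕ => (g ^ i) ω) '' (Set.Iio n)).ncard := (Set.InjOn.ncard_image hinj).symm
    _ ≤ _ := Set.ncard_le_ncard h3 (Set.toFinite _)

end Orbit

theorem card_pts : (Set.univ : Set GolayPt).ncard = 24 := by
  rw [Set.ncard_univ, Nat.card_eq_fintype_card]
  rfl

/-- two elements with few fixed points have a common moved point -/
theorem exists_moved {b c : Equiv.Perm GolayPt} (h : (MulAction.fixedBy GolayPt b).ncard + (MulAction.fixedBy GolayPt c).ncard < 24) :
    ∃ ω, b ω ≠ ω ∧ c ω ≠ ω := by
  by_contra hcon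
  push Not at hcon
  have h1 : (Set.univ : Set GolayPt) ⊆ MulAction.fixedBy GolayPt b ∪ MulAction.fixedBy GolayPt c := by
    intro ω _
    by_cases h2 : b ω = ω
    · exact Or.inl h2
    · exact Or.inr (hcon ω h2)
  have h2 := (Set.ncard_le_ncard h1 (Set.toFinite _)).trans (Set.ncard_union_le _ _)
  rw [card_pts] at h2
  omega

theorem moved_le {b : Equiv.Perm GolayPt} {P : GolayPt → Prop} (h : ∀ x, P x → b x ≠ x) :
    {x | P x}.ncard + (MulAction.fixedBy GolayPt b).ncard ≤ 24 := by
  rw [← card_pts, ← Set.ncard_union_eq ?_ (Set.toFinite _) (Set.toFinite _)]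
  · exact Set.ncard_le_ncard (Set.subset_univ _) (Set.toFinite _)
  · rw [Set.disjoint_left]
    intro x hx hx'
    exact h x hx hx'

/-- **Non-adjacency in `M24`.** -/
theorem nadj24 {b c : Equiv.Perm GolayPt} (hb : b ∈ M24) (hc : c ∈ M24) {p q : ℕ} (hp : p.Prime) (hq : q.Prime)
    (hp2 : p ≠ 2) (hq2 : q ≠ 2) (hpq : p ≠ q) (ho : orderOf b = p) (ho' : orderOf c = q) (h : 24 < p * q) : b * c ≠ c * b := by
  intro hbc
  have h1 := fx_le_six hb hp hp2 ho
  have h2 := fx_le_six hc hq hq2 ho'
  obtain ⟨ω, hω, hω'⟩ := exists_moved (b := b) (c := c) (by omega)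
  have h3 := orbit_card hp hq hpq ho ho' hbc hω hω' (D := Set.univ) (Set.mem_univ _) (fun _ _ => Set.mem_univ _)
    (fun _ _ => Set.mem_univ _)
  have h4 := Set.ncard_le_ncard (Set.subset_univ {x | x ∈ (Set.univ : Set GolayPt) ∧ b x ≠ x ∧ c x ≠ x}) (Set.toFinite _)
  rw [card_pts] at h4
  omega

/-- `3` and `7` are not adjacent in `M23`. -/
theorem nadj23 {b c : Equiv.Perm GolayPt} (hb : b ∈ M24) (hc : c ∈ M24) {x : GolayPt} (hbx : b x = x)
    (ho : orderOf b = 3) (ho' : orderOf c = 7) : b * c ≠ c * b := by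
  intro hbc
  have h1 : (MulAction.fixedBy GolayPt b).ncard = 6 := by
    have h := Cfsg.Agent.S5608.fx_three hb ho
    rw [← fixedBy_ncard] at h
    rcases h with h | h
    · exact h
    · exfalso
      rw [Set.ncard_eq_zero (Set.toFinite _)] at h
      have : x ∈ MulAction.fixedBy GolayPt b := hbx
      rw [h] at this
      exact this
  have h2 := fx_le_four hc (by norm_num : Nat.Prime 7) (by norm_num) ho'
  obtain ⟨ω, hω, hω'⟩ := exists_moved (b := b) (c := c) (by omega)
  have h3 := orbit_card (by norm_num : Nat.Prime 3) (by norm_num : Nat.Prime 7) (by norm_num) ho ho' hbc hω hω'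
    (D := Set.univ) (Set.mem_univ _) (fun _ _ => Set.mem_univ _) (fun _ _ => Set.mem_univ _)
  have h4 := moved_le (b := b) (P := fun x => x ∈ (Set.univ : Set GolayPt) ∧ b x ≠ x ∧ c x ≠ x) (fun x hx => hx.2.1)
  change {x | x ∈ (Set.univ : Set GolayPt) ∧ b x ≠ x ∧ c x ≠ x}.ncard + _ ≤ 24 at h4
  omega

/-- An invariant set of 12 points: no adjacent odd primes. -/
theorem nadj12 {b c : Equiv.Perm GolayPt} (hb : b ∈ M24) (hc : c ∈ M24) {D : Finset GolayPt} (hD : D.card = 12)
    (hbD : b • D = D) (hcD : c • D = D) {p q : ℕ} (hp : p.Prime) (hq : q.Prime)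
    (hp2 : p ≠ 2) (hq2 : q ≠ 2) (hpq : p ≠ q) (ho : orderOf b = p) (ho' : orderOf c = q) : b * c ≠ c * b := by
  intro hbc
  have h1 := fx_le_six hb hp hp2 ho
  have h2 := fx_le_six hc hq hq2 ho'
  have hbig : 15 ≤ p * q := by
    have a1 : 3 ≤ p := by
      have := hp.two_le
      omega
    have a2 : 3 ≤ q := by
      have := hq.two_le
      omega
    rcases Nat.lt_or_ge p 5 with h | h
    · have a3 : 5 ≤ q := by
        by_contra hcon
        push Not at hcon
        have b1 : p ≠ 4 := by rintro rfl; norm_num at hp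
        have b2 : q ≠ 4 := by rintro rfl; norm_num at hq
        omega
      nlinarith
    · nlinarith
  obtain ⟨ω, hω, hω'⟩ := exists_moved (b := b) (c := c) (by omega)
  have hmem : ∀ {g : Equiv.Perm GolayPt}, g • D = D → ∀ x, x ∈ D ↔ g x ∈ D := by
    intro g hg x
    conv_rhs => rw [← hg]
    exact (Finset.smul_mem_smul_finset_iff g).symm
  rcases Classical.em (ω ∈ D) with hωD | hωD
  · have h3 := orbit_card hp hq hpq ho ho' hbc hω hω' (D := (D : Set GolayPt)) hωD
      (fun x hx => (hmem hbD x).1 hx) (fun x hx => (hmem hcD x).1 hx)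
    have h4 : {x | x ∈ (D : Set GolayPt) ∧ b x ≠ x ∧ c x ≠ x}.ncard ≤ (D : Set GolayPt).ncard :=
      Set.ncard_le_ncard (fun x hx => hx.1) (Set.toFinite _)
    rw [Set.ncard_coe_finset, hD] at h4
    omega
  · have h3 := orbit_card hp hq hpq ho ho' hbc hω hω' (D := ((D : Set GolayPt)ᶜ)) hωD
      (fun x hx h => hx ((hmem hbD x).2 h)) (fun x hx h => hx ((hmem hcD x).2 h))
    have h4 : {x | x ∈ ((D : Set GolayPt)ᶜ) ∧ b x ≠ x ∧ c x ≠ x}.ncard ≤ ((D : Set GolayPt)ᶜ).ncard :=
      Set.ncard_le_ncard (fun x hx => hx.1) (Set.toFinite _)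
    have h5 := Set.ncard_add_ncard_compl (D : Set GolayPt) (Set.toFinite _) (Set.toFinite _)
    rw [Set.ncard_coe_finset, hD, Nat.card_eq_fintype_card] at h5
    have h6 : Fintype.card GolayPt = 24 := rfl
    omega

/-! ### The rows -/

variable {L : Type u} [Group L]

/-- transport of non-adjacency to a group isomorphic to a subgroup of the permutations -/
theorem nadj_sub {K : Subgroup (Equiv.Perm GolayPt)} (e : L ≃* K) {q r : ℕ}
    (h : ∀ b ∈ K, ∀ c ∈ K, orderOf b = q → orderOf c = r → b * c ≠ c * b) : NAdj L q r := by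
  intro b c hb hc hbc
  refine h (e b) (e b).2 (e c) (e c).2 ?_ ?_ ?_
  · rw [Subgroup.orderOf_coe, MulEquiv.orderOf_eq, hb]
  · rw [Subgroup.orderOf_coe, MulEquiv.orderOf_eq, hc]
  · rw [← Subgroup.coe_mul, ← map_mul, hbc, map_mul]
    rfl

theorem nadjM24 {K : Subgroup (Equiv.Perm GolayPt)} (hK : K ≤ M24) (e : L ≃* K) {p q : ℕ} (hp : p.Prime) (hq : q.Prime)
    (hp2 : p ≠ 2) (hq2 : q ≠ 2) (hpq : p ≠ q) (h : 24 < p * q) : NAdj L p q :=
  nadj_sub e fun _ hb _ hc ho ho' => nadj24 (hK hb) (hK hc) hp hq hp2 hq2 hpq ho ho' h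

theorem nadjM23 {K : Subgroup (Equiv.Perm GolayPt)} (hK : K ≤ Spor.M23) (e : L ≃* K) : NAdj L 3 7 :=
  nadj_sub e fun _ hb _ hc ho ho' => nadj23 (hK hb).1 (hK hc).1 (x := none) (hK hb).2 ho ho'

theorem nadjM12 {K : Subgroup (Equiv.Perm GolayPt)} (hK : K ≤ Spor.M12) (e : L ≃* K) {p q : ℕ} (hp : p.Prime) (hq : q.Prime)
    (hp2 : p ≠ 2) (hq2 : q ≠ 2) (hpq : p ≠ q) : NAdj L p q :=
  nadj_sub e fun _ hb _ hc ho ho' => nadj12 (hK hb).1 (hK hc).1 CpAutTThree.MTwelve.card_dodecad (hK hb).2 (hK hc).2
    hp hq hp2 hq2 hpq ho ho'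

variable [Finite L] {p : ℕ} {a : MulAut L} {b : L}

/-- **`M24`** -/
theorem m24 (h : Spor.IsoM24 L) (S : Sit p a b) : False := by
  obtain ⟨e⟩ := h
  have hn : Nat.card L = 244823040 := by rw [Nat.card_congr e.toEquiv]; exact Cfsg.Agent.S0364.result
  have hN : ∀ p q : ℕ, p.Prime → q.Prime → p ≠ 2 → q ≠ 2 → p ≠ q → 24 < p * q → NAdj L p q :=
    fun _ _ h1 h2 h3 h4 h5 h6 => nadjM24 le_rfl e h1 h2 h3 h4 h5 h6
  have hb := S.mem_list [3, 5, 7, 11, 23] (by simp only [List.forall_mem_cons]; norm_num) hn (by decide +kernel)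
  simp only [List.mem_cons, List.not_mem_nil, or_false] at hb
  rcases hb with hb | hb | hb | hb | hb
  · refine S.false_of_list [11, 23] (by simp only [List.forall_mem_cons]; norm_num) (j := 10) (k := 10) (m := 945) (R := 253)
      hn (by norm_num) (by norm_num) (by decide +kernel) ?_ (by norm_num) (by norm_num)
    rw [hb]
    simp only [List.forall_mem_cons]
    exact ⟨hN 3 11 (by norm_num) (by norm_num) (by norm_num) (by norm_num) (by norm_num) (by norm_num), hN 3 23 (by norm_num) (by norm_num) (by norm_num) (by norm_num) (by norm_num) (by norm_num), by simp⟩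
  · refine S.false_of_list [11, 23] (by simp only [List.forall_mem_cons]; norm_num) (j := 10) (k := 10) (m := 945) (R := 253)
      hn (by norm_num) (by norm_num) (by decide +kernel) ?_ (by norm_num) (by norm_num)
    rw [hb]
    simp only [List.forall_mem_cons]
    exact ⟨hN 5 11 (by norm_num) (by norm_num) (by norm_num) (by norm_num) (by norm_num) (by norm_num), hN 5 23 (by norm_num) (by norm_num) (by norm_num) (by norm_num) (by norm_num) (by norm_num), by simp⟩
  · refine S.false_of_list [11, 23] (by simp only [List.forall_mem_cons]; norm_num) (j := 10) (k := 10) (m := 945) (R := 253)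
      hn (by norm_num) (by norm_num) (by decide +kernel) ?_ (by norm_num) (by norm_num)
    rw [hb]
    simp only [List.forall_mem_cons]
    exact ⟨hN 7 11 (by norm_num) (by norm_num) (by norm_num) (by norm_num) (by norm_num) (by norm_num), hN 7 23 (by norm_num) (by norm_num) (by norm_num) (by norm_num) (by norm_num) (by norm_num), by simp⟩
  · refine S.false_of_list [3, 23] (by simp only [List.forall_mem_cons]; norm_num) (j := 10) (k := 10) (m := 385) (R := 621)
      hn (by norm_num) (by norm_num) (by decide +kernel) ?_ (by norm_num) (by norm_num)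
    rw [hb]
    simp only [List.forall_mem_cons]
    exact ⟨hN 11 3 (by norm_num) (by norm_num) (by norm_num) (by norm_num) (by norm_num) (by norm_num), hN 11 23 (by norm_num) (by norm_num) (by norm_num) (by norm_num) (by norm_num) (by norm_num), by simp⟩
  · refine S.false_of_list [3, 11] (by simp only [List.forall_mem_cons]; norm_num) (j := 10) (k := 10) (m := 805) (R := 297)
      hn (by norm_num) (by norm_num) (by decide +kernel) ?_ (by norm_num) (by norm_num)
    rw [hb]
    simp only [List.forall_mem_cons]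
    exact ⟨hN 23 3 (by norm_num) (by norm_num) (by norm_num) (by norm_num) (by norm_num) (by norm_num), hN 23 11 (by norm_num) (by norm_num) (by norm_num) (by norm_num) (by norm_num) (by norm_num), by simp⟩

/-- **`M23`** -/
theorem m23 (h : Spor.IsoM23 L) (S : Sit p a b) : False := by
  obtain ⟨e⟩ := h
  have hn : Nat.card L = 10200960 := by rw [Nat.card_congr e.toEquiv]; exact Cfsg.Agent.SporadicA.MathieuRecog.card_M23
  have hN : ∀ p q : ℕ, p.Prime → q.Prime → p ≠ 2 → q ≠ 2 → p ≠ q → 24 < p * q → NAdj L p q :=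
    fun _ _ h1 h2 h3 h4 h5 h6 => nadjM24 inf_le_left e h1 h2 h3 h4 h5 h6
  have hb := S.mem_list [3, 5, 7, 11, 23] (by simp only [List.forall_mem_cons]; norm_num) hn (by decide +kernel)
  simp only [List.mem_cons, List.not_mem_nil, or_false] at hb
  rcases hb with hb | hb | hb | hb | hb
  · refine S.false_of_list [7, 11, 23] (by simp only [List.forall_mem_cons]; norm_num) (j := 7) (k := 7) (m := 45) (R := 1771)
      hn (by norm_num) (by norm_num) (by decide +kernel) ?_ (by norm_num) (by norm_num)
    rw [hb]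
    simp only [List.forall_mem_cons]
    exact ⟨nadjM23 le_rfl e, hN 3 11 (by norm_num) (by norm_num) (by norm_num) (by norm_num) (by norm_num) (by norm_num), hN 3 23 (by norm_num) (by norm_num) (by norm_num) (by norm_num) (by norm_num) (by norm_num), by simp⟩
  · refine S.false_of_list [7, 11, 23] (by simp only [List.forall_mem_cons]; norm_num) (j := 7) (k := 7) (m := 45) (R := 1771)
      hn (by norm_num) (by norm_num) (by decide +kernel) ?_ (by norm_num) (by norm_num)
    rw [hb]
    simp only [List.forall_mem_cons]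
    exact ⟨hN 5 7 (by norm_num) (by norm_num) (by norm_num) (by norm_num) (by norm_num) (by norm_num), hN 5 11 (by norm_num) (by norm_num) (by norm_num) (by norm_num) (by norm_num) (by norm_num), hN 5 23 (by norm_num) (by norm_num) (by norm_num) (by norm_num) (by norm_num) (by norm_num), by simp⟩
  · refine S.false_of_list [5, 11, 23] (by simp only [List.forall_mem_cons]; norm_num) (j := 7) (k := 7) (m := 63) (R := 1265)
      hn (by norm_num) (by norm_num) (by decide +kernel) ?_ (by norm_num) (by norm_num)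
    rw [hb]
    simp only [List.forall_mem_cons]
    exact ⟨hN 7 5 (by norm_num) (by norm_num) (by norm_num) (by norm_num) (by norm_num) (by norm_num), hN 7 11 (by norm_num) (by norm_num) (by norm_num) (by norm_num) (by norm_num) (by norm_num), hN 7 23 (by norm_num) (by norm_num) (by norm_num) (by norm_num) (by norm_num) (by norm_num), by simp⟩
  · refine S.false_of_list [3, 5, 23] (by simp only [List.forall_mem_cons]; norm_num) (j := 7) (k := 7) (m := 77) (R := 1035)
      hn (by norm_num) (by norm_num) (by decide +kernel) ?_ (by norm_num) (by norm_num)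
    rw [hb]
    simp only [List.forall_mem_cons]
    exact ⟨hN 11 3 (by norm_num) (by norm_num) (by norm_num) (by norm_num) (by norm_num) (by norm_num), hN 11 5 (by norm_num) (by norm_num) (by norm_num) (by norm_num) (by norm_num) (by norm_num), hN 11 23 (by norm_num) (by norm_num) (by norm_num) (by norm_num) (by norm_num) (by norm_num), by simp⟩
  · refine S.false_of_list [3, 7, 11] (by simp only [List.forall_mem_cons]; norm_num) (j := 7) (k := 7) (m := 115) (R := 693)
      hn (by norm_num) (by norm_num) (by decide +kernel) ?_ (by norm_num) (by norm_num)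
    rw [hb]
    simp only [List.forall_mem_cons]
    exact ⟨hN 23 3 (by norm_num) (by norm_num) (by norm_num) (by norm_num) (by norm_num) (by norm_num), hN 23 7 (by norm_num) (by norm_num) (by norm_num) (by norm_num) (by norm_num) (by norm_num), hN 23 11 (by norm_num) (by norm_num) (by norm_num) (by norm_num) (by norm_num) (by norm_num), by simp⟩

/-- **`M22`** -/
theorem m22 (h : Spor.IsoM22 L) (S : Sit p a b) : False := by
  obtain ⟨e⟩ := h
  have hn : Nat.card L = 443520 := by rw [Nat.card_congr e.toEquiv]; exact Cfsg.Agent.SporadicA.MathieuRecog.card_M22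
  have hN : ∀ p q : ℕ, p.Prime → q.Prime → p ≠ 2 → q ≠ 2 → p ≠ q → 24 < p * q → NAdj L p q :=
    fun _ _ h1 h2 h3 h4 h5 h6 => nadjM24 (inf_le_left.trans inf_le_left) e h1 h2 h3 h4 h5 h6
  have hb := S.mem_list [3, 5, 7, 11] (by simp only [List.forall_mem_cons]; norm_num) hn (by decide +kernel)
  simp only [List.mem_cons, List.not_mem_nil, or_false] at hb
  rcases hb with hb | hb | hb | hb
  · refine S.false_of_list [7, 11] (by simp only [List.forall_mem_cons]; norm_num) (j := 7) (k := 7) (m := 45) (R := 77)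
      hn (by norm_num) (by norm_num) (by decide +kernel) ?_ (by norm_num) (by norm_num)
    rw [hb]
    simp only [List.forall_mem_cons]
    exact ⟨nadjM23 inf_le_left e, hN 3 11 (by norm_num) (by norm_num) (by norm_num) (by norm_num) (by norm_num) (by norm_num), by simp⟩
  · refine S.false_of_list [7, 11] (by simp only [List.forall_mem_cons]; norm_num) (j := 7) (k := 7) (m := 45) (R := 77)
      hn (by norm_num) (by norm_num) (by decide +kernel) ?_ (by norm_num) (by norm_num)
    rw [hb]
    simp only [List.forall_mem_cons]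
    exact ⟨hN 5 7 (by norm_num) (by norm_num) (by norm_num) (by norm_num) (by norm_num) (by norm_num), hN 5 11 (by norm_num) (by norm_num) (by norm_num) (by norm_num) (by norm_num) (by norm_num), by simp⟩
  · refine S.false_of_list [5, 11] (by simp only [List.forall_mem_cons]; norm_num) (j := 7) (k := 7) (m := 63) (R := 55)
      hn (by norm_num) (by norm_num) (by decide +kernel) ?_ (by norm_num) (by norm_num)
    rw [hb]
    simp only [List.forall_mem_cons]
    exact ⟨hN 7 5 (by norm_num) (by norm_num) (by norm_num) (by norm_num) (by norm_num) (by norm_num), hN 7 11 (by norm_num) (by norm_num) (by norm_num) (by norm_num) (by norm_num) (by norm_num), by simp⟩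
  · refine S.false_of_list [3, 5] (by simp only [List.forall_mem_cons]; norm_num) (j := 7) (k := 7) (m := 77) (R := 45)
      hn (by norm_num) (by norm_num) (by decide +kernel) ?_ (by norm_num) (by norm_num)
    rw [hb]
    simp only [List.forall_mem_cons]
    exact ⟨hN 11 3 (by norm_num) (by norm_num) (by norm_num) (by norm_num) (by norm_num) (by norm_num), hN 11 5 (by norm_num) (by norm_num) (by norm_num) (by norm_num) (by norm_num) (by norm_num), by simp⟩

/-- **`M12`** -/
theorem m12 (h : Spor.IsoM12 L) (S : Sit p a b) : False := by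
  obtain ⟨e⟩ := h
  have hn : Nat.card L = 95040 := by rw [Nat.card_congr e.toEquiv]; exact Cfsg.Agent.MTwelveType.SylowModel.card_M12
  have hN : ∀ p q : ℕ, p.Prime → q.Prime → p ≠ 2 → q ≠ 2 → p ≠ q → 0 < p * q → NAdj L p q :=
    fun _ _ h1 h2 h3 h4 h5 _ => nadjM12 le_rfl e h1 h2 h3 h4 h5
  have hb := S.mem_list [3, 5, 11] (by simp only [List.forall_mem_cons]; norm_num) hn (by decide +kernel)
  simp only [List.mem_cons, List.not_mem_nil, or_false] at hb
  rcases hb with hb | hb | hb
  · refine S.false_of_list [5, 11] (by simp only [List.forall_mem_cons]; norm_num) (j := 6) (k := 6) (m := 27) (R := 55)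
      hn (by norm_num) (by norm_num) (by decide +kernel) ?_ (by norm_num) (by norm_num)
    rw [hb]
    simp only [List.forall_mem_cons]
    exact ⟨hN 3 5 (by norm_num) (by norm_num) (by norm_num) (by norm_num) (by norm_num) (by norm_num), hN 3 11 (by norm_num) (by norm_num) (by norm_num) (by norm_num) (by norm_num) (by norm_num), by simp⟩
  · refine S.false_of_list [3, 11] (by simp only [List.forall_mem_cons]; norm_num) (j := 6) (k := 6) (m := 5) (R := 297)
      hn (by norm_num) (by norm_num) (by decide +kernel) ?_ (by norm_num) (by norm_num)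
    rw [hb]
    simp only [List.forall_mem_cons]
    exact ⟨hN 5 3 (by norm_num) (by norm_num) (by norm_num) (by norm_num) (by norm_num) (by norm_num), hN 5 11 (by norm_num) (by norm_num) (by norm_num) (by norm_num) (by norm_num) (by norm_num), by simp⟩
  · refine S.false_of_list [3, 5] (by simp only [List.forall_mem_cons]; norm_num) (j := 6) (k := 6) (m := 11) (R := 135)
      hn (by norm_num) (by norm_num) (by decide +kernel) ?_ (by norm_num) (by norm_num)
    rw [hb]
    simp only [List.forall_mem_cons]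
    exact ⟨hN 11 3 (by norm_num) (by norm_num) (by norm_num) (by norm_num) (by norm_num) (by norm_num), hN 11 5 (by norm_num) (by norm_num) (by norm_num) (by norm_num) (by norm_num) (by norm_num), by simp⟩

/-- **`M11`** -/
theorem m11 (h : Spor.IsoM11 L) (S : Sit p a b) : False := by
  obtain ⟨e⟩ := h
  have hn : Nat.card L = 7920 := by rw [Nat.card_congr e.toEquiv]; exact Cfsg.Agent.H994.TwoGen.M11.card_M11
  have hN : ∀ p q : ℕ, p.Prime → q.Prime → p ≠ 2 → q ≠ 2 → p ≠ q → 0 < p * q → NAdj L p q :=
    fun _ _ h1 h2 h3 h4 h5 _ => nadjM12 inf_le_left e h1 h2 h3 h4 h5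
  have hb := S.mem_list [3, 5, 11] (by simp only [List.forall_mem_cons]; norm_num) hn (by decide +kernel)
  simp only [List.mem_cons, List.not_mem_nil, or_false] at hb
  rcases hb with hb | hb | hb
  · refine S.false_of_list [5, 11] (by simp only [List.forall_mem_cons]; norm_num) (j := 4) (k := 4) (m := 9) (R := 55)
      hn (by norm_num) (by norm_num) (by decide +kernel) ?_ (by norm_num) (by norm_num)
    rw [hb]
    simp only [List.forall_mem_cons]
    exact ⟨hN 3 5 (by norm_num) (by norm_num) (by norm_num) (by norm_num) (by norm_num) (by norm_num), hN 3 11 (by norm_num) (by norm_num) (by norm_num) (by norm_num) (by norm_num) (by norm_num), by simp⟩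
  · refine S.false_of_list [3, 11] (by simp only [List.forall_mem_cons]; norm_num) (j := 4) (k := 4) (m := 5) (R := 99)
      hn (by norm_num) (by norm_num) (by decide +kernel) ?_ (by norm_num) (by norm_num)
    rw [hb]
    simp only [List.forall_mem_cons]
    exact ⟨hN 5 3 (by norm_num) (by norm_num) (by norm_num) (by norm_num) (by norm_num) (by norm_num), hN 5 11 (by norm_num) (by norm_num) (by norm_num) (by norm_num) (by norm_num) (by norm_num), by simp⟩
  · refine S.false_of_list [3, 5] (by simp only [List.forall_mem_cons]; norm_num) (j := 4) (k := 4) (m := 11) (R := 45)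
      hn (by norm_num) (by norm_num) (by decide +kernel) ?_ (by norm_num) (by norm_num)
    rw [hb]
    simp only [List.forall_mem_cons]
    exact ⟨hN 11 3 (by norm_num) (by norm_num) (by norm_num) (by norm_num) (by norm_num) (by norm_num), hN 11 5 (by norm_num) (by norm_num) (by norm_num) (by norm_num) (by norm_num) (by norm_num), by simp⟩

end Cfsg.Agent.H516.Mathieu
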