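import Cfsg.Agent.H516.Bad
import Cfsg.Agent.Lib.Cores
import Cfsg.Agent.SignalizersComponents.FStarNormal
import Cfsg.Agent.S0215

/-!
# S4095, S4096, S4094: bad automorphisms, components, the Z*-theorem

* `Bad.map_component`, `Bad.eq_one_of_pCore` : **a bad automorphism of `H` is trivial if `O_p(H) = 1` and the rows
  hold for the `K / Z(K)`, `K` a component of `H`**;
* `Bad.false_of_two` : a simple nonabelian group has no nontrivial automorphism of 2-power order bad at an odd prime (Z*).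
-/

set_option autoImplicit false

namespace Cfsg.Agent.H516

open Subgroup Cfsg Cfsg.Agent.SignalizersComponents.Components
open scoped commutatorElement Pointwise

universe u v

section Comp

variable {H : Type u} [Group H] {p : ℕ} {a : MulAut H}

theorem isPGroup_quot_center [Finite H] (hp : p.Prime) {K : Subgroup H}
    (h : ∀ k : K, (orderOf k).Coprime p → k ∈ center K) : IsPGroup p (K ⧸ center K) := by
  intro y
  obtain ⟨k, rfl⟩ := QuotientGroup.mk_surjective y
  obtain ⟨n, m, hm, hk⟩ := Nat.exists_eq_pow_mul_and_not_dvd (orderOf_pos k).ne' p hp.ne_one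
  refine ⟨n, ?_⟩
  rw [← QuotientGroup.mk_pow, QuotientGroup.eq_one_iff]
  apply h
  rw [orderOf_pow_of_dvd (pow_ne_zero _ hp.ne_zero) (by rw [hk]; exact dvd_mul_right _ _), hk,
    Nat.mul_div_cancel_left _ (pow_pos hp.pos _)]
  exact ((Nat.Prime.coprime_iff_not_dvd hp).2 hm).symm

/-- A bad automorphism fixes every component. -/
theorem Bad.map_component [Finite H] (hp : p.Prime) (h : Bad p a) {K : Subgroup H} (hK : IsComponent K) :
    K.map a.toMonoidHom = K := by
  by_contra hne
  have hK' : IsComponent (K.map a.toMonoidHom) := isComponent_map_equiv a hK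
  have hcomm := component_le_centralizer_of_ne hK' hK hne
  have hf : Fact p.Prime := ⟨hp⟩
  apply quasisimple_not_isSolvable hK.2
  have h1 : IsPGroup p (K ⧸ center K) := by
    refine isPGroup_quot_center hp fun k hk => ?_
    have hc : ∀ x : K, a (k : H) * (x : H) = (x : H) * a (k : H) := fun x =>
      (mem_centralizer_iff.1 (hcomm ⟨k, k.2, rfl⟩) x x.2).symm
    have h2 : a (k : H) = k :=
      h.fix_of_commute (by rwa [Subgroup.orderOf_coe]) (hc k) hp.ne_one
    rw [mem_center_iff]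
    intro x
    apply Subtype.ext
    have h3 := hc x
    rw [h2] at h3
    exact h3.symm
  have h2 : Group.IsNilpotent (K ⧸ center K) := h1.isNilpotent
  have h3 : Group.IsNilpotent K := Group.of_quotient_center_nilpotent h2
  infer_instance

theorem not_dvd_card_fitting [Finite H] [hf : Fact p.Prime] (h : pCore p H = ⊥) :
    ¬ p ∣ Nat.card ↥(fittingSubgroup H) := by
  intro hdvd
  have : Group.IsNilpotent ↥(fittingSubgroup H) := Lib.Cores.fittingSubgroup_isNilpotent
  have h1 := Lib.Cores.map_subtype_pCore p (N := fittingSubgroup H) Lib.Cores.fittingSubgroup_normal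
  rw [h, inf_bot_eq, Subgroup.map_eq_bot_iff_of_injective _ (Subgroup.subtype_injective _)] at h1
  obtain ⟨T⟩ : Nonempty (Sylow p ↥(fittingSubgroup H)) := inferInstance
  have hTn : (T : Subgroup ↥(fittingSubgroup H)).Normal := inferInstance
  have h2 : (T : Subgroup ↥(fittingSubgroup H)) ≤ pCore p ↥(fittingSubgroup H) :=
    Lib.Cores.le_pCore hTn T.isPGroup'
  rw [h1, le_bot_iff] at h2
  have h3 := T.dvd_card_of_dvd_card hdvd
  rw [h2, Subgroup.card_bot] at h3
  exact hf.1.one_lt.ne' (Nat.dvd_one.1 h3)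

theorem card_center_component [Finite H] {K : Subgroup H} (hK : IsComponent K) :
    Nat.card (center K) ∣ Nat.card ↥(fittingSubgroup H) := by
  have h1 : ((center K).map K.subtype).IsSubnormal := by
    have h2 : (center K).IsSubnormal := (inferInstance : (center K).Normal).isSubnormal
    exact h2.trans' hK.1
  have h3 : (center K).map K.subtype ≤ fittingSubgroup H := by
    refine SignalizersComponents.FStarNormal.le_fitting_of_subnormal h1 ?_
    have hn : Group.IsNilpotent (center K) := open scoped IsMulCommutative in inferInstance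
    exact Group.nilpotent_of_mulEquiv ((center K).equivMapOfInjective K.subtype K.subtype_injective)
  have h4 : Nat.card ((center K).map K.subtype) = Nat.card (center K) :=
    Nat.card_congr ((center K).equivMapOfInjective K.subtype K.subtype_injective).symm.toEquiv
  rw [← h4]
  exact Subgroup.card_dvd_of_le h3

/-- **A bad automorphism of a group with `O_p = 1` is trivial**, if the rows hold for the components modulo their
centers. -/
theorem Bad.eq_one_of_pCore [Finite H] (hp : p.Prime) (hO : pCore p H = ⊥)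
    (hr : ∀ K : Subgroup H, IsComponent K → Row p (K ⧸ center K)) (h : Bad p a) : a = 1 := by
  have hf : Fact p.Prime := ⟨hp⟩
  have hF := not_dvd_card_fitting (H := H) hO
  have hmapF : (fittingSubgroup H).map a.toMonoidHom = fittingSubgroup H := Lib.Cores.map_equiv_fittingSubgroup a
  have h1 : fittingSubgroup H ≤ fixedSubgroup a := by
    refine h.le_fixed hF fun s hs => ?_
    have h2 : a s ∈ (fittingSubgroup H).map a.toMonoidHom := ⟨s, hs, rfl⟩
    rwa [hmapF] at h2
  have h2 : layer H ≤ fixedSubgroup a := by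
    rw [layer_le_iff]
    intro K hK
    have h3 := h.map_component hp hK
    refine le_fixed_of_res (hH := h3) ?_
    exact (h.res K h3).eq_one_of_quasisimple hp hK.2 (fun h4 => hF (h4.trans (card_center_component hK))) (hr K hK)
  have h3 : generalizedFittingSubgroup H ≤ fixedSubgroup a := sup_le h2 h1
  ext s
  change a s = s
  have h4 : (a s)⁻¹ * s ∈ centralizer (generalizedFittingSubgroup H : Set H) := by
    rw [mem_centralizer_iff]
    intro f hf'
    have hn : (generalizedFittingSubgroup H).Normal := TwoFusion.FStarControl.genFitting_normal _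
    have h5 : a (s * f * s⁻¹) = s * f * s⁻¹ := h3 (hn.conj_mem f hf' s)
    have h6 : a f = f := h3 hf'
    rw [map_mul, map_mul, map_inv, h6] at h5
    -- `a s * f * (a s)⁻¹ = s * f * s⁻¹`
    calc f * ((a s)⁻¹ * s) = (a s)⁻¹ * (a s * f * (a s)⁻¹) * s := by group
      _ = (a s)⁻¹ * (s * f * s⁻¹) * s := by rw [h5]
      _ = (a s)⁻¹ * s * f := by group
  have h5 := TwoFusion.FStarControl.centralizer_genFitting_le_fitting h4
  refine h.fix fun h6 => hF (h6.trans ?_)
  have h7 := orderOf_dvd_natCard (⟨_, h5⟩ : fittingSubgroup H)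
  rwa [Subgroup.orderOf_mk] at h7

end Comp

section ZStar

variable {G : Type u} [Group G]

theorem isPGroup_zpowers {p : ℕ} {x : G} {n : ℕ} (h : x ^ p ^ n = 1) : IsPGroup p (zpowers x) := by
  rintro ⟨y, hy⟩
  obtain ⟨i, rfl⟩ := mem_zpowers_iff.1 hy
  refine ⟨n, Subtype.ext ?_⟩
  change (x ^ i) ^ p ^ n = 1
  rw [← zpow_natCast, zpow_comm, zpow_natCast, h, one_zpow]

/-- A `p`-element `x` fused in the Sylow `p`-subgroup `P ∋ x` only to itself: the same holds for its powers. -/
theorem isolated_pow [Finite G] {p : ℕ} [Fact p.Prime] (P : Sylow p G) {x : G} (hx : x ∈ P)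
    (h : ∀ g : G, g * x * g⁻¹ ∈ P → g * x * g⁻¹ = x) (k : ℕ) (g : G) (hg : g * x ^ k * g⁻¹ ∈ P) :
    g * x ^ k * g⁻¹ = x ^ k := by
  set z := x ^ k with hz
  set w := g * z * g⁻¹ with hw
  have hxP' : ∀ y ∈ P, y * x = x * y := fun y hy => by
    have h1 := h y (mul_mem (mul_mem hy hx) (inv_mem hy))
    rwa [mul_inv_eq_iff_eq_mul] at h1
  have hzP : ∀ y ∈ P, y * z = z * y := fun y hy => by
    have h1 : Commute y x := hxP' y hy
    exact h1.pow_right k
  -- `C = C_G(w)`
  have hxC : x ∈ centralizer ({w} : Set G) := mem_centralizer_singleton_iff.2 (hxP' w hg).symm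
  have hPC : ((g • P : Sylow p G) : Subgroup G) ≤ centralizer ({w} : Set G) := by
    intro y hy
    rw [Sylow.coe_subgroup_smul] at hy
    obtain ⟨q, hq, rfl⟩ := hy
    rw [mem_centralizer_singleton_iff]
    have h1 := hzP q hq
    change (g * q * g⁻¹) * (g * z * g⁻¹) = (g * z * g⁻¹) * (g * q * g⁻¹)
    calc (g * q * g⁻¹) * (g * z * g⁻¹) = g * (q * z) * g⁻¹ := by group
      _ = g * (z * q) * g⁻¹ := by rw [h1]
      _ = (g * z * g⁻¹) * (g * q * g⁻¹) := by group
  let Q1 : Sylow p ↥(centralizer ({w} : Set G)) := (g • P).subtype hPC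
  obtain ⟨n, hn⟩ := P.2 ⟨x, hx⟩
  have hn' : x ^ p ^ n = 1 := congrArg (fun y : P => (y : G)) hn
  have hzp : IsPGroup p (zpowers (⟨x, hxC⟩ : ↥(centralizer ({w} : Set G)))) :=
    isPGroup_zpowers (n := n) (Subtype.ext hn')
  obtain ⟨Q2, hQ2⟩ := hzp.exists_le_sylow
  obtain ⟨c, hc⟩ := MulAction.exists_smul_eq ↥(centralizer ({w} : Set G)) Q2 Q1
  have h1 : c * (⟨x, hxC⟩ : ↥(centralizer ({w} : Set G))) * c⁻¹ ∈ (Q1 : Subgroup ↥(centralizer ({w} : Set G))) := by
    rw [← hc, Sylow.coe_subgroup_smul]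
    exact ⟨⟨x, hxC⟩, hQ2 (mem_zpowers _), rfl⟩
  have h2 : (c : G) * x * (c : G)⁻¹ ∈ ((g • P : Sylow p G) : Subgroup G) := h1
  rw [Sylow.coe_subgroup_smul] at h2
  obtain ⟨q, hq, hq'⟩ := h2
  have hq'' : g * q * g⁻¹ = (c : G) * x * (c : G)⁻¹ := hq'
  have h3 : (g⁻¹ * c) * x * (g⁻¹ * c)⁻¹ = q := by
    calc (g⁻¹ * c) * x * (g⁻¹ * c)⁻¹ = g⁻¹ * (c * x * (c : G)⁻¹) * g := by group
      _ = g⁻¹ * (g * q * g⁻¹) * g := by rw [hq'']
      _ = q := by group
  have h4 : (g⁻¹ * c) * x * (g⁻¹ * c)⁻¹ = x := h _ (by rw [h3]; exact hq)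
  have h5 : Commute (g⁻¹ * c) x := mul_inv_eq_iff_eq_mul.1 h4
  have h6 : (g⁻¹ * c) * z = z * (g⁻¹ * c) := h5.pow_right k
  have h7 : (c : G) * w = w * c := mem_centralizer_singleton_iff.1 c.2
  -- `c z c⁻¹ = w`
  have h8 : (c : G) * z = w * c := by
    calc (c : G) * z = g * ((g⁻¹ * c) * z) := by group
      _ = g * (z * (g⁻¹ * c)) := by rw [h6]
      _ = g * z * g⁻¹ * c := by group
  rw [← h7] at h8
  exact (mul_left_cancel h8).symm

end ZStar

section Two

variable {L : Type u} [Group L] {p : ℕ} {a : MulAut L}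

theorem conj_injective (hc : center L = ⊥) : Function.Injective (MulAut.conj : L →* MulAut L) := by
  rw [← MonoidHom.ker_eq_bot_iff, eq_bot_iff, ← hc]
  intro x hx
  rw [mem_center_iff]
  intro y
  have h1 : MulAut.conj x y = y := by rw [(MonoidHom.mem_ker).1 hx]; rfl
  rw [MulAut.conj_apply, mul_inv_eq_iff_eq_mul] at h1
  exact h1.symm

theorem aut_conj (b : MulAut L) (s : L) : b * MulAut.conj s * b⁻¹ = MulAut.conj (b s) := by
  ext y
  simp only [MulAut.mul_apply, MulAut.conj_apply, map_mul, map_inv]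
  rw [← MulAut.mul_apply, mul_inv_cancel, MulAut.one_apply]

/-- **Z***: a simple group of even order has no nontrivial automorphism of 2-power order bad at an odd prime. -/
theorem Bad.false_of_two [Finite L] [IsSimpleGroup L] (hc : center L = ⊥) (he : Even (Nat.card L)) (hp2 : ¬ p ∣ 2) (hp : p.Prime) (h : Bad p a)
    {n : ℕ} (ha : orderOf a = 2 ^ (n + 1)) : False := by
  have hf2 : Fact (Nat.Prime 2) := ⟨Nat.prime_two⟩
  have hinj := conj_injective hc
  let ι : L →* MulAut L := MulAut.conj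
  have hn : ι.range.Normal := by
    constructor
    rintro _ ⟨s, rfl⟩ b
    exact ⟨b s, (aut_conj b s).symm⟩
  let G : Subgroup (MulAut L) := ι.range ⊔ zpowers a
  have haG : a ∈ G := (le_sup_right : zpowers a ≤ G) (mem_zpowers a)
  have hιG : ∀ s, ι s ∈ G := fun s => (le_sup_left : ι.range ≤ G) ⟨s, rfl⟩
  have hGd : ∀ g ∈ G, ∃ (s : L) (k : ℤ), g = ι s * a ^ k := by
    intro g hg
    have h1 : g ∈ ((ι.range ⊔ zpowers a : Subgroup (MulAut L)) : Set (MulAut L)) := hg
    rw [Subgroup.normal_mul] at h1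
    obtain ⟨_, ⟨s, rfl⟩, _, ⟨k, rfl⟩, hk⟩ := h1
    exact ⟨s, k, hk.symm⟩
  let x : G := ⟨a, haG⟩
  have hxo : orderOf x = 2 ^ (n + 1) := by rw [← ha]; exact Subgroup.orderOf_mk a haG
  obtain ⟨P, hP⟩ := (isPGroup_zpowers (p := 2) (n := n + 1) (x := x) (by rw [← hxo]; exact pow_orderOf_eq_one x)).exists_le_sylow
  have hxP : x ∈ P := hP (mem_zpowers x)
  have hiso : ∀ g : G, g * x * g⁻¹ ∈ P → g * x * g⁻¹ = x := by
    intro g hg
    obtain ⟨s, k, hk⟩ := hGd g g.2
    have h1 : ((g * x * g⁻¹ * x⁻¹ : G) : MulAut L) = ι (s * (a s)⁻¹) := by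
      change (g : MulAut L) * a * (g : MulAut L)⁻¹ * a⁻¹ = ι (s * (a s)⁻¹)
      have h2 : (g : MulAut L) * a * (g : MulAut L)⁻¹ = ι s * a * (ι s)⁻¹ := by
        rw [hk]
        have : Commute (a ^ k) a := Commute.zpow_left (Commute.refl a) k
        calc ι s * a ^ k * a * (ι s * a ^ k)⁻¹ = ι s * (a ^ k * a) * (a ^ k)⁻¹ * (ι s)⁻¹ := by group
          _ = ι s * (a * a ^ k) * (a ^ k)⁻¹ * (ι s)⁻¹ := by rw [this.eq]
          _ = ι s * a * (ι s)⁻¹ := by group
      rw [h2, map_mul, map_inv]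
      have h3 := aut_conj a s
      calc ι s * a * (ι s)⁻¹ * a⁻¹ = ι s * (a * (ι s) * a⁻¹)⁻¹ := by group
        _ = ι s * (ι (a s))⁻¹ := by rw [show a * ι s * a⁻¹ = ι (a s) from h3]
    have h2 : g * x * g⁻¹ * x⁻¹ ∈ P := mul_mem hg (inv_mem hxP)
    have h3 : ∃ m, orderOf (g * x * g⁻¹ * x⁻¹ : G) = 2 ^ m := by
      obtain ⟨m, hm⟩ := P.2 ⟨_, h2⟩
      have hm' : (g * x * g⁻¹ * x⁻¹ : G) ^ 2 ^ m = 1 := congrArg (fun y : P => (y : G)) hm
      obtain ⟨j, -, hj⟩ := (Nat.dvd_prime_pow Nat.prime_two).1 (orderOf_dvd_of_pow_eq_one hm')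
      exact ⟨j, hj⟩
    obtain ⟨m, hm⟩ := h3
    rw [← Subgroup.orderOf_coe, h1, orderOf_injective ι hinj] at hm
    have h4 : orderOf ((a s)⁻¹ * s) = 2 ^ m := by
      rw [← hm]
      have h5 : s * (a s)⁻¹ = MulAut.conj s ((a s)⁻¹ * s) := by
        rw [MulAut.conj_apply]; group
      rw [h5, MulEquiv.orderOf_eq]
    have h5 : a s = s := by
      refine h.fix fun h6 => hp2 ?_
      rw [h4] at h6
      exact hp.dvd_of_dvd_pow h6
    have h6 : g * x * g⁻¹ * x⁻¹ = 1 := by
      apply Subtype.ext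
      rw [h1, h5, mul_inv_cancel, map_one]
      rfl
    exact mul_inv_eq_one.1 h6
  -- the involution
  let u : G := x ^ 2 ^ n
  have hu : orderOf u = 2 := by
    change orderOf (x ^ 2 ^ n) = 2
    rw [orderOf_pow_of_dvd (pow_ne_zero _ (by norm_num)) (by rw [hxo]; exact pow_dvd_pow 2 (Nat.le_succ n)), hxo, pow_succ,
      Nat.mul_div_cancel_left _ (pow_pos (by norm_num) _)]
  obtain ⟨N, hN, hNo, hNc⟩ := S0215.result P u hu (pow_mem hxP _) (fun g hg => isolated_pow P hxP hiso _ g hg)
  let κ : L →* G := ι.codRestrict G hιG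
  have hκ : Function.Injective κ := fun s t hst => hinj (congrArg (fun y : G => (y : MulAut L)) hst)
  have hM : (N.comap κ).Normal := hN.comap κ
  rcases hM.eq_bot_or_eq_top with hM | hM
  · have h1 : ∀ s : L, (u : MulAut L) s = s := by
      intro s
      have h2 := hNc (κ s)
      have h3 : u * κ s * u⁻¹ * (κ s)⁻¹ = κ ((u : MulAut L) s * s⁻¹) := by
        apply Subtype.ext
        change (u : MulAut L) * ι s * (u : MulAut L)⁻¹ * (ι s)⁻¹ = ι ((u : MulAut L) s * s⁻¹)
        rw [show (u : MulAut L) * ι s * (u : MulAut L)⁻¹ = ι ((u : MulAut L) s) from aut_conj _ s, map_mul, map_inv]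
      rw [h3] at h2
      have h4 : (u : MulAut L) s * s⁻¹ ∈ N.comap κ := h2
      rw [hM, mem_bot, mul_inv_eq_one] at h4
      exact h4
    have h2 : u = 1 := by
      apply Subtype.ext
      ext s
      exact h1 s
    rw [h2, orderOf_one] at hu
    norm_num at hu
  · have h1 : κ.range ≤ N := by
      rintro _ ⟨s, rfl⟩
      have : s ∈ N.comap κ := by rw [hM]; exact mem_top s
      exact this
    have h2 : Nat.card κ.range = Nat.card L := (Nat.card_congr (MonoidHom.ofInjective hκ).toEquiv).symm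
    have h3 := Subgroup.card_dvd_of_le h1
    rw [h2] at h3
    exact (Nat.not_even_iff_odd.2 hNo) (he.trans_dvd h3)

end Two

end Cfsg.Agent.H516
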