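import Cfsg.Agent.H516.Zip
import Cfsg.Agent.UniqLoc.Second
import Cfsg.Agent.Involutions.BaerSuzuki
import Cfsg.Prelude.Def_KGroupFacts

/-!
# The frame of the rows of S4094 and S4095 at the prime 2 (helper516)

`G = N⟨x⟩`, `Wk 2 N x` (a minimal counterexample to the weak form S4095; `wk_of_min : MinCtx 2 N x → Wk 2 N x`),
`2 ∣ o(x)`.

* `NXC S` : `S` is generated by the normalizers of the proper nontrivial subgroups invariant under all automorphisms of
  `S` which normalize a fixed Sylow 2-subgroup;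
* `false_of_nxc` : `NXC N` is impossible (`x` inner or outer);
* `nxc_of_norm`, `nxc_of_second`, `nxc_of_second'`, `nxc_of_two` : criteria (hypotheses as in `UniqLoc.Second`);
* `false_of_nun` : `x ∈ N` and `UniqLoc.NUN N` is impossible;
* `mem_of_out` : `x ∈ N` if `|Out N| = 1`;
* `not_sq` : `x² ≠ 1`;
* `cent_of_inv`, `mem_core_of_inv` : the centralizer of the involution in `⟨x⟩`.
-/

set_option autoImplicit false
set_option linter.unusedSectionVars false

namespace Cfsg.Agent.H516.Two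

open Subgroup Cfsg
open Cfsg.Agent.Lib.Cores
open Cfsg.Agent.H472.ComRed
open Cfsg.Agent.H516.Zip
open Cfsg.Agent.UniqLoc

universe u

section nxc

variable {S : Type*} [Group S]

/-- `H` is invariant under the automorphisms normalizing `T`. -/
def Inv (T H : Subgroup S) : Prop := ∀ α : MulAut S, T.map α.toMonoidHom = T → H.map α.toMonoidHom = H

/-- `S` is generated by the normalizers of the nontrivial proper subgroups invariant under the automorphisms of `S`
normalizing the Sylow 2-subgroup `T`. -/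
def NXC (S : Type*) [Group S] : Prop := ∃ T : Sylow 2 S, ∀ Y : Subgroup S,
  (∀ H : Subgroup S, H ≠ ⊥ → H ≠ ⊤ → Inv (T : Subgroup S) H → normalizer (H : Set S) ≤ Y) → Y = ⊤

theorem map_toMonoidHom_mul (α β : MulAut S) (H : Subgroup S) :
    H.map (α * β).toMonoidHom = (H.map β.toMonoidHom).map α.toMonoidHom := by
  rw [map_map]
  rfl

theorem map_one_aut (H : Subgroup S) : H.map (1 : MulAut S).toMonoidHom = H := map_id H

theorem map_inv_aut {α : MulAut S} {H K : Subgroup S} (h : H.map α.toMonoidHom = K) :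
    K.map (α⁻¹).toMonoidHom = H := by
  rw [← h, ← map_toMonoidHom_mul, inv_mul_cancel, map_one_aut]

theorem map_normalizer_aut (α : MulAut S) (K : Subgroup S) :
    (normalizer (K : Set S)).map α.toMonoidHom = normalizer ((K.map α.toMonoidHom : Subgroup S) : Set S) :=
  QTUnique.map_normalizer_equiv α K

/-- The property for all Sylow 2-subgroups. -/
theorem NXC.all [Finite S] (h : NXC S) (T : Sylow 2 S) {Y : Subgroup S}
    (hY : ∀ H : Subgroup S, H ≠ ⊥ → H ≠ ⊤ → Inv (T : Subgroup S) H → normalizer (H : Set S) ≤ Y) : Y = ⊤ := by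
  have h2 : Fact (Nat.Prime 2) := ⟨Nat.prime_two⟩
  obtain ⟨T₀, h0⟩ := h
  obtain ⟨g, hg⟩ := MulAction.exists_smul_eq S T₀ T
  have hgT : (T₀ : Subgroup S).map (MulAut.conj g).toMonoidHom = T := by
    rw [← hg]; rfl
  set β : MulAut S := MulAut.conj g with hβ
  have key : Y.map (β⁻¹).toMonoidHom = ⊤ := by
    apply h0
    intro H hH hH' hinv
    have h1 : normalizer ((H.map β.toMonoidHom : Subgroup S) : Set S) ≤ Y := by
      apply hY
      · rwa [Ne, map_eq_bot_iff_of_injective _ β.injective]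
      · intro h3
        apply hH'
        have h4 := map_inv_aut h3
        rw [← h4]
        exact map_top_of_surjective _ (β⁻¹).surjective
      · intro α hα
        have h3 : (T₀ : Subgroup S).map (β⁻¹ * α * β).toMonoidHom = T₀ := by
          rw [map_toMonoidHom_mul, map_toMonoidHom_mul, hgT, hα]
          exact map_inv_aut hgT
        have h4 := hinv _ h3
        rw [map_toMonoidHom_mul, map_toMonoidHom_mul] at h4
        have h5 := map_inv_aut h4
        rw [inv_inv] at h5
        exact h5.symm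
    rw [← map_normalizer_aut] at h1
    have h3 := map_mono (f := (β⁻¹).toMonoidHom) h1
    rwa [map_inv_aut rfl] at h3
  have h5 := map_inv_aut key
  rw [← h5]
  exact map_top_of_surjective _ (β⁻¹)⁻¹.surjective

/-- **The criterion with two subgroups.** -/
theorem nxc_of_two (T : Sylow 2 S) {H₁ H₂ : Subgroup S} (h1 : H₁ ≠ ⊥) (h1' : H₁ ≠ ⊤) (h2 : H₂ ≠ ⊥) (h2' : H₂ ≠ ⊤)
    (i1 : Inv (T : Subgroup S) H₁) (i2 : Inv (T : Subgroup S) H₂)
    (hgen : normalizer (H₁ : Set S) ⊔ normalizer (H₂ : Set S) = ⊤) : NXC S :=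
  ⟨T, fun _ hY => top_le_iff.1 (hgen ▸ sup_le (hY _ h1 h1' i1) (hY _ h2 h2' i2))⟩

theorem map_le_of_inv [Finite S] {T H : Subgroup S} (h : ∀ α : MulAut S, T.map α.toMonoidHom = T → ∀ y ∈ H, α y ∈ H) :
    Inv T H := by
  intro α hα
  apply eq_of_le_of_card_ge
  · rintro _ ⟨y, hy, rfl⟩
    exact h α hα y hy
  · rw [Nat.card_congr (H.equivMapOfInjective α.toMonoidHom α.injective).toEquiv]

/-- `T` itself, a subgroup of `T` defined by an invariant predicate, ... : `α` maps `T` onto `T`. -/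
theorem mem_of_map {T : Subgroup S} {α : MulAut S} (h : T.map α.toMonoidHom = T) {y : S} : α y ∈ T ↔ y ∈ T := by
  constructor
  · intro hy
    rw [← h] at hy
    obtain ⟨w, hw, hwy⟩ := hy
    have : w = y := α.injective hwy
    rwa [← this]
  · intro hy
    rw [← h]
    exact ⟨y, hy, rfl⟩

theorem symm_map {T : Subgroup S} {α : MulAut S} (h : T.map α.toMonoidHom = T) : T.map (α⁻¹).toMonoidHom = T :=
  map_inv_aut h

/-- the automorphisms normalizing `T` fix `z` when `Z(T) = ⟨z⟩` has order 2 -/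
theorem fix_of_center {T : Subgroup S} {z : S} (hz : z ≠ 1) (hzT : z ∈ T)
    (hc : ∀ t ∈ T, t * z = z * t) (hZ : ∀ y ∈ T, (∀ t ∈ T, t * y = y * t) → y = 1 ∨ y = z) {α : MulAut S}
    (hα : T.map α.toMonoidHom = T) : α z = z := by
  rcases hZ (α z) ((mem_of_map hα).2 hzT) (fun t ht => by
    have h1 : α⁻¹ t ∈ T := (mem_of_map (symm_map hα)).2 ht
    have h2 := congrArg α (hc _ h1)
    rw [map_mul, map_mul, MulAut.apply_inv_self] at h2
    exact h2) with h | h
  · exfalso
    apply hz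
    exact (map_eq_one_iff α α.injective).1 h
  · exact h

theorem inv_of_pred [Finite S] {T H : Subgroup S} (P : S → Prop) (hH : ∀ y, y ∈ H ↔ y ∈ T ∧ P y)
    (hP : ∀ α : MulAut S, T.map α.toMonoidHom = T → ∀ y ∈ T, P y → P (α y)) : Inv T H :=
  map_le_of_inv fun α hα y hy => (hH _).2 ⟨(mem_of_map hα).2 ((hH y).1 hy).1, hP α hα y ((hH y).1 hy).1 ((hH y).1 hy).2⟩

/-- the subgroup of the elements `u` of `T` with `u² = 1`, `[u, T] ≤ ⟨z⟩` is invariant -/
theorem inv_of_second [Finite S] {T : Subgroup S} {z : S} (hz : z ≠ 1) (hzT : z ∈ T)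
    (hc : ∀ t ∈ T, t * z = z * t) (hZ : ∀ y ∈ T, (∀ t ∈ T, t * y = y * t) → y = 1 ∨ y = z) {U : Subgroup S}
    (hU : ∀ x, x ∈ U ↔ x ∈ T ∧ x * x = 1 ∧ ∀ t ∈ T, x * t = t * x ∨ x * t = z * (t * x)) : Inv T U := by
  refine inv_of_pred (fun x => x * x = 1 ∧ ∀ t ∈ T, x * t = t * x ∨ x * t = z * (t * x)) hU ?_
  rintro α hα y - ⟨h1, h2⟩
  refine ⟨by rw [← map_mul, h1, map_one], fun t ht => ?_⟩
  have h3 : α⁻¹ t ∈ T := (mem_of_map (symm_map hα)).2 ht
  have hfz := fix_of_center hz hzT hc hZ hα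
  rcases h2 _ h3 with h4 | h4
  · left
    have h5 := congrArg α h4
    rwa [map_mul, map_mul, MulAut.apply_inv_self] at h5
  · right
    have h5 := congrArg α h4
    rwa [map_mul, map_mul, map_mul, MulAut.apply_inv_self, hfz] at h5

theorem inv_zpowers [Finite S] {T : Subgroup S} {z : S} (h : ∀ α : MulAut S, T.map α.toMonoidHom = T → α z = z) :
    Inv T (zpowers z) := by
  refine map_le_of_inv fun α hα y hy => ?_
  obtain ⟨i, rfl⟩ := hy
  refine ⟨i, ?_⟩
  show z ^ i = α (z ^ i)
  rw [map_zpow, h α hα]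

theorem zpowers_ne_top [Finite S] [IsSimpleGroup S] (hna : ¬ IsMulCommutative S) (z : S) : zpowers z ≠ ⊤ := by
  intro h
  apply hna
  refine ⟨⟨fun a b => ?_⟩⟩
  have ha : a ∈ zpowers z := by rw [h]; trivial
  have hb : b ∈ zpowers z := by rw [h]; trivial
  obtain ⟨i, rfl⟩ := ha
  obtain ⟨j, rfl⟩ := hb
  exact ((Commute.refl z).zpow_zpow i j).eq

theorem pg_ne_top [Finite S] [IsSimpleGroup S] (hna : ¬ IsMulCommutative S) {U : Subgroup S} (hU : IsPGroup 2 U) :
    U ≠ ⊤ := by
  rintro rfl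
  have h2 : Fact (Nat.Prime 2) := ⟨Nat.prime_two⟩
  have hG : IsPGroup 2 S := hU.of_equiv Subgroup.topEquiv
  have h3 := hG.isNilpotent
  exact hna ⟨⟨IsSimpleGroup.comm_iff_isSolvable.2 inferInstance⟩⟩

theorem le_normalizer_zpowers {z c : S} (h : c * z = z * c) : c ∈ normalizer ((zpowers z : Subgroup S) : Set S) := by
  apply centralizer_le_normalizer
  rw [mem_centralizer_iff]
  rintro _ ⟨i, rfl⟩
  exact (((show Commute c z from h).zpow_right i).eq).symm

/-- **The criterion**, `U` any invariant 2-subgroup of `T` containing `z`. -/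
theorem nxc_of_norm [Finite S] [IsSimpleGroup S] (hna : ¬ IsMulCommutative S) (T : Sylow 2 S) {z : S}
    (hz : z ≠ 1) (hzT : z ∈ T) (hc : ∀ t ∈ T, t * z = z * t)
    (hZ : ∀ y ∈ T, (∀ t ∈ T, t * y = y * t) → y = 1 ∨ y = z) {U : Subgroup S} (hUT : U ≤ T) (hzU : z ∈ U)
    (hU : Inv (T : Subgroup S) U)
    {y n c : S} (hy : ∀ u ∈ U, y * u * y⁻¹ ∈ U) (hcz : c * z = z * c)
    (hn : y * z * y⁻¹ = c * (n * z * n⁻¹) * c⁻¹)
    (hgen : closure ({c : S | c * z = z * c} ∪ {n}) = ⊤) : NXC S := by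
  have h2 : Fact (Nat.Prime 2) := ⟨Nat.prime_two⟩
  refine ⟨T, fun Y hY => ?_⟩
  have hC : ∀ c : S, c * z = z * c → c ∈ Y := by
    intro c hc'
    refine hY (zpowers z) (fun h => hz (zpowers_eq_bot.1 h)) (zpowers_ne_top hna z) ?_ (le_normalizer_zpowers hc')
    exact inv_zpowers fun α hα => fix_of_center hz hzT hc hZ hα
  have hUY : normalizer (U : Set S) ≤ Y :=
    hY U (fun h => hz (by rw [h] at hzU; exact mem_bot.1 hzU)) (pg_ne_top hna (T.isPGroup'.to_le hUT)) hU
  have hyY : y ∈ Y := hUY (mem_normalizer_of_sub hy)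
  have hcY : c ∈ Y := hC c hcz
  have h8 : (y⁻¹ * (c * n)) ∈ Y := by
    apply hC
    calc y⁻¹ * (c * n) * z = y⁻¹ * (c * (n * z * n⁻¹) * c⁻¹) * (c * n) := by group
      _ = y⁻¹ * (y * z * y⁻¹) * (c * n) := by rw [hn]
      _ = z * (y⁻¹ * (c * n)) := by group
  have hnY : n ∈ Y := by
    have : n = c⁻¹ * (y * (y⁻¹ * (c * n))) := by group
    rw [this]
    exact Y.mul_mem (Y.inv_mem hcY) (Y.mul_mem hyY h8)
  rw [eq_top_iff, ← hgen, closure_le]
  rintro x (hx | hx)
  · exact hC x hx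
  · rw [Set.mem_singleton_iff] at hx
    rw [hx]; exact hnY

/-- **The criterion**, `U` the subgroup of the elements `x` of `T` with `x² = 1`, `[x, T] ≤ ⟨z⟩`. -/
theorem nxc_of_second [Finite S] [IsSimpleGroup S] (hna : ¬ IsMulCommutative S) (T : Sylow 2 S) {z : S}
    (hz : z ≠ 1) (hzT : z ∈ T) (hc : ∀ t ∈ T, t * z = z * t)
    (hZ : ∀ y ∈ T, (∀ t ∈ T, t * y = y * t) → y = 1 ∨ y = z) {U : Subgroup S}
    (hU : ∀ x, x ∈ U ↔ x ∈ T ∧ x * x = 1 ∧ ∀ t ∈ T, x * t = t * x ∨ x * t = z * (t * x))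
    {y n c : S} (hy : ∀ u ∈ U, y * u * y⁻¹ ∈ U) (hcz : c * z = z * c)
    (hn : y * z * y⁻¹ = c * (n * z * n⁻¹) * c⁻¹)
    (hgen : closure ({c : S | c * z = z * c} ∪ {n}) = ⊤) : NXC S := by
  have hzz : z * z = 1 := by
    rcases hZ (z * z) (T.mul_mem hzT hzT) (fun t ht => by rw [← mul_assoc, hc t ht, mul_assoc, hc t ht, mul_assoc])
      with h | h
    · exact h
    · exact absurd (mul_left_cancel (h.trans (mul_one z).symm)) hz
  exact nxc_of_norm hna T hz hzT hc hZ (fun x hx => ((hU x).1 hx).1)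
    ((hU z).2 ⟨hzT, hzz, fun t ht => Or.inl (hc t ht).symm⟩)
    (inv_of_second (T := (T : Subgroup S)) hz hzT hc hZ hU) hy hcz hn hgen

/-- The same with `U` given by a list of elements. -/
theorem nxc_of_second' [Finite S] [IsSimpleGroup S] (hna : ¬ IsMulCommutative S) (T : Sylow 2 S) {z : S}
    (hz : z ≠ 1) (hzT : z ∈ T) (hc : ∀ t ∈ T, t * z = z * t)
    (hZ : ∀ y ∈ T, (∀ t ∈ T, t * y = y * t) → y = 1 ∨ y = z) {U : Subgroup S}
    (hU1 : ∀ x ∈ T, x * x = 1 → (∀ t ∈ T, x * t = t * x ∨ x * t = z * (t * x)) → x ∈ U)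
    (hU2 : ∀ x ∈ U, x ∈ T ∧ x * x = 1 ∧ ∀ t ∈ T, x * t = t * x ∨ x * t = z * (t * x))
    {n : S} (hn : ∀ u ∈ U, n * u * n⁻¹ ∈ U)
    (hgen : closure ({c : S | c * z = z * c} ∪ {n}) = ⊤) : NXC S :=
  nxc_of_second hna T hz hzT hc hZ (fun x => ⟨hU2 x, fun h => hU1 x h.1 h.2.1 h.2.2⟩) (y := n) (n := n) (c := 1) hn
    (by rw [one_mul, mul_one]) (by group) hgen

end nxc

/-- transport along an isomorphism -/
theorem NXC.congr {S S' : Type*} [Group S] [Group S'] [Finite S] (e : S ≃* S') (h : NXC S) : NXC S' := by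
  have hfin : Finite S' := Finite.of_equiv S e.toEquiv
  have h2 : Fact (Nat.Prime 2) := ⟨Nat.prime_two⟩
  obtain ⟨T, hT⟩ := h
  obtain ⟨T', hT'⟩ : ∃ T' : Sylow 2 S', (T' : Subgroup S') = (T : Subgroup S).map e.toMonoidHom := by
    obtain ⟨P, hP⟩ := (T.isPGroup'.map e.toMonoidHom).exists_le_sylow
    refine ⟨P, le_antisymm ?_ hP⟩
    have h3 : (T : Subgroup S) ≤ (P : Subgroup S').map e.symm.toMonoidHom := by
      have := map_mono (f := e.symm.toMonoidHom) hP
      rwa [QTUnique.map_symm_map] at this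
    have h4 := T.is_maximal' (P.isPGroup'.map e.symm.toMonoidHom) h3
    rw [← h4, QTUnique.map_map_symm]
  refine ⟨T', fun Y hY => ?_⟩
  have key : Y.map e.symm.toMonoidHom = ⊤ := by
    apply hT
    intro H hH hH' hinv
    have h1 : normalizer ((H.map e.toMonoidHom : Subgroup S') : Set S') ≤ Y := by
      apply hY
      · rwa [Ne, map_eq_bot_iff_of_injective _ e.injective]
      · intro h3
        apply hH'
        have h4 := congrArg (Subgroup.map e.symm.toMonoidHom) h3
        rw [QTUnique.map_symm_map] at h4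
        rw [h4]
        exact map_top_of_surjective _ e.symm.surjective
      · intro α hα
        set β : MulAut S := (e.trans α).trans e.symm with hβ
        have hb : ∀ K : Subgroup S, K.map β.toMonoidHom = ((K.map e.toMonoidHom).map α.toMonoidHom).map e.symm.toMonoidHom := by
          intro K
          rw [map_map, map_map]
          rfl
        have h3 : (T : Subgroup S).map β.toMonoidHom = T := by
          rw [hb, ← hT', hα, hT', QTUnique.map_symm_map]
        have h4 := hinv β h3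
        rw [hb] at h4
        have h5 := congrArg (Subgroup.map e.toMonoidHom) h4
        rwa [QTUnique.map_map_symm] at h5
    rw [← QTUnique.map_normalizer_equiv] at h1
    have h3 := map_mono (f := e.symm.toMonoidHom) h1
    rwa [QTUnique.map_symm_map] at h3
  have h5 := congrArg (Subgroup.map e.toMonoidHom) key
  rw [QTUnique.map_map_symm] at h5
  rw [h5]
  exact map_top_of_surjective _ e.surjective

section ctx

variable {G : Type u} [Group G] [Finite G] {N : Subgroup G} {x : G} {T D : Subgroup G}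

/-- conjugation by `g` on the normal subgroup `N` -/
def cn (hN : N.Normal) (g : G) : MulAut N := MulAut.conjNormal g

theorem cn_coe (hN : N.Normal) (g : G) (s : N) : ((cn hN g s : N) : G) = g * s * g⁻¹ := MulAut.conjNormal_apply g s

/-- The Sylow subgroup `T ∩ N` of the normal subgroup `N`. -/
theorem exists_sylow_inf [Fact (Nat.Prime 2)] (hN : N.Normal) (hT : Mx 2 T ⊤) :
    ∃ T₀ : Sylow 2 N, (T₀ : Subgroup N) = T.subgroupOf N := by
  obtain ⟨Q, hQ⟩ := (hT.pg.comap_subtype (K := N)).exists_le_sylow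
  -- `Q` lies in a Sylow subgroup `T^g`; compare the orders
  obtain ⟨P, hP, hQP⟩ := exists_mx (p := 2) (D := (⊤ : Subgroup G)) (R := (Q : Subgroup N).map N.subtype) le_top
    (Q.isPGroup'.map _)
  obtain ⟨g, -, hg⟩ := hP.conj hT
  refine ⟨Q, ?_⟩
  symm
  change T.subgroupOf N ≤ (Q : Subgroup N) at hQ
  apply eq_of_le_of_card_ge hQ
  -- `|Q| ≤ |P ∩ N| = |T ∩ N|`
  have h1 : Nat.card (Q : Subgroup N) ≤ Nat.card (P.subgroupOf N) := by
    apply Subgroup.card_le_of_le
    intro y hy
    exact mem_subgroupOf.2 (hQP ⟨y, hy, rfl⟩)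
  have h2 : (P.subgroupOf N).map (cn hN g).toMonoidHom = T.subgroupOf N := by
    ext y
    constructor
    · rintro ⟨w, hw, rfl⟩
      rw [mem_subgroupOf]
      have h3 : ((cn hN g w : N) : G) = g * w * g⁻¹ := cn_coe hN g w
      show ((cn hN g w : N) : G) ∈ T
      rw [h3, ← hg, mem_cj]
      have h4 : g⁻¹ * (g * w * g⁻¹) * g = w := by group
      rw [h4]
      exact mem_subgroupOf.1 hw
    · intro hy
      rw [mem_subgroupOf, ← hg, mem_cj] at hy
      have hyN : g⁻¹ * y * g ∈ N := by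
        have := hN.conj_mem y y.2 g⁻¹
        rwa [inv_inv] at this
      refine ⟨⟨g⁻¹ * y * g, hyN⟩, mem_subgroupOf.2 hy, ?_⟩
      apply Subtype.ext
      show ((cn hN g ⟨g⁻¹ * y * g, hyN⟩ : N) : G) = y
      rw [cn_coe]
      group
  rw [← h2, Nat.card_congr ((P.subgroupOf N).equivMapOfInjective (cn hN g).toMonoidHom (cn hN g).injective).toEquiv.symm]
  exact h1

/-- an invariant subgroup of `N` is normalized by `N_G(T)` -/
theorem le_normalizer_of_inv (hN : N.Normal) {H : Subgroup N} (hH : Inv (T.subgroupOf N) H) {g : G}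
    (hg : g ∈ normalizer (T : Set G)) : g ∈ normalizer ((H.map N.subtype : Subgroup G) : Set G) := by
  apply mem_normalizer_of_sub
  rintro _ ⟨v, hv, rfl⟩
  have h1 : (T.subgroupOf N).map (cn hN g).toMonoidHom = T.subgroupOf N := by
    apply eq_of_le_of_card_ge
    · rintro _ ⟨w, hw, rfl⟩
      rw [mem_subgroupOf]
      show ((cn hN g w : N) : G) ∈ T
      rw [cn_coe]
      exact (mem_normalizer_iff.1 hg w).1 (mem_subgroupOf.1 hw)
    · rw [Nat.card_congr ((T.subgroupOf N).equivMapOfInjective (cn hN g).toMonoidHom (cn hN g).injective).toEquiv]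
  have h2 := hH _ h1
  have h3 : cn hN g v ∈ H := by
    rw [← h2]
    exact ⟨v, hv, rfl⟩
  exact ⟨cn hN g v, h3, cn_coe hN g v⟩

/-- **`NXC N` is impossible.** -/
theorem false_of_nxc (h : Wk 2 N x) (hx2 : 2 ∣ orderOf x) (hn : NXC N) : False := by
  have h2 : Fact (Nat.Prime 2) := ⟨Nat.prime_two⟩
  have hN := h.normal
  obtain ⟨T, hT, hxT⟩ := exists_mx_norm h hx2
  obtain ⟨W, hWp, hW1, hW⟩ := unique h hx2 hT hxT
  obtain ⟨T₀, hT₀⟩ := exists_sylow_inf hN hT
  have hT1 : T ≠ ⊥ := by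
    intro h3
    obtain ⟨m, hm1, hm⟩ := exists_ppart (p := 2) hx2
    have h4 := ppart_le hm hT hxT (mem_zpowers _)
    rw [h3, mem_bot] at h4
    exact hm1 h4
  have key : (normalizer (W : Set G)).subgroupOf N = ⊤ := by
    apply hn.all T₀
    intro H hH hH' hinv
    rw [hT₀] at hinv
    set H' := H.map N.subtype with hH'def
    have hD : normalizer (H' : Set G) ≠ ⊤ := by
      intro h3
      have h4 : H'.Normal := normalizer_eq_top_iff.1 h3
      have h5 : H.Normal := by
        have h6 : H = H'.subgroupOf N := by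
          rw [hH'def]
          exact (Subgroup.comap_map_eq_self_of_injective N.subtype_injective H).symm
        rw [h6]
        infer_instance
      rcases h.simple.eq_bot_or_eq_top_of_normal H h5 with h6 | h6
      · exact hH h6
      · exact hH' h6
    have h3 := hW _ hD (fun t ht => le_normalizer_of_inv hN hinv (le_normalizer ht))
      (le_normalizer_of_inv hN hinv hxT)
    intro s hs
    rw [mem_subgroupOf]
    apply h3
    apply mem_normalizer_of_sub
    rintro _ ⟨v, hv, rfl⟩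
    exact ⟨s * v * s⁻¹, (mem_normalizer_iff.1 hs v).1 hv, rfl⟩
  have hN' : N ≤ normalizer (W : Set G) := subgroupOf_eq_top.1 key
  have hx' : x ∈ normalizer (W : Set G) :=
    hW _ (normalizer_ne_top h hT.pg hT1) le_normalizer hxT hxT
  apply normalizer_ne_top h hWp hW1
  rw [eq_top_iff, ← h.gen]
  exact sup_le hN' (by rwa [zpowers_le])

/-- **`x ∈ N` and `NUN N` is impossible.** -/
theorem false_of_nun (h : Wk 2 N x) (hx2 : 2 ∣ orderOf x) (hx : x ∈ N) (hn : NUN N) : False := by
  have h2 : Fact (Nat.Prime 2) := ⟨Nat.prime_two⟩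
  have hNt : N = ⊤ := by
    rw [← h.gen]
    exact (sup_eq_left.2 (by rwa [zpowers_le])).symm
  have hn' : NUN G := hn.congr ((MulEquiv.subgroupCongr hNt).trans topEquiv)
  obtain ⟨T, hT, hxT⟩ := exists_mx_norm h hx2
  obtain ⟨W, hWp, hW1, hW⟩ := unique h hx2 hT hxT
  have hT1 : T ≠ ⊥ := by
    intro h3
    obtain ⟨m, hm1, hm⟩ := exists_ppart (p := 2) hx2
    have h4 := ppart_le hm hT hxT (mem_zpowers _)
    rw [h3, mem_bot] at h4
    exact hm1 h4
  let TS : Sylow 2 G :=
    { toSubgroup := T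
      isPGroup' := hT.pg
      is_maximal' := fun {Q} hQ hTQ => le_antisymm (hT.max Q le_top hQ hTQ) hTQ }
  refine hn' TS (normalizer (W : Set G)) ?_
  have hNT := normalizer_ne_top h hT.pg hT1
  have key : ∀ M : Subgroup G, IsMaximalTwoLocal M → normalizer (T : Set G) ≤ M → M = normalizer (W : Set G) := by
    intro M hM hTM
    have hMt : M ≠ ⊤ := by
      rintro rfl
      obtain ⟨U, hU, hU1, hUn⟩ := hM.1
      exact normalizer_ne_top h hU hU1 hUn.symm
    exact (hM.2 _ ⟨W, hWp, hW1, rfl⟩ (hW M hMt (le_normalizer.trans hTM) (hTM hxT))).symm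
  rw [over_eq]
  ext M
  constructor
  · rintro ⟨h3, h4⟩
    exact key M h3 h4
  · rintro rfl
    obtain ⟨M, hM, hle⟩ := QTUnique.exists_maximal (N := normalizer (W : Set G)) ⟨W, hWp, hW1, rfl⟩
    have h3 : normalizer (T : Set G) ≤ normalizer (W : Set G) := hW _ hNT le_normalizer hxT
    rw [key M hM (h3.trans hle)] at hM
    exact ⟨hM, h3⟩

/-- `x ∈ N` if every automorphism of `N` is inner. -/
theorem mem_of_out (h : Wk 2 N x) (ho : Nat.card (Out N) = 1) : x ∈ N := by
  have hN := h.normal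
  set α := cn hN x with hα
  have h1 : QuotientGroup.mk' (Inn N) α = 1 := by
    have h2 : Subsingleton (Out N) := (Nat.card_eq_one_iff_unique.1 ho).1
    exact Subsingleton.elim _ _
  have h2 : α ∈ Inn N := (QuotientGroup.eq_one_iff α).1 h1
  obtain ⟨g, hg⟩ := h2
  have h3 : (g : G)⁻¹ * x ∈ centralizer (N : Set G) := by
    rw [mem_centralizer_iff]
    intro s hs
    have h4 : MulAut.conj g ⟨s, hs⟩ = α ⟨s, hs⟩ := DFunLike.congr_fun hg _
    have h5 : (g : G) * s * (g : G)⁻¹ = x * s * x⁻¹ := by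
      have h6 := congrArg Subtype.val h4
      rw [hα, cn_coe] at h6
      exact h6
    have h7 : s = (g : G)⁻¹ * (x * s * x⁻¹) * g := by rw [← h5]; group
    calc s * ((g : G)⁻¹ * x) = ((g : G)⁻¹ * (x * s * x⁻¹) * g) * ((g : G)⁻¹ * x) := by rw [← h7]
      _ = (g : G)⁻¹ * x * s := by group
  rw [h.cent, mem_bot] at h3
  have h4 : x = g := by
    have := inv_mul_eq_one.1 h3
    exact this.symm
  rw [h4]
  exact g.2

/-- **`x² ≠ 1`** (Baer–Suzuki). -/
theorem not_sq (h : Wk 2 N x) : x * x ≠ 1 := by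
  have h2 : Fact (Nat.Prime 2) := ⟨Nat.prime_two⟩
  intro hxx
  obtain ⟨u, hu1, huo, hu⟩ := Cfsg.Agent.Involutions.BaerSuzuki.exists_odd_inverted x hxx (by
    intro hP
    have h1 := not_normal h hP normalClosure_normal
    have h3 : x ∈ (normalClosure {x} : Subgroup G) := subset_normalClosure rfl
    rw [h1, mem_bot] at h3
    exact h.ne h3)
  have hxi : x⁻¹ = x := inv_eq_of_mul_eq_one_left hxx
  have h1 : cm x u = u * u := by
    unfold cm
    rw [hxi]
    have h3 : x * u⁻¹ * x = u := by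
      have h4 : x * u * x⁻¹ = u⁻¹ := hu
      rw [hxi] at h4
      have h5 := congrArg (fun y => y⁻¹) h4
      simp only [mul_inv_rev, inv_inv, hxi] at h5
      rw [← mul_assoc] at h5
      exact h5
    rw [h3]
  have h3 : orderOf (u * u) = orderOf u := by
    rw [← pow_two]
    exact Nat.Coprime.orderOf_pow (Nat.coprime_two_right.2 huo)
  rcases h.bad u with h4 | h4
  · rw [h1, ← orderOf_eq_one_iff, h3, orderOf_eq_one_iff] at h4
    exact hu1 h4
  · rw [h1, h3] at h4
    exact (Nat.not_even_iff_odd.2 huo) (even_iff_two_dvd.2 h4)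

/-- `x` centralizes the `x`-invariant subgroups of odd order, elementwise version: `[x, u]` has odd order only if it is
trivial. -/
theorem comm_of_odd (h : Wk 2 N x) {u : G} (hu : Odd (orderOf (cm x u))) : x * u = u * x := by
  rcases h.bad u with h4 | h4
  · exact cm_eq_one.1 h4
  · exact absurd (even_iff_two_dvd.2 h4) (Nat.not_even_iff_odd.2 hu)

end ctx

end Cfsg.Agent.H516.Two
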