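import Cfsg.Agent.H472.ComStrongB

/-!
# The zipper in a minimal counterexample to S4094 or S4095 (helper516)

`Wk p S x` : a minimal counterexample to the weak form S4095 (`wk_of_min : MinCtx p S x → Wk p S x`). Let
`p ∣ o(x)`. Then `x` normalizes a Sylow `p`-subgroup `T` of `G`, and for every such `T` there is a nontrivial
`p`-subgroup `W` such that every proper subgroup of `G` containing `T` and `x` normalizes `W` (`unique`).
-/

set_option autoImplicit false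
set_option linter.unusedSectionVars false

namespace Cfsg.Agent.H516.Zip

open Subgroup Cfsg
open Cfsg.Agent.Lib.Cores
open Cfsg.Agent.H472.ComRed

universe u

section gen

variable {G : Type u} [Group G]

/-- conjugate subgroup -/
abbrev cj (g : G) (P : Subgroup G) : Subgroup G := P.map (MulAut.conj g).toMonoidHom

theorem mem_cj {g : G} {P : Subgroup G} {y : G} : y ∈ cj g P ↔ g⁻¹ * y * g ∈ P := by
  constructor
  · rintro ⟨w, hw, rfl⟩
    have h1 : g⁻¹ * (MulAut.conj g).toMonoidHom w * g = w := by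
      show g⁻¹ * (g * w * g⁻¹) * g = w
      group
    rw [h1]
    exact hw
  · intro h
    refine ⟨g⁻¹ * y * g, h, ?_⟩
    show g * (g⁻¹ * y * g) * g⁻¹ = y
    group

theorem cj_mul (g k : G) (P : Subgroup G) : cj g (cj k P) = cj (g * k) P := by
  ext y
  rw [mem_cj, mem_cj, mem_cj]
  have h : k⁻¹ * (g⁻¹ * y * g) * k = (g * k)⁻¹ * y * (g * k) := by group
  rw [h]

theorem cj_one (P : Subgroup G) : cj 1 P = P := by
  ext y
  rw [mem_cj]
  simp

theorem cj_mono {g : G} {P Q : Subgroup G} (h : P ≤ Q) : cj g P ≤ cj g Q := map_mono h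

theorem cj_eq_iff {g : G} {P Q : Subgroup G} : cj g P = Q ↔ P = cj g⁻¹ Q := by
  constructor
  · rintro rfl
    rw [cj_mul, inv_mul_cancel, cj_one]
  · rintro rfl
    rw [cj_mul, mul_inv_cancel, cj_one]

theorem card_cj (g : G) (P : Subgroup G) : Nat.card (cj g P) = Nat.card P :=
  (Nat.card_congr (P.equivMapOfInjective _ (MulAut.conj g).injective).toEquiv).symm

/-- `P` is a maximal `p`-subgroup of `D`. -/
structure Mx (p : ℕ) (P D : Subgroup G) : Prop where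
  le : P ≤ D
  pg : IsPGroup p P
  max : ∀ Q : Subgroup G, Q ≤ D → IsPGroup p Q → P ≤ Q → Q ≤ P

variable {p : ℕ} {P Q D T : Subgroup G}

/-- the corresponding Sylow subgroup of `D` -/
def Mx.syl (h : Mx p P D) : Sylow p D where
  toSubgroup := P.subgroupOf D
  isPGroup' := h.pg.comap_subtype
  is_maximal' := by
    intro Q hQ hPQ
    apply le_antisymm _ hPQ
    have h1 := h.max (Q.map D.subtype) (map_subtype_le _) (hQ.map _) (by
      intro y hy
      exact ⟨⟨y, h.le hy⟩, hPQ (mem_subgroupOf.2 hy), rfl⟩)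
    intro y hy
    exact mem_subgroupOf.2 (h1 ⟨y, hy, rfl⟩)

theorem Mx.of_sylow [Finite G] (Q : Sylow p D) : Mx p ((Q : Subgroup D).map D.subtype) D := by
  refine ⟨map_subtype_le _, Q.isPGroup'.map _, ?_⟩
  intro R hRD hR hQR
  have h1 : (Q : Subgroup D) ≤ R.subgroupOf D := by
    intro y hy
    exact mem_subgroupOf.2 (hQR ⟨y, hy, rfl⟩)
  have h2 := Q.is_maximal' hR.comap_subtype h1
  intro y hy
  refine ⟨⟨y, hRD hy⟩, ?_, rfl⟩
  have h3 : (⟨y, hRD hy⟩ : D) ∈ R.subgroupOf D := mem_subgroupOf.2 hy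
  rw [show R.subgroupOf D = (Q : Subgroup D) from h2] at h3
  exact h3

theorem exists_mx [Finite G] {R : Subgroup G} (hR : R ≤ D) (hRp : IsPGroup p R) : ∃ P, Mx p P D ∧ R ≤ P := by
  obtain ⟨Q, hQ⟩ := (hRp.comap_subtype (K := D)).exists_le_sylow
  refine ⟨_, Mx.of_sylow Q, ?_⟩
  intro y hy
  exact ⟨⟨y, hR hy⟩, hQ (mem_subgroupOf.2 hy), rfl⟩

theorem Mx.conj [Finite G] [Fact p.Prime] (hP : Mx p P D) (hQ : Mx p Q D) : ∃ d ∈ D, cj d P = Q := by
  obtain ⟨d, hd⟩ := MulAction.exists_smul_eq D hP.syl hQ.syl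
  refine ⟨d, d.2, ?_⟩
  have h1 : ((d • hP.syl : Sylow p D) : Subgroup D) = Q.subgroupOf D := congrArg Sylow.toSubgroup hd
  ext y
  rw [mem_cj]
  constructor
  · intro hy
    have hyD : y ∈ D := by
      have h2 := mul_mem (mul_mem d.2 (hP.le hy)) (inv_mem d.2)
      have h3 : (d : G) * ((d : G)⁻¹ * y * d) * (d : G)⁻¹ = y := by group
      rwa [h3] at h2
    have h2 : (⟨y, hyD⟩ : D) ∈ ((d • hP.syl : Sylow p D) : Subgroup D) := by
      rw [Sylow.coe_subgroup_smul]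
      refine ⟨⟨(d : G)⁻¹ * y * d, hP.le hy⟩, mem_subgroupOf.2 hy, ?_⟩
      apply Subtype.ext
      show (d : G) * ((d : G)⁻¹ * y * d) * (d : G)⁻¹ = y
      group
    rw [h1] at h2
    exact mem_subgroupOf.1 h2
  · intro hy
    have h2 : (⟨y, hQ.le hy⟩ : D) ∈ Q.subgroupOf D := mem_subgroupOf.2 hy
    rw [← h1, Sylow.coe_subgroup_smul] at h2
    obtain ⟨w, hw, hwy⟩ := h2
    have h3 : (d : G) * w * (d : G)⁻¹ = y := congrArg Subtype.val hwy
    have h4 : (d : G)⁻¹ * y * d = w := by rw [← h3]; group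
    rw [h4]
    exact mem_subgroupOf.1 hw

/-- `O_p(D)` as a subgroup of `G` -/
abbrev oc (p : ℕ) (D : Subgroup G) : Subgroup G := (pCore p D).map D.subtype

theorem oc_le (D : Subgroup G) : oc p D ≤ D := map_subtype_le _

theorem oc_pg (D : Subgroup G) : IsPGroup p (oc p D) := (pCore_isPGroup p).map _

theorem oc_conj {d u : G} (hd : d ∈ D) (hu : u ∈ oc p D) : d * u * d⁻¹ ∈ oc p D := by
  obtain ⟨w, hw, rfl⟩ := hu
  exact ⟨⟨d, hd⟩ * w * ⟨d, hd⟩⁻¹, (Cfsg.Agent.Lib.Cores.pCore_normal p).conj_mem w hw _, rfl⟩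

theorem Mx.oc_le [Finite G] (h : Mx p P D) : oc p D ≤ P := by
  rintro _ ⟨w, hw, rfl⟩
  exact mem_subgroupOf.1 (pCore_le_sylow h.syl hw)

theorem Mx.of_le (h : Mx p T ⊤) (hTD : T ≤ D) : Mx p T D :=
  ⟨hTD, h.pg, fun Q _ hQ hTQ => h.max Q le_top hQ hTQ⟩

theorem Mx.cj (h : Mx p T ⊤) (g : G) : Mx p (cj g T) ⊤ := by
  refine ⟨le_top, h.pg.map _, ?_⟩
  intro Q _ hQ hTQ
  have h1 : Zip.cj g⁻¹ Q ≤ T := by
    apply h.max _ le_top (hQ.map _)
    have h2 := cj_mono (g := g⁻¹) hTQ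
    rwa [cj_mul, inv_mul_cancel, cj_one] at h2
  have h2 := cj_mono (g := g) h1
  rwa [cj_mul, mul_inv_cancel, cj_one] at h2

theorem Mx.eq_of_le (h : Mx p T ⊤) (h' : Mx p P ⊤) (hle : T ≤ P) : T = P :=
  le_antisymm hle (h.max P le_top h'.pg hle)

theorem mem_normalizer_of_cj [Finite G] {g : G} {P : Subgroup G} : cj g P = P ↔ g ∈ normalizer (P : Set G) :=
  map_conj_eq_iff

/-- `x` normalizes `P` if it conjugates `P` into `P`. -/
theorem mem_normalizer_of_sub [Finite G] {x : G} {P : Subgroup G} (h : ∀ v ∈ P, x * v * x⁻¹ ∈ P) :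
    x ∈ normalizer (P : Set G) := by
  rw [← mem_normalizer_of_cj]
  apply Subgroup.eq_of_le_of_card_ge
  · rintro _ ⟨v, hv, rfl⟩
    exact h v hv
  · exact (card_cj x P).ge

end gen

variable {G : Type u} [Group G] [Finite G] {p : ℕ} {S : Subgroup G} {x : G} {P Q D T R : Subgroup G}

/-- **A minimal counterexample to the weak form S4095**: all commutators of `x` are trivial or of order divisible by
`p`, and `x` is central modulo `O_p(D)` in every proper subgroup `D` containing `x`. -/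
structure Wk (p : ℕ) (S : Subgroup G) (x : G) : Prop where
  normal : S.Normal
  simple : IsSimpleGroup S
  nonab : ¬ IsMulCommutative S
  cent : centralizer (S : Set G) = ⊥
  gen : S ⊔ zpowers x = ⊤
  ne : x ≠ 1
  bad : ∀ g, cm x g = 1 ∨ p ∣ orderOf (cm x g)
  ind : ∀ D : Subgroup G, x ∈ D → D ≠ ⊤ → ∀ d ∈ D, cm x d ∈ (pCore p D).map D.subtype

/-- The strong form implies the weak form. -/
theorem wk_of_min (h : MinCtx p S x) : Wk p S x where
  normal := h.normal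
  simple := h.simple
  nonab := h.nonab
  cent := h.cent
  gen := h.gen
  ne := h.ne
  bad := fun g => by
    obtain ⟨k, hk⟩ := h.pow g
    rcases Nat.eq_zero_or_pos k with rfl | hk0
    · left
      rwa [pow_zero, orderOf_eq_one_iff] at hk
    · right
      rw [hk]
      exact dvd_pow_self p hk0.ne'
  ind := h.ind

theorem Wk.not_solvable (h : Wk p S x) : ¬ Group.IsSolvable S := by
  have := h.simple
  exact fun h1 => h.nonab ⟨⟨IsSimpleGroup.comm_iff_isSolvable.2 h1⟩⟩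

/-- conjugates -/
theorem Wk.conj (h : Wk p S x) (g : G) : Wk p S (g * x * g⁻¹) := by
  have hSn := h.normal
  refine ⟨h.normal, h.simple, h.nonab, h.cent, ?_, ?_, ?_, ?_⟩
  · have h1 : (S ⊔ zpowers x).map (MulAut.conj g).toMonoidHom = ⊤ := by
      rw [h.gen]
      exact map_top_of_surjective _ (MulAut.conj g).surjective
    rw [Subgroup.map_sup, MonoidHom.map_zpowers] at h1
    have h2 : S.map (MulAut.conj g).toMonoidHom = S := by
      rw [map_conj_eq_iff, normalizer_eq_top_iff.2 hSn]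
      trivial
    rw [h2] at h1
    exact h1
  · intro h1
    apply h.ne
    have h2 : x = g⁻¹ * (g * x * g⁻¹) * g := by group
    rw [h2, h1]
    group
  · intro k
    rw [cm_conj]
    rcases h.bad (g⁻¹ * k * g) with h1 | h1
    · left
      rw [h1]
      group
    · right
      have h2 : orderOf (g * cm x (g⁻¹ * k * g) * g⁻¹) = orderOf (cm x (g⁻¹ * k * g)) :=
        orderOf_injective (MulAut.conj g).toMonoidHom (MulAut.conj g).injective _
      rwa [h2]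
  · intro D hxD hDt d hd
    set D' := D.comap (MulAut.conj g).toMonoidHom with hD'
    have hxD' : x ∈ D' := hxD
    have hDt' : D' ≠ ⊤ := by
      intro h1
      apply hDt
      rw [eq_top_iff]
      intro w _
      have h2 : g⁻¹ * w * g ∈ D' := by rw [h1]; trivial
      have h3 : g * (g⁻¹ * w * g) * g⁻¹ ∈ D := h2
      have h4 : g * (g⁻¹ * w * g) * g⁻¹ = w := by group
      rwa [h4] at h3
    have hd' : g⁻¹ * d * g ∈ D' := by
      show g * (g⁻¹ * d * g) * g⁻¹ ∈ D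
      have h4 : g * (g⁻¹ * d * g) * g⁻¹ = d := by group
      rwa [h4]
    obtain ⟨c, hc, hcx⟩ := h.ind D' hxD' hDt' _ hd'
    let e : D' ≃* D :=
      { toFun := fun w => ⟨g * w * g⁻¹, w.2⟩
        invFun := fun w => ⟨g⁻¹ * w * g, by
          show g * (g⁻¹ * (w : G) * g) * g⁻¹ ∈ D
          have h4 : g * (g⁻¹ * (w : G) * g) * g⁻¹ = w := by group
          rw [h4]; exact w.2⟩
        left_inv := fun w => Subtype.ext (by
          show g⁻¹ * (g * (w : G) * g⁻¹) * g = w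
          group)
        right_inv := fun w => Subtype.ext (by
          show g * (g⁻¹ * (w : G) * g) * g⁻¹ = w
          group)
        map_mul' := fun a b => Subtype.ext (by
          show g * ((a : G) * b) * g⁻¹ = g * a * g⁻¹ * (g * b * g⁻¹)
          group) }
    have h1 : e c ∈ pCore p D := by
      rw [← map_equiv_pCore e p]
      exact ⟨c, hc, rfl⟩
    refine ⟨e c, h1, ?_⟩
    show g * (c : G) * g⁻¹ = cm (g * x * g⁻¹) d
    rw [cm_conj, ← hcx]
    rfl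

theorem not_normal [hp : Fact p.Prime] (h : Wk p S x) (hP : IsPGroup p P) (hPn : P.Normal) : P = ⊥ := by
  have hSn := h.normal
  have hsim := h.simple
  rcases h.simple.eq_bot_or_eq_top_of_normal (P.subgroupOf S) inferInstance with h1 | h1
  · have h2 : P ⊓ S = ⊥ := by
      rw [eq_bot_iff]
      rintro w ⟨hw1, hw2⟩
      have h3 : (⟨w, hw2⟩ : S) ∈ P.subgroupOf S := mem_subgroupOf.2 hw1
      rw [h1, mem_bot] at h3
      exact congrArg Subtype.val h3
    have h3 : P ≤ centralizer (S : Set G) := by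
      intro w hw
      rw [mem_centralizer_iff]
      intro s hs
      exact (Subgroup.commute_of_normal_of_disjoint P S inferInstance hSn (disjoint_iff.2 h2) w s hw hs).symm
    rw [h.cent] at h3
    exact le_bot_iff.1 h3
  · exfalso
    have h2 : IsPGroup p S := hP.to_le (subgroupOf_eq_top.1 h1)
    have h3 := h2.isNilpotent
    exact h.not_solvable inferInstance

theorem normalizer_ne_top [hp : Fact p.Prime] (h : Wk p S x) (hP : IsPGroup p P) (hP1 : P ≠ ⊥) :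
    normalizer (P : Set G) ≠ ⊤ := fun h1 => hP1 (not_normal h hP (normalizer_eq_top_iff.1 h1))

theorem cm_mem_oc (h : Wk p S x) (hx : x ∈ D) (hD : D ≠ ⊤) {d : G} (hd : d ∈ D) : x⁻¹ * (d * x * d⁻¹) ∈ oc p D := by
  have h1 := h.ind D hx hD d⁻¹ (inv_mem hd)
  have h2 : cm x d⁻¹ = x⁻¹ * (d * x * d⁻¹) := by unfold cm; group
  rwa [h2] at h1

/-- `x` normalizes the Sylow `p`-subgroups of every proper subgroup containing `x`. -/
theorem norm_of_mx (h : Wk p S x) (hx : x ∈ D) (hD : D ≠ ⊤) (hP : Mx p P D) : x ∈ normalizer (P : Set G) := by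
  apply mem_normalizer_of_sub
  intro v hv
  have h1 := hP.oc_le (cm_mem_oc h hx hD (inv_mem (hP.le hv)))
  -- `x⁻¹ v⁻¹ x v ∈ oc`, so `x (x⁻¹ v⁻¹ x v) x⁻¹ = v⁻¹ x v x⁻¹ ∈ oc`
  have h2 := hP.oc_le (oc_conj hx (cm_mem_oc h hx hD (inv_mem (hP.le hv))))
  have h3 : x * v * x⁻¹ = v * (x * (x⁻¹ * (v⁻¹ * x * v⁻¹⁻¹)) * x⁻¹) := by group
  rw [h3]
  exact mul_mem hv h2

/-- An `x`-invariant nontrivial `p`-subgroup lies in an `x`-invariant Sylow `p`-subgroup. -/
theorem exists_syl [hp : Fact p.Prime] (h : Wk p S x) (hR : IsPGroup p R) (hR1 : R ≠ ⊥)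
    (hxR : x ∈ normalizer (R : Set G)) : ∃ T, Mx p T ⊤ ∧ R ≤ T ∧ x ∈ normalizer (T : Set G) := by
  obtain ⟨P, hRP, hP⟩ := (Set.toFinite {P : Subgroup G | IsPGroup p P ∧ x ∈ normalizer (P : Set G)}).exists_le_maximal
    (a := R) ⟨hR, hxR⟩
  obtain ⟨hPp, hxP⟩ := hP.prop
  refine ⟨P, ⟨le_top, hPp, ?_⟩, hRP, hxP⟩
  have hP1 : P ≠ ⊥ := fun h1 => hR1 (le_bot_iff.1 (h1 ▸ hRP))
  have hD := normalizer_ne_top h hPp hP1
  set D := normalizer (P : Set G) with hDdef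
  obtain ⟨Q, hQ, hPQ⟩ := exists_mx (p := p) (show P ≤ D from le_normalizer) hPp
  have hxQ := norm_of_mx h hxP hD hQ
  have hQP : Q ≤ P := hP.le_of_ge ⟨hQ.pg, hxQ⟩ hPQ
  have hPeq : P = Q := le_antisymm hPQ hQP
  intro Q' _ hQ' hPQ'
  by_contra hcon
  -- `N_{Q'}(P) > P`
  have hnil : Group.IsNilpotent Q' := hQ'.isNilpotent
  have hlt : P.subgroupOf Q' < ⊤ := by
    rw [lt_top_iff_ne_top]
    intro h1
    exact hcon (subgroupOf_eq_top.1 h1)
  obtain ⟨n, hn1, hn2⟩ := SetLike.exists_of_lt (Group.normalizerCondition_of_isNilpotent _ hlt)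
  have hnD : (n : G) ∈ D := by
    apply mem_normalizer_of_sub
    intro v hv
    have h1 : (⟨v, hPQ' hv⟩ : Q') ∈ P.subgroupOf Q' := mem_subgroupOf.2 hv
    exact mem_subgroupOf.1 ((mem_normalizer_iff.1 hn1 _).1 h1)
  have h1 : IsPGroup p (Q' ⊓ D : Subgroup G) := hQ'.to_le inf_le_left
  have h2 := hQ.max (Q' ⊓ D) inf_le_right h1 (le_inf (hQP.trans hPQ') hQ.le)
  exact hn2 (mem_subgroupOf.2 (hQP (h2 ⟨n.2, hnD⟩)))

/-- the `p`-part of `x` -/
theorem exists_ppart [hp : Fact p.Prime] (hpx : p ∣ orderOf x) : ∃ m : ℕ, x ^ m ≠ 1 ∧ IsPGroup p (zpowers (x ^ m)) := by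
  refine ⟨orderOf x / p, ?_, ?_⟩
  · intro h1
    have ho := orderOf_pow_orderOf_div (orderOf_pos x).ne' hpx
    rw [h1, orderOf_one] at ho
    exact hp.out.one_lt.ne ho
  · refine IsPGroup.of_card_dvd_pow (n := 1) ?_
    rw [Nat.card_zpowers, orderOf_pow_orderOf_div (orderOf_pos x).ne' hpx, pow_one]

/-- a `p`-subgroup generated by a power of `x` lies in every `x`-invariant Sylow subgroup -/
theorem ppart_le [hp : Fact p.Prime] {m : ℕ} (hm : IsPGroup p (zpowers (x ^ m))) (hT : Mx p T ⊤)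
    (hxT : x ∈ normalizer (T : Set G)) : zpowers (x ^ m) ≤ T := by
  have h1 : zpowers (x ^ m) ≤ normalizer (T : Set G) := by
    rw [zpowers_le]
    exact pow_mem hxT m
  have h2 : IsPGroup p (T ⊔ zpowers (x ^ m) : Subgroup G) := hT.pg.to_sup_of_normal_left' hm h1
  exact le_sup_right.trans (hT.max _ le_top h2 le_sup_left)

/-- the relation "conjugate by an element acting trivially on `x` modulo the Sylow subgroup" -/
def Rel (x : G) (T₁ T₂ : Subgroup G) : Prop := ∃ k : G, cj k T₁ = T₂ ∧ x⁻¹ * (k * x * k⁻¹) ∈ T₂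

theorem Rel.refl (x : G) (T : Subgroup G) : Rel x T T := ⟨1, cj_one T, by simp⟩

theorem Rel.trans {T₁ T₂ T₃ : Subgroup G} (h1 : Rel x T₁ T₂) (h2 : Rel x T₂ T₃) : Rel x T₁ T₃ := by
  obtain ⟨k, hk, hk'⟩ := h1
  obtain ⟨l, hl, hl'⟩ := h2
  refine ⟨l * k, by rw [← cj_mul, hk, hl], ?_⟩
  have h3 : l * (x⁻¹ * (k * x * k⁻¹)) * l⁻¹ ∈ T₃ := by
    rw [← hl, mem_cj]
    have h4 : l⁻¹ * (l * (x⁻¹ * (k * x * k⁻¹)) * l⁻¹) * l = x⁻¹ * (k * x * k⁻¹) := by group
    rw [h4]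
    exact hk'
  have h4 := mul_mem hl' h3
  have h5 : x⁻¹ * (l * x * l⁻¹) * (l * (x⁻¹ * (k * x * k⁻¹)) * l⁻¹) = x⁻¹ * (l * k * x * (l * k)⁻¹) := by group
  rwa [h5] at h4

theorem card_lt_of_lt {A B : Subgroup G} (h : A < B) : Nat.card A < Nat.card B :=
  lt_of_le_of_ne (Subgroup.card_le_of_le h.le) fun h1 => h.ne (Subgroup.eq_of_le_of_card_ge h.le h1.ge)

/-- normalizers grow -/
theorem lt_inf_normalizer [hp : Fact p.Prime] (hT : IsPGroup p T) (hRT : R < T) :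
    R < T ⊓ normalizer (R : Set G) := by
  have hnil : Group.IsNilpotent T := hT.isNilpotent
  have hlt : R.subgroupOf T < ⊤ := by
    rw [lt_top_iff_ne_top]
    intro h1
    exact hRT.not_ge (subgroupOf_eq_top.1 h1)
  obtain ⟨n, hn1, hn2⟩ := SetLike.exists_of_lt (Group.normalizerCondition_of_isNilpotent _ hlt)
  have hnD : (n : G) ∈ normalizer (R : Set G) := by
    apply mem_normalizer_of_sub
    intro v hv
    have h1 : (⟨v, hRT.le hv⟩ : T) ∈ R.subgroupOf T := mem_subgroupOf.2 hv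
    exact mem_subgroupOf.1 ((mem_normalizer_iff.1 hn1 _).1 h1)
  refine lt_of_le_of_ne (le_inf hRT.le le_normalizer) ?_
  intro h1
  apply hn2
  rw [mem_subgroupOf, h1]
  exact ⟨n.2, hnD⟩

/-- **The zipper**: two `x`-invariant Sylow `p`-subgroups are conjugate by an element acting trivially on `x` modulo
the Sylow subgroup. -/
theorem rel_syl [hp : Fact p.Prime] (h : Wk p S x) (hpx : p ∣ orderOf x) (n : ℕ) :
    ∀ T₁ T₂ : Subgroup G, Mx p T₁ ⊤ → Mx p T₂ ⊤ → x ∈ normalizer (T₁ : Set G) → x ∈ normalizer (T₂ : Set G) →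
      Nat.card G ≤ Nat.card (T₁ ⊓ T₂ : Subgroup G) + n → Rel x T₁ T₂ := by
  induction n with
  | zero =>
    intro T₁ T₂ h1 h2 _ _ hn
    have h3 : T₁ ⊓ T₂ = ⊤ := Subgroup.eq_top_of_le_card _ (by simpa using hn)
    have h4 : T₁ = T₂ := by rw [(inf_eq_top_iff.1 h3).1, (inf_eq_top_iff.1 h3).2]
    rw [h4]
    exact Rel.refl x T₂
  | succ n ih =>
    intro T₁ T₂ h1 h2 hx1 hx2 hn
    by_cases h12 : T₁ = T₂
    · rw [h12]
      exact Rel.refl x T₂
    set R := T₁ ⊓ T₂ with hR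
    have hR1 : R < T₁ := lt_of_le_of_ne inf_le_left fun h3 => h12 (h1.eq_of_le h2 (h3 ▸ inf_le_right))
    have hR2 : R < T₂ := lt_of_le_of_ne inf_le_right fun h3 => h12 (h2.eq_of_le h1 (h3 ▸ inf_le_left)).symm
    obtain ⟨m, hm1, hm⟩ := exists_ppart (p := p) hpx
    have hRne : R ≠ ⊥ := by
      intro h3
      have h4 : x ^ m ∈ R := ⟨ppart_le hm h1 hx1 (mem_zpowers _), ppart_le hm h2 hx2 (mem_zpowers _)⟩
      rw [h3, mem_bot] at h4
      exact hm1 h4
    have hRp : IsPGroup p R := h1.pg.to_le hR1.le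
    have hxR : x ∈ normalizer (R : Set G) := by
      apply mem_normalizer_of_sub
      rintro v ⟨hv1, hv2⟩
      exact ⟨(mem_normalizer_iff.1 hx1 v).1 hv1, (mem_normalizer_iff.1 hx2 v).1 hv2⟩
    have hD := normalizer_ne_top h hRp hRne
    have hN1 := lt_inf_normalizer h1.pg hR1
    have hN2 := lt_inf_normalizer h2.pg hR2
    set D := normalizer (R : Set G) with hDdef
    obtain ⟨Q₁, hQ1, hNQ1⟩ := exists_mx (p := p) (D := D) (R := T₁ ⊓ D) inf_le_right (h1.pg.to_le inf_le_left)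
    obtain ⟨Q₂, hQ2, hNQ2⟩ := exists_mx (p := p) (D := D) (R := T₂ ⊓ D) inf_le_right (h2.pg.to_le inf_le_left)
    have hQ1ne : Q₁ ≠ ⊥ := fun h3 => hRne (le_bot_iff.1 (h3 ▸ (hN1.le.trans hNQ1)))
    have hQ2ne : Q₂ ≠ ⊥ := fun h3 => hRne (le_bot_iff.1 (h3 ▸ (hN2.le.trans hNQ2)))
    obtain ⟨T₁', hT1', hQT1, hxT1'⟩ := exists_syl h hQ1.pg hQ1ne (norm_of_mx h hxR hD hQ1)
    obtain ⟨T₂', hT2', hQT2, hxT2'⟩ := exists_syl h hQ2.pg hQ2ne (norm_of_mx h hxR hD hQ2)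
    obtain ⟨d, hd, hdQ⟩ := hQ1.conj hQ2
    have hstep : ∀ {A B : Subgroup G}, R < A ⊓ B → Nat.card G ≤ Nat.card (A ⊓ B : Subgroup G) + n := by
      intro A B hAB
      have := card_lt_of_lt hAB
      omega
    -- `T₁ ~ T₁'`
    have hr1 : Rel x T₁ T₁' := ih T₁ T₁' h1 hT1' hx1 hxT1'
      (hstep (hN1.trans_le (le_inf inf_le_left (hNQ1.trans hQT1))))
    -- `T₁' ~ T₁''`
    have hcm := cm_mem_oc h hxR hD hd
    have hcm2 : x⁻¹ * (d * x * d⁻¹) ∈ cj d T₁' := by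
      have h3 : oc p D ≤ cj d T₁' := (hQ2.oc_le).trans (by rw [← hdQ]; exact cj_mono hQT1)
      exact h3 hcm
    have hr2 : Rel x T₁' (cj d T₁') := ⟨d, rfl, hcm2⟩
    have hx'' : x ∈ normalizer ((cj d T₁' : Subgroup G) : Set G) := by
      have h3 : d * x * d⁻¹ ∈ normalizer ((cj d T₁' : Subgroup G) : Set G) := by
        apply mem_normalizer_of_sub
        intro v hv
        rw [mem_cj] at hv ⊢
        have h4 := (mem_normalizer_iff.1 hxT1' _).1 hv
        have h5 : d⁻¹ * (d * x * d⁻¹ * v * (d * x * d⁻¹)⁻¹) * d = x * (d⁻¹ * v * d) * x⁻¹ := by group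
        rw [h5]
        exact h4
      have h4 : x = (d * x * d⁻¹) * (x⁻¹ * (d * x * d⁻¹))⁻¹ := by group
      rw [h4]
      exact mul_mem h3 (inv_mem (le_normalizer hcm2))
    -- `T₁'' ~ T₂'`
    have hr3 : Rel x (cj d T₁') T₂' := ih _ _ (hT1'.cj d) hT2' hx'' hxT2'
      (hstep (hN2.trans_le (le_inf (hNQ2.trans (by rw [← hdQ]; exact cj_mono hQT1)) (hNQ2.trans hQT2))))
    have hr4 : Rel x T₂' T₂ := ih _ _ hT2' h2 hxT2' hx2
      (hstep (hN2.trans_le (le_inf (hNQ2.trans hQT2) inf_le_left)))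
    exact ((hr1.trans hr2).trans hr3).trans hr4

theorem rel [hp : Fact p.Prime] (h : Wk p S x) (hpx : p ∣ orderOf x) {T₁ T₂ : Subgroup G} (h1 : Mx p T₁ ⊤)
    (h2 : Mx p T₂ ⊤) (hx1 : x ∈ normalizer (T₁ : Set G)) (hx2 : x ∈ normalizer (T₂ : Set G)) : Rel x T₁ T₂ :=
  rel_syl h hpx (Nat.card G) T₁ T₂ h1 h2 hx1 hx2 (Nat.le_add_left _ _)

theorem orderOf_cj (g x : G) : orderOf (g * x * g⁻¹) = orderOf x :=
  orderOf_injective (MulAut.conj g).toMonoidHom (MulAut.conj g).injective x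

/-- A conjugate of `x` normalizing `T` lies in `xT`. -/
theorem mem_coset [hp : Fact p.Prime] (h : Wk p S x) (hpx : p ∣ orderOf x) (hT : Mx p T ⊤)
    (hxT : x ∈ normalizer (T : Set G)) {g : G} (hg : g * x * g⁻¹ ∈ normalizer (T : Set G)) :
    x⁻¹ * (g * x * g⁻¹) ∈ T := by
  set y := g * x * g⁻¹ with hy
  have hyT' : y ∈ normalizer ((cj g T : Subgroup G) : Set G) := by
    apply mem_normalizer_of_sub
    intro v hv
    rw [mem_cj] at hv ⊢
    have h4 := (mem_normalizer_iff.1 hxT _).1 hv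
    have h5 : g⁻¹ * (y * v * y⁻¹) * g = x * (g⁻¹ * v * g) * x⁻¹ := by rw [hy]; group
    rw [h5]
    exact h4
  obtain ⟨k, hk, hk'⟩ := rel (h.conj g) (by rwa [orderOf_cj]) (hT.cj g) hT hyT' hg
  rw [← hy] at hk'
  rw [cj_mul, mem_normalizer_of_cj] at hk
  obtain ⟨m, hm1, hm⟩ := exists_ppart (p := p) hpx
  have hT1 : T ≠ ⊥ := by
    intro h3
    have h4 := ppart_le hm hT hxT (mem_zpowers _)
    rw [h3, mem_bot] at h4
    exact hm1 h4
  have hN := normalizer_ne_top h hT.pg hT1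
  have h1 := (hT.of_le (D := normalizer (T : Set G)) le_normalizer).oc_le (cm_mem_oc h hxT hN hk)
  -- `x⁻¹ (kg) x (kg)⁻¹ ∈ T` and `y⁻¹ k y k⁻¹ ∈ T`
  have h2 : x⁻¹ * y = x⁻¹ * (k * g * x * (k * g)⁻¹) * (y⁻¹ * (k * y * k⁻¹))⁻¹ := by
    rw [hy]
    group
  rw [h2]
  exact mul_mem h1 (inv_mem hk')

/-- A conjugate of `x` in a proper subgroup `D ≥ T⟨x⟩` lies in `x O_p(D)` and normalizes `T`. -/
theorem mem_oc_of_mem [hp : Fact p.Prime] (h : Wk p S x) (hpx : p ∣ orderOf x) (hT : Mx p T ⊤)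
    (hTD : T ≤ D) (hxD : x ∈ D) (hD : D ≠ ⊤) {g : G} (hg : g * x * g⁻¹ ∈ D) :
    g * x * g⁻¹ ∈ normalizer (T : Set G) ∧ x⁻¹ * (g * x * g⁻¹) ∈ oc p D := by
  have hTD' := hT.of_le hTD
  have hyT := norm_of_mx (h.conj g) hg hD hTD'
  have hxT := norm_of_mx h hxD hD hTD'
  refine ⟨hyT, ?_⟩
  have h1 := mem_coset h hpx hT hxT hyT
  set y := g * x * g⁻¹ with hy
  set t : D := ⟨x⁻¹ * y, mul_mem (inv_mem hxD) hg⟩ with ht
  have h2 : t ∈ pCore p D := by
    apply mem_pCore_of_central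
    · obtain ⟨k, hk⟩ := hT.pg ⟨_, h1⟩
      have hk' : (x⁻¹ * y) ^ p ^ k = 1 := congrArg Subtype.val hk
      have h3 : t ^ p ^ k = 1 := Subtype.ext hk'
      obtain ⟨j, -, hj⟩ := (Nat.dvd_prime_pow hp.out).1 (orderOf_dvd_of_pow_eq_one h3)
      exact ⟨j, hj⟩
    · intro d
      set π := QuotientGroup.mk' (pCore p D) with hπ
      have hker : ∀ {w : D}, π w = 1 ↔ w ∈ pCore p D := fun {w} => QuotientGroup.eq_one_iff w
      have h3 : ∀ {z : G} (hz : z ∈ D), Wk p S z → ∀ e : D, π ⟨z, hz⟩ * π e = π e * π ⟨z, hz⟩ := by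
        intro z hz hM e
        obtain ⟨c, hc, hce⟩ := hM.ind D hz hD e e.2
        have h4 : cm (⟨z, hz⟩ : D) e = c := Subtype.ext hce.symm
        have h5 : π (cm (⟨z, hz⟩ : D) e) = 1 := by rw [h4]; exact hker.2 hc
        rw [map_cm, cm_eq_one] at h5
        exact h5
      have h6 : t = (⟨x, hxD⟩ : D)⁻¹ * ⟨y, hg⟩ := rfl
      rw [← hker, map_cm, cm_eq_one, h6, map_mul, map_inv]
      have hx' := h3 hxD h d
      have hy' := h3 hg (h.conj g) d
      have hc1 : Commute (π ⟨x, hxD⟩) (π d) := hx'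
      have hc2 : Commute (π ⟨y, hg⟩) (π d) := hy'
      exact hc1.inv_left.mul_left hc2
  exact ⟨t, h2, rfl⟩

/-- the conjugates of `x` normalizing `T` -/
def Y (x : G) (T : Subgroup G) : Set G := {y | ∃ g : G, y = g * x * g⁻¹ ∧ y ∈ normalizer (T : Set G)}

/-- the `p`-group generated by their quotients -/
def W (x : G) (T : Subgroup G) : Subgroup G := closure {w | ∃ y ∈ Y x T, ∃ y' ∈ Y x T, w = y⁻¹ * y'}

theorem Y_eq [hp : Fact p.Prime] (h : Wk p S x) (hpx : p ∣ orderOf x) (hT : Mx p T ⊤)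
    (hTD : T ≤ D) (hxD : x ∈ D) (hD : D ≠ ⊤) {y : G} : y ∈ Y x T ↔ (∃ g : G, y = g * x * g⁻¹) ∧ y ∈ D := by
  constructor
  · rintro ⟨g, rfl, hg⟩
    refine ⟨⟨g, rfl⟩, ?_⟩
    have hxT := norm_of_mx h hxD hD (hT.of_le hTD)
    have h1 := mul_mem hxD (hTD (mem_coset h hpx hT hxT hg))
    have h2 : x * (x⁻¹ * (g * x * g⁻¹)) = g * x * g⁻¹ := by group
    rwa [h2] at h1
  · rintro ⟨⟨g, rfl⟩, hg⟩
    exact ⟨g, rfl, (mem_oc_of_mem h hpx hT hTD hxD hD hg).1⟩

theorem W_le [hp : Fact p.Prime] (h : Wk p S x) (hpx : p ∣ orderOf x) (hT : Mx p T ⊤)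
    (hTD : T ≤ D) (hxD : x ∈ D) (hD : D ≠ ⊤) : W x T ≤ oc p D := by
  unfold W
  rw [closure_le]
  rintro _ ⟨y, hy, y', hy', rfl⟩
  obtain ⟨⟨g, hg⟩, hyD⟩ := (Y_eq h hpx hT hTD hxD hD).1 hy
  obtain ⟨⟨g', hg'⟩, hyD'⟩ := (Y_eq h hpx hT hTD hxD hD).1 hy'
  have h1 := (mem_oc_of_mem h hpx hT hTD hxD hD (hg ▸ hyD)).2
  have h2 := (mem_oc_of_mem h hpx hT hTD hxD hD (hg' ▸ hyD')).2
  rw [← hg] at h1
  rw [← hg'] at h2
  have h3 : y⁻¹ * y' = (x⁻¹ * y)⁻¹ * (x⁻¹ * y') := by group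
  show y⁻¹ * y' ∈ oc p D
  rw [h3]
  exact mul_mem (inv_mem h1) h2

theorem le_normalizer_W [hp : Fact p.Prime] (h : Wk p S x) (hpx : p ∣ orderOf x) (hT : Mx p T ⊤)
    (hTD : T ≤ D) (hxD : x ∈ D) (hD : D ≠ ⊤) : D ≤ normalizer ((W x T : Subgroup G) : Set G) := by
  intro d hd
  apply mem_normalizer_of_sub
  have hY : ∀ y ∈ Y x T, d * y * d⁻¹ ∈ Y x T := by
    intro y hy
    rw [Y_eq h hpx hT hTD hxD hD] at hy ⊢
    obtain ⟨⟨g, rfl⟩, hyD⟩ := hy
    exact ⟨⟨d * g, by group⟩, mul_mem (mul_mem hd hyD) (inv_mem hd)⟩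
  have h1 : W x T ≤ (W x T).comap (MulAut.conj d).toMonoidHom := by
    conv_lhs => unfold W
    rw [closure_le]
    rintro _ ⟨y, hy, y', hy', rfl⟩
    show d * (y⁻¹ * y') * d⁻¹ ∈ W x T
    have h2 : d * (y⁻¹ * y') * d⁻¹ = (d * y * d⁻¹)⁻¹ * (d * y' * d⁻¹) := by group
    rw [h2]
    exact subset_closure ⟨_, hY y hy, _, hY y' hy', rfl⟩
  exact fun v hv => h1 hv

/-- **The unique `p`-local overgroup**: if `x` normalizes the Sylow `p`-subgroup `T` then all proper subgroups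
containing `T` and `x` normalize one and the same nontrivial `p`-subgroup. -/
theorem unique [hp : Fact p.Prime] (h : Wk p S x) (hpx : p ∣ orderOf x) (hT : Mx p T ⊤)
    (hxT : x ∈ normalizer (T : Set G)) :
    ∃ W : Subgroup G, IsPGroup p W ∧ W ≠ ⊥ ∧ ∀ D : Subgroup G, D ≠ ⊤ → T ≤ D → x ∈ D → D ≤ normalizer (W : Set G) := by
  obtain ⟨m, hm1, hm⟩ := exists_ppart (p := p) hpx
  have hT1 : T ≠ ⊥ := by
    intro h3
    have h4 := ppart_le hm hT hxT (mem_zpowers _)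
    rw [h3, mem_bot] at h4
    exact hm1 h4
  have hN := normalizer_ne_top h hT.pg hT1
  by_cases hW : W x T = ⊥
  · refine ⟨zpowers (x ^ m), hm, by rwa [Ne, zpowers_eq_bot], ?_⟩
    intro D hD hTD hxD d hd
    have hY : ∀ y ∈ Y x T, y = x := by
      intro y hy
      have hxY : x ∈ Y x T := ⟨1, by simp, hxT⟩
      have h1 : x⁻¹ * y ∈ W x T := subset_closure ⟨x, hxY, y, hy, rfl⟩
      rw [hW, mem_bot] at h1
      exact (inv_mul_eq_one.1 h1).symm
    have h1 : d * x * d⁻¹ = x := by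
      apply hY
      rw [Y_eq h hpx hT hTD hxD hD]
      exact ⟨⟨d, rfl⟩, mul_mem (mul_mem hd hxD) (inv_mem hd)⟩
    have h2 : Commute d x := mul_inv_eq_iff_eq_mul.1 h1
    have h3 : d ∈ centralizer ((zpowers (x ^ m) : Subgroup G) : Set G) := by
      rw [mem_centralizer_iff]
      rintro _ ⟨i, rfl⟩
      exact (((h2.pow_right m).zpow_right i).eq).symm
    exact centralizer_le_normalizer _ h3
  · refine ⟨W x T, (oc_pg _).to_le (W_le h hpx hT le_normalizer hxT hN), hW, ?_⟩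
    intro D hD hTD hxD
    exact le_normalizer_W h hpx hT hTD hxD hD

/-- `x` normalizes a Sylow `p`-subgroup. -/
theorem exists_mx_norm [hp : Fact p.Prime] (h : Wk p S x) (hpx : p ∣ orderOf x) :
    ∃ T : Subgroup G, Mx p T ⊤ ∧ x ∈ normalizer (T : Set G) := by
  obtain ⟨m, hm1, hm⟩ := exists_ppart (p := p) hpx
  obtain ⟨T, hT, -, hxT⟩ := exists_syl h hm (by rwa [Ne, zpowers_eq_bot]) (by
    apply centralizer_le_normalizer
    rw [mem_centralizer_iff]
    rintro _ ⟨i, rfl⟩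
    exact ((Commute.refl x).pow_left m |>.zpow_left i).eq)
  exact ⟨T, hT, hxT⟩

/-- Two proper subgroups containing `T` and `x` do not generate `G`. -/
theorem false_of_two [hp : Fact p.Prime] (h : Wk p S x) (hpx : p ∣ orderOf x) (hT : Mx p T ⊤)
    (hxT : x ∈ normalizer (T : Set G)) {D₁ D₂ : Subgroup G} (h1 : D₁ ≠ ⊤) (h2 : D₂ ≠ ⊤) (hT1 : T ≤ D₁) (hT2 : T ≤ D₂)
    (hx1 : x ∈ D₁) (hx2 : x ∈ D₂) (hsup : D₁ ⊔ D₂ = ⊤) : False := by
  obtain ⟨W, hWp, hW1, hW⟩ := unique h hpx hT hxT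
  apply normalizer_ne_top h hWp hW1
  rw [eq_top_iff, ← hsup]
  exact sup_le (hW D₁ h1 hT1 hx1) (hW D₂ h2 hT2 hx2)

/-- In a proper subgroup the `p`-elements among the powers of `x` lie in the `p`-core. -/
theorem pow_mem_oc [hp : Fact p.Prime] (h : Wk p S x) (hxD : x ∈ D) (hD : D ≠ ⊤) {m : ℕ}
    (hm : ∃ k, orderOf (x ^ m) = p ^ k) : x ^ m ∈ oc p D := by
  have h2 : (⟨x, hxD⟩ : D) ^ m ∈ pCore p D := by
    apply mem_pCore_of_central
    · obtain ⟨k, hk⟩ := hm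
      refine ⟨k, ?_⟩
      rw [← hk, ← Subgroup.orderOf_coe, coe_pow]
    · intro d
      set π := QuotientGroup.mk' (pCore p D) with hπ
      have hker : ∀ {w : D}, π w = 1 ↔ w ∈ pCore p D := fun {w} => QuotientGroup.eq_one_iff w
      obtain ⟨c, hc, hce⟩ := h.ind D hxD hD d d.2
      have h4 : cm (⟨x, hxD⟩ : D) d = c := Subtype.ext hce.symm
      have h5 : π (cm (⟨x, hxD⟩ : D) d) = 1 := by rw [h4]; exact hker.2 hc
      rw [map_cm, cm_eq_one] at h5
      have h6 : Commute (π ⟨x, hxD⟩) (π d) := h5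
      rw [← hker, map_cm, cm_eq_one, map_pow]
      exact h6.pow_left m
  exact ⟨_, h2, rfl⟩

end Cfsg.Agent.H516.Zip
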