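import Cfsg.Agent.H516.OddFrame
import Cfsg.Agent.H516.Zip

/-!
# The odd frame in a minimal counterexample to S4094 (helper516)

* `odd_of_bad` : `Bad.odd` without the induction hypothesis;
* `inv_of_wk` : `x` centralizes the `x`-invariant proper subgroups `H ≤ N` with `O_p(H) = 1`;
* `odd_of_wk` : **`|C_N(x)|` is odd** for `p` odd, `N` a sporadic group;
* `bad_of_wk`, `ne_of_wk` : `nAut` is bad and not 1.
-/

set_option autoImplicit false

namespace Cfsg.Agent.H516

open Subgroup Cfsg Cfsg.Agent.SignalizersComponents.Components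
open scoped commutatorElement Pointwise

universe u v

section

variable {L : Type u} [Group L] {p : ℕ} {a : MulAut L}

/-- **A bad automorphism has a fixed subgroup of odd order**, if it centralizes the centralizers of its fixed
involutions. -/
theorem odd_of_bad [Finite L] (hL : Good L) (hp : p.Prime) (hp2 : p ≠ 2) (h : Bad p a) (hne : a ≠ 1)
    (hcl : ∀ t : L, orderOf t = 2 → a t = t → centralizer ({t} : Set L) ≤ fixedSubgroup a) :
    Odd (Nat.card (fixedSubgroup a)) := by
  have hf2 : Fact (Nat.Prime 2) := ⟨Nat.prime_two⟩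
  have hs := hL.simple
  have hc := hL.center
  have hp2' : ¬ p ∣ 2 := fun h => hp2 ((Nat.prime_dvd_prime_iff_eq hp Nat.prime_two).1 h)
  by_contra hodd
  rw [Nat.not_odd_iff_even] at hodd
  set C := fixedSubgroup a with hC
  obtain ⟨t, ht⟩ := exists_prime_orderOf_dvd_card' (G := C) 2 hodd.two_dvd
  have ht' : orderOf (t : L) = 2 := by rw [Subgroup.orderOf_coe]; exact ht
  -- a Sylow 2-subgroup inside `C`
  have hCL : ∀ s : L, orderOf s = 2 → s ∈ C → centralizer ({s} : Set L) ≤ C := fun s hs hsC =>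
    hcl s hs hsC
  obtain ⟨T, hT⟩ := (isPGroup_zpowers (p := 2) (n := 1) (x := (t : L))
    (by rw [pow_one, ← ht']; exact pow_orderOf_eq_one _)).exists_le_sylow
  have htT : (t : L) ∈ T := hT (mem_zpowers _)
  have hTC : (T : Subgroup L) ≤ C := by
    have hnt : Nontrivial (T : Subgroup L) := by
      refine ⟨⟨⟨t, htT⟩, 1, fun h1 => ?_⟩⟩
      have h2 : (t : L) = 1 := congrArg Subtype.val h1
      rw [h2, orderOf_one] at ht'
      norm_num at ht'
    have hz := T.2.center_nontrivial
    obtain ⟨z, hz1⟩ := exists_ne (1 : Subgroup.center (T : Subgroup L))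
    have hzp : IsPGroup 2 (Subgroup.center (T : Subgroup L)) := T.2.to_subgroup _
    obtain ⟨w, hw⟩ : ∃ w : Subgroup.center (T : Subgroup L), orderOf w = 2 := by
      have h2 : 2 ∣ Nat.card (Subgroup.center (T : Subgroup L)) := by
        obtain ⟨n, hn⟩ := IsPGroup.iff_card.1 hzp
        rw [hn]
        refine dvd_pow_self 2 fun h0 => ?_
        rw [h0, pow_zero] at hn
        have := (Nat.card_eq_one_iff_unique.1 hn).1
        exact hz1 (Subsingleton.elim _ _)
      exact exists_prime_orderOf_dvd_card' 2 h2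
    have hw' : orderOf ((w : (T : Subgroup L)) : L) = 2 := by
      rw [Subgroup.orderOf_coe, Subgroup.orderOf_coe]; exact hw
    have hwt : ((w : (T : Subgroup L)) : L) ∈ C := by
      refine hCL t ht' t.2 ?_
      rw [mem_centralizer_singleton_iff]
      have h3 := mem_center_iff.1 w.2 ⟨t, htT⟩
      exact (congrArg (Subtype.val) h3).symm
    refine le_trans ?_ (hCL _ hw' hwt)
    intro q hq
    rw [mem_centralizer_singleton_iff]
    have h3 := mem_center_iff.1 w.2 ⟨q, hq⟩
    exact congrArg (Subtype.val) h3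
  -- the odd part of `a` is inner and centralizes `T`
  obtain ⟨n, m, hm, hn⟩ := Nat.exists_eq_pow_mul_and_not_dvd (orderOf_pos a).ne' 2 (by norm_num)
  have hmodd : Odd m := by rw [← Nat.not_even_iff_odd, even_iff_two_dvd]; exact hm
  have ho : orderOf (a ^ 2 ^ n) = m := by
    rw [orderOf_pow_of_dvd (pow_ne_zero _ (by norm_num)) (by rw [hn]; exact dvd_mul_right _ _), hn,
      Nat.mul_div_cancel_left _ (pow_pos (by norm_num) _)]
  obtain ⟨g, hg⟩ := hL.oi (a ^ 2 ^ n) (by rw [ho]; exact hmodd)
  have hgT : g ∈ centralizer ((T : Subgroup L) : Set L) := by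
    rw [mem_centralizer_iff]
    intro q hq
    have h1 : zpowers a ≤ MulAction.stabilizer (MulAut L) q := by
      rw [zpowers_le]
      exact hTC hq
    have h2 : MulAut.conj g q = q := by rw [← hg]; exact h1 (pow_mem (mem_zpowers a) _)
    rw [MulAut.conj_apply, mul_inv_eq_iff_eq_mul] at h2
    exact h2.symm
  have hg1 : m = 1 := by
    obtain ⟨k, hk⟩ := hL.ct T ⟨g, hgT⟩
    have hk' : g ^ 2 ^ k = 1 := congrArg (Subtype.val) hk
    have h1 : orderOf g = m := by rw [← ho, hg, orderOf_injective _ (conj_injective hc)]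
    have h2 := orderOf_dvd_of_pow_eq_one hk'
    rw [h1] at h2
    exact Nat.eq_one_of_dvd_coprimes ((Nat.coprime_two_left.2 hmodd).pow_left k) h2 dvd_rfl
  rw [hg1, mul_one] at hn
  rcases n with _ | n
  · rw [pow_zero, orderOf_eq_one_iff] at hn
    exact hne hn
  · exact h.false_of_two hc hL.even hp2' hp hn


end

section wk

open Cfsg.Agent.H472.ComRed Cfsg.Agent.H516.Zip
open Cfsg.Agent.Lib.Cores

variable {G : Type u} [Group G] [Finite G] {p : ℕ} {N : Subgroup G} {x : G}

theorem wk_mem_normalizer (h : Wk p N x) : x ∈ normalizer (N : Set G) := by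
  have := h.normal
  rw [normalizer_eq_top_iff.2 this]
  trivial

theorem ne_of_wk (h : Wk p N x) : nAut (wk_mem_normalizer h) ≠ 1 := by
  intro h1
  have h2 := nAut_eq_one (wk_mem_normalizer h) h1
  rw [h.cent, mem_bot] at h2
  exact h.ne h2

theorem bad_of_wk (h : Wk p N x) : Bad p (nAut (wk_mem_normalizer h)) := by
  intro s
  have h1 := nAut_cm (wk_mem_normalizer h) s
  rcases h.bad s with h2 | h2
  · left
    apply Subtype.ext
    rw [h1, h2]
    rfl
  · right
    rw [← h1, Subgroup.orderOf_coe] at h2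
    exact h2

/-- **`x` centralizes the `x`-invariant proper subgroups `H` of `N` with `O_p(H) = 1`.** -/
theorem inv_of_wk (h : Wk p N x) {H : Subgroup N} (hH : H ≠ ⊤)
    (hm : H.map (nAut (wk_mem_normalizer h)).toMonoidHom = H) (hO : pCore p H = ⊥) :
    H ≤ fixedSubgroup (nAut (wk_mem_normalizer h)) := by
  have hN := h.normal
  set a := nAut (wk_mem_normalizer h) with ha
  intro s hs
  rw [mem_fixed]
  set H' := H.map N.subtype with hH'
  by_cases hbot : H = ⊥
  · rw [hbot, mem_bot] at hs
    rw [hs, map_one]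
  have hx : x⁻¹ ∈ normalizer (H' : Set G) := by
    apply mem_normalizer_of_sub
    rintro _ ⟨v, hv, rfl⟩
    refine ⟨a v, ?_, ?_⟩
    · rw [← hm]
      exact ⟨v, hv, rfl⟩
    · show ((a v : N) : G) = x⁻¹ * v * x⁻¹⁻¹
      rw [nAut_coe, inv_inv]
  have hx' : x ∈ normalizer (H' : Set G) := by
    have := inv_mem hx
    rwa [inv_inv] at this
  have hD : normalizer (H' : Set G) ≠ ⊤ := by
    intro h3
    have h4 : H'.Normal := normalizer_eq_top_iff.1 h3
    have h5 : H.Normal := by
      have h6 : H = H'.subgroupOf N := by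
        rw [hH']
        exact (Subgroup.comap_map_eq_self_of_injective N.subtype_injective H).symm
      rw [h6]
      infer_instance
    rcases h.simple.eq_bot_or_eq_top_of_normal H h5 with h6 | h6
    · exact hbot h6
    · exact hH h6
  have hsH' : (s : G) ∈ H' := ⟨s, hs, rfl⟩
  have h1 : cm x s ∈ oc p (normalizer (H' : Set G)) := h.ind _ hx' hD s (le_normalizer hsH')
  have h2 : ((a s)⁻¹ * s : N) ∈ H := by
    refine mul_mem (inv_mem ?_) hs
    rw [← hm]
    exact ⟨s, hs, rfl⟩
  have h3 := nAut_cm (wk_mem_normalizer h) s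
  -- the `p`-core of the normalizer meets `H'` trivially
  set R : Subgroup H := ((oc p (normalizer (H' : Set G))).subgroupOf N).subgroupOf H with hR
  have hRn : R.Normal := by
    refine ⟨fun r hr k => ?_⟩
    rw [hR, mem_subgroupOf, mem_subgroupOf] at hr ⊢
    have h4 : ((k : N) : G) ∈ normalizer (H' : Set G) := le_normalizer ⟨k, k.2, rfl⟩
    exact oc_conj h4 hr
  have hRp : IsPGroup p R := by
    have h4 := oc_pg (p := p) (normalizer (H' : Set G))
    exact (h4.comap_of_injective N.subtype N.subtype_injective).comap_of_injective H.subtype H.subtype_injective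
  have hR1 : R = ⊥ := by
    rw [eq_bot_iff, ← hO]
    exact le_pCore hRn hRp
  have h4 : (⟨(a s)⁻¹ * s, h2⟩ : H) ∈ R := by
    rw [hR, mem_subgroupOf, mem_subgroupOf]
    show (((a s)⁻¹ * s : N) : G) ∈ oc p (normalizer (H' : Set G))
    rw [h3]
    exact h1
  rw [hR1, mem_bot] at h4
  have h5 : (a s)⁻¹ * s = 1 := congrArg Subtype.val h4
  exact inv_mul_eq_one.1 h5

/-- `C_N(y) ≤ C_N(x)` if `x` commutes with `y ≠ 1` and `O_p(C_N(y)) = 1`. -/
theorem centralizer_le_of_wk (h : Wk p N x) (hc : Subgroup.center N = ⊥) {y : N} (hy1 : y ≠ 1)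
    (hy : nAut (wk_mem_normalizer h) y = y) (hO : pCore p ↥(centralizer ({y} : Set N)) = ⊥) :
    centralizer ({y} : Set N) ≤ fixedSubgroup (nAut (wk_mem_normalizer h)) := by
  refine inv_of_wk h ?_ (map_centralizer hy) hO
  intro h1
  apply hy1
  have h2 : y ∈ Subgroup.center N := by
    rw [mem_center_iff]
    intro g
    have h3 : g ∈ centralizer ({y} : Set N) := by rw [h1]; exact mem_top g
    exact mem_centralizer_singleton_iff.1 h3
  rwa [hc, mem_bot] at h2

/-- **`|C_N(x)|` is odd.** -/
theorem odd_of_wk (h : Wk p N x) (hp : p.Prime) (hp2 : p ≠ 2) (hL : Good N) :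
    Odd (Nat.card (fixedSubgroup (nAut (wk_mem_normalizer h)))) := by
  refine odd_of_bad hL hp hp2 (bad_of_wk h) (ne_of_wk h) fun t ht hta => ?_
  refine centralizer_le_of_wk h hL.center ?_ hta (pCore_eq_bot_of_core hp hp2 (hL.core t ht))
  intro h1
  rw [h1, orderOf_one] at ht
  norm_num at ht

end wk

end Cfsg.Agent.H516
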