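import Cfsg.Agent.H516.J4Elem
import Cfsg.Agent.KFacts.J4.DFour
import Cfsg.Agent.KFacts.J4.Base
import Cfsg.Agent.H7.J4Weak
import Cfsg.Agent.S1703

/-!
# The row of `J4` (odd primes)
-/

set_option autoImplicit false
set_option linter.unusedSectionVars false

namespace Cfsg.Agent.H516.J4Row

open Subgroup Cfsg Cfsg.Agent.Lib.F2Mat Cfsg.Agent.Lib.F2MatGroup Matrix Cfsg.Agent.J4.Rep112 LinFix J4Data J4El

universe u

variable {L : Type u} [Group L]

/-- the representation -/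
noncomputable def R (e : L ≃* Spor.J4) : L →* GL (Fin 112) (ZMod 2) := rho.comp e.toMonoidHom

theorem R_symm (e : L ≃* Spor.J4) (w : Spor.J4) : R e (e.symm w) = rho w := by
  show rho (e (e.symm w)) = rho w
  rw [MulEquiv.apply_symm_apply]

theorem R_val (e : L ≃* Spor.J4) {w : Spor.J4} {B : ℕ} (h : Codes 112 (rho w) B) :
    (R e (e.symm w) : Matrix (Fin 112) (Fin 112) (ZMod 2)) = toMat 112 B := by
  rw [R_symm]
  exact h

theorem card_Fix_of (e : L ≃* Spor.J4) {w : Spor.J4} {B r k P PI Q QI : ℕ} (h : Codes 112 (rho w) B)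
    (hc : kc 112 r (Nat.xor B (one 112)) P PI Q QI = true) (hn : r + k = 112) : fx (R e) (e.symm w) = k := by
  apply fx_eq
  rw [Fix_eq_Ker, R_val e h, ← toMat_one, ← toMat_xor]
  exact card_ker hn hc

theorem fx_one {ρ : L →* GL (Fin 112) (ZMod 2)} : fx ρ 1 = 112 := by
  apply fx_eq
  have h1 : Fix ρ (1 : L) = ⊤ := by
    rw [eq_top_iff]
    intro v _
    rw [mem_Fix, map_one, Units.val_one, Matrix.vecMul_one]
  rw [h1, AddSubgroup.card_top, card_V]

theorem inj [IsSimpleGroup L] (e : L ≃* Spor.J4) : Function.Injective (R e) := by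
  rcases IsSimpleGroup.eq_bot_or_eq_top_of_normal (R e).ker inferInstance with h | h
  · exact (MonoidHom.ker_eq_bot_iff _).1 h
  · exfalso
    have h1 : R e (e.symm b37) = 1 := by
      rw [← MonoidHom.mem_ker, h]
      trivial
    have h2 := card_Fix_of e (k := 4) c37 k37 (by norm_num)
    have h3 : fx (R e) (e.symm b37) = 112 := by
      apply fx_eq
      have h4 : Fix (R e) (e.symm b37) = ⊤ := by
        rw [eq_top_iff]
        intro v _
        rw [mem_Fix, h1, Units.val_one, Matrix.vecMul_one]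
      rw [h4, AddSubgroup.card_top, card_V]
    omega

theorem order_of [IsSimpleGroup L] (e : L ≃* Spor.J4) {w : Spor.J4} {s k : ℕ} (hs : s.Prime) (h : rho w ^ s = 1)
    (hf : fx (R e) (e.symm w) = k) (hk : k < 112) : orderOf (e.symm w) = s := by
  have : Fact s.Prime := ⟨hs⟩
  apply orderOf_eq_prime
  · apply inj e
    rw [map_pow, R_symm, h, map_one]
  · intro h1
    rw [h1, fx_one] at hf
    omega

/-- the order -/
theorem card_eq (e : L ≃* Spor.J4) : Nat.card L = 86775571046077562880 := by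
  rw [Nat.card_congr e.toEquiv]
  exact Cfsg.Agent.S1703.result.2

section

variable [Finite L] [IsSimpleGroup L] (e : L ≃* Spor.J4)

include e

theorem base {s m k : ℕ} (hs : s.Prime) (hm : 86775571046077562880 = s * m) (hm2 : ¬ s ∣ m) {w : Spor.J4} (h : rho w ^ s = 1)
    (hf : fx (R e) (e.symm w) = k) (hk : k < 112) {b : L} (hb : orderOf b = s) : fx (R e) b = k := by
  rw [← hf]
  exact SylOne.fx_of_base (R e) hs (by rw [card_eq e]; exact hm) hm2 hb (order_of e hs h hf hk)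

theorem f43 (b : L) (hb : orderOf b = 43) : fx (R e) b = 0 :=
  base e (m := 2018036535955292160) (by norm_num) (by norm_num) (by norm_num) o43 (card_Fix_of e c43 k43 (by norm_num)) (by norm_num) hb
theorem f37 (b : L) (hb : orderOf b = 37) : fx (R e) b = 4 :=
  base e (m := 2345285703948042240) (by norm_num) (by norm_num) (by norm_num) o37 (card_Fix_of e c37 k37 (by norm_num)) (by norm_num) hb
theorem f31 (b : L) (hb : orderOf b = 31) : fx (R e) b = 2 :=
  base e (m := 2799211969228308480) (by norm_num) (by norm_num) (by norm_num) o31 (card_Fix_of e c31 k31 (by norm_num)) (by norm_num) hb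
theorem f29 (b : L) (hb : orderOf b = 29) : fx (R e) b = 0 :=
  base e (m := 2992261070554398720) (by norm_num) (by norm_num) (by norm_num) o29 (card_Fix_of e c29 k29 (by norm_num)) (by norm_num) hb
theorem f23 (b : L) (hb : orderOf b = 23) : fx (R e) b = 2 :=
  base e (m := 3772850915046850560) (by norm_num) (by norm_num) (by norm_num) o23 (card_Fix_of e c23 k23 (by norm_num)) (by norm_num) hb
theorem f7 (b : L) (hb : orderOf b = 7) : fx (R e) b = 16 :=
  base e (m := 12396510149439651840) (by norm_num) (by norm_num) (by norm_num) o7 (card_Fix_of e c7 k7 (by norm_num)) (by norm_num) hb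
theorem f5 (b : L) (hb : orderOf b = 5) : fx (R e) b = 24 :=
  base e (m := 17355114209215512576) (by norm_num) (by norm_num) (by norm_num) o5 (card_Fix_of e c5 k5 (by norm_num)) (by norm_num) hb

/-- non-adjacency from one dimension -/
theorem nadj_k {s q k : ℕ} (hs : s.Prime) (hq : q.Prime) (hf : ∀ b : L, orderOf b = s → fx (R e) b = k)
    (H : ∀ f < 112, ∀ j < k + 1, ¬ (2 ^ 112 % q = 2 ^ f % q ∧ j ≤ f ∧ 2 ^ f % s = 2 ^ j % s ∧ 2 ^ k % q = 2 ^ j % q)) :
    NAdj L s q := by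
  intro b c hb hc hbc
  obtain ⟨-, h2, -, h4, j, h5, h6, h7, h8⟩ := pair (R e) (inj e) hs hq hb hc hbc
  rw [hf b hb] at h5 h8
  exact H _ h2 j (by omega) ⟨h4, h6, h7, h8⟩

/-- non-adjacency from two dimensions -/
theorem nadj_kl {s q k l : ℕ} (hs : s.Prime) (hq : q.Prime) (hf : ∀ b : L, orderOf b = s → fx (R e) b = k)
    (hg : ∀ b : L, orderOf b = q → fx (R e) b = l)
    (H : ∀ j < k + 1, ¬ (j ≤ l ∧ 2 ^ l % s = 2 ^ j % s ∧ 2 ^ k % q = 2 ^ j % q)) :
    NAdj L s q := by
  intro b c hb hc hbc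
  obtain ⟨-, h2, -, h4, j, h5, h6, h7, h8⟩ := pair (R e) (inj e) hs hq hb hc hbc
  rw [hf b hb] at h5 h8
  rw [hg c hc] at h6 h7
  exact H j (by omega) ⟨h6, h7, h8⟩

theorem n37_11 : NAdj L 37 11 := nadj_k e (by norm_num) (by norm_num) (f37 e) (by decide +kernel)
theorem n37_23 : NAdj L 37 23 := nadj_k e (by norm_num) (by norm_num) (f37 e) (by decide +kernel)
theorem n37_29 : NAdj L 37 29 := nadj_k e (by norm_num) (by norm_num) (f37 e) (by decide +kernel)
theorem n37_31 : NAdj L 37 31 := nadj_k e (by norm_num) (by norm_num) (f37 e) (by decide +kernel)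
theorem n37_43 : NAdj L 37 43 := nadj_k e (by norm_num) (by norm_num) (f37 e) (by decide +kernel)
theorem n29_11 : NAdj L 29 11 := nadj_k e (by norm_num) (by norm_num) (f29 e) (by decide +kernel)
theorem n29_23 : NAdj L 29 23 := nadj_k e (by norm_num) (by norm_num) (f29 e) (by decide +kernel)
theorem n29_31 : NAdj L 29 31 := nadj_k e (by norm_num) (by norm_num) (f29 e) (by decide +kernel)
theorem n29_5 : NAdj L 29 5 := nadj_kl e (by norm_num) (by norm_num) (f29 e) (f5 e) (by decide +kernel)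
theorem n43_5 : NAdj L 43 5 := nadj_kl e (by norm_num) (by norm_num) (f43 e) (f5 e) (by decide +kernel)
theorem n43_7 : NAdj L 43 7 := nadj_kl e (by norm_num) (by norm_num) (f43 e) (f7 e) (by decide +kernel)
theorem n43_23 : NAdj L 43 23 := nadj_k e (by norm_num) (by norm_num) (f43 e) (by decide +kernel)
theorem n43_31 : NAdj L 43 31 := nadj_kl e (by norm_num) (by norm_num) (f43 e) (f31 e) (by decide +kernel)
theorem n31_5 : NAdj L 31 5 := nadj_kl e (by norm_num) (by norm_num) (f31 e) (f5 e) (by decide +kernel)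

/-- a polynomial in the matrix of an element -/
theorem poly_comm {w : Spor.J4} {B : ℕ} (h : Codes 112 (rho w) B) {c : L} (hc : e.symm w * c = c * e.symm w) (cs : List Bool) :
    mpoly (toMat 112 B) cs * (R e c : Matrix (Fin 112) (Fin 112) (ZMod 2)) =
      (R e c : Matrix (Fin 112) (Fin 112) (ZMod 2)) * mpoly (toMat 112 B) cs := by
  apply commute_mpoly
  rw [← R_val e h, ← Units.val_mul, ← Units.val_mul, ← map_mul, ← map_mul, hc]

/-- `31` and `23` -/
theorem n31_23 : NAdj L 31 23 := by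
  have ho : orderOf (e.symm b31) = 31 := order_of e (by norm_num) o31 (card_Fix_of e c31 k31 (by norm_num)) (by norm_num : (2 : ℕ) < 112)
  refine SylOne.nadj_of_base (by norm_num) (m := 2799211969228308480) (by rw [card_eq e]) (by norm_num) ho ?_
  intro c hc hbc
  have hp : (p3.map bz).sum = 1 := by decide +kernel
  obtain ⟨j, h1, h2, h3, h4, h5⟩ := sub (R e) (b := e.symm b31) (c := c) (s := 31) (q := 23) (by norm_num) (by norm_num) ho hc hbc
    (mpoly (toMat 112 B31) p3) (poly_comm e c31 rfl p3) (poly_comm e c31 hbc p3) (fun v hv hv2 => by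
      rw [mem_Fix, R_val e c31] at hv
      rw [mem_Ker, vecMul_mpoly hv, hp, one_smul] at hv2
      exact hv2) (w := 15) (by
      rw [← toMat_poly]
      exact card_ker (by norm_num) kw31)
  · rw [f23 e c hc] at h3
    have H : ∀ j < 3, ¬ (2 ^ j % 31 = 1 ∧ 2 ^ 15 % 23 = 2 ^ j % 23) := by decide +kernel
    exact H j (by omega) ⟨h4, h5⟩

/-- `23` and `11` -/
theorem n23_11 : NAdj L 23 11 := by
  have ho : orderOf (e.symm b23) = 23 := order_of e (by norm_num) o23 (card_Fix_of e c23 k23 (by norm_num)) (by norm_num : (2 : ℕ) < 112)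
  refine SylOne.nadj_of_base (by norm_num) (m := 3772850915046850560) (by rw [card_eq e]) (by norm_num) ho ?_
  intro c hc hbc
  have hp : (p4.map bz).sum = 1 := by decide +kernel
  obtain ⟨j, h1, h2, h3, h4, h5⟩ := sub (R e) (b := e.symm b23) (c := c) (s := 23) (q := 11) (by norm_num) (by norm_num) ho hc hbc
    (mpoly (toMat 112 B23) p4) (poly_comm e c23 rfl p4) (poly_comm e c23 hbc p4) (fun v hv hv2 => by
      rw [mem_Fix, R_val e c23] at hv
      rw [mem_Ker, vecMul_mpoly hv, hp, one_smul] at hv2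
      exact hv2) (w := 55) (by
      rw [← toMat_poly]
      exact card_ker (by norm_num) kw23)
  · obtain ⟨-, g2, -, g4, i, g5, g6, g7, g8⟩ := pair (R e) (inj e) (by norm_num : Nat.Prime 23) (by norm_num : Nat.Prime 11) ho hc hbc
    rw [f23 e _ ho] at g5 g8
    have H1 : ∀ f < 112, ∀ i < 3, (2 ^ 112 % 11 = 2 ^ f % 11 ∧ i ≤ f ∧ 2 ^ f % 23 = 2 ^ i % 23 ∧ 2 ^ 2 % 11 = 2 ^ i % 11) → f = 2 := by
      decide +kernel
    have g9 := H1 _ g2 i (by omega) ⟨g4, g6, g7, g8⟩
    have H : ∀ j < 3, ¬ (2 ^ j % 23 = 1 ∧ 2 ^ 55 % 11 = 2 ^ j % 11) := by decide +kernel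
    exact H j (by omega) ⟨h4, h5⟩

/-- `43` and `11` -/
theorem n43_11 : NAdj L 43 11 := by
  have ho : orderOf (e.symm b43) = 43 := order_of e (by norm_num) o43 (card_Fix_of e c43 k43 (by norm_num)) (by norm_num : (0 : ℕ) < 112)
  refine SylOne.nadj_of_base (by norm_num) (m := 2018036535955292160) (by rw [card_eq e]) (by norm_num) ho ?_
  intro c hc hbc
  have hp1 : (p1.map bz).sum = 1 := by decide +kernel
  have hp2 : (p2.map bz).sum = 1 := by decide +kernel
  obtain ⟨j, h1, h2, h3, h4, h5⟩ := sub (R e) (b := e.symm b43) (c := c) (s := 43) (q := 11) (by norm_num) (by norm_num) ho hc hbc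
    (mpoly (toMat 112 B43) p1) (poly_comm e c43 rfl p1) (poly_comm e c43 hbc p1) (fun v hv hv2 => by
      rw [mem_Fix, R_val e c43] at hv
      rw [mem_Ker, vecMul_mpoly hv, hp1, one_smul] at hv2
      exact hv2) (w := 42) (by
      rw [← toMat_poly]
      exact card_ker (by norm_num) kw43)
  obtain ⟨i, i1, i2, i3, i4, i5⟩ := sub (R e) (b := e.symm b43) (c := c) (s := 43) (q := 11) (by norm_num) (by norm_num) ho hc hbc
    (mpoly (toMat 112 B43) p1 * mpoly (toMat 112 B43) p2) (by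
      rw [mul_assoc, poly_comm e c43 rfl p2, ← mul_assoc, poly_comm e c43 rfl p1, mul_assoc]) (by
      rw [mul_assoc, poly_comm e c43 hbc p2, ← mul_assoc, poly_comm e c43 hbc p1, mul_assoc]) (fun v hv hv2 => by
      rw [mem_Fix, R_val e c43] at hv
      rw [mem_Ker, ← Matrix.vecMul_vecMul, vecMul_mpoly hv, hp1, one_smul, vecMul_mpoly hv, hp2, one_smul] at hv2
      exact hv2) (w := 70) (by
      rw [← toMat_poly, ← toMat_poly, ← toMat_mul]
      exact card_ker (by norm_num) kv43)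
  obtain ⟨-, g2, -, g4, l, g5, g6, g7, g8⟩ := pair (R e) (inj e) (by norm_num : Nat.Prime 43) (by norm_num : Nat.Prime 11) ho hc hbc
  rw [f43 e _ ho] at g5 g8
  have H1 : ∀ f < 112, ∀ i < 1, (2 ^ 112 % 11 = 2 ^ f % 11 ∧ i ≤ f ∧ 2 ^ f % 43 = 2 ^ i % 43 ∧ 2 ^ 0 % 11 = 2 ^ i % 11) → f = 42 := by
    decide +kernel
  have g9 := H1 _ g2 l (by omega) ⟨g4, g6, g7, g8⟩
  rw [g9] at i3
  have H2 : ∀ j < 43, (2 ^ j % 43 = 1 ∧ 2 ^ 42 % 11 = 2 ^ j % 11) → j = 42 := by decide +kernel
  have H3 : ∀ j < 43, (2 ^ j % 43 = 1 ∧ 2 ^ 70 % 11 = 2 ^ j % 11) → j = 0 := by decide +kernel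
  have hj := H2 j (by omega) ⟨h4, h5⟩
  have hi := H3 i (by omega) ⟨i4, i5⟩
  have hle : Ker (mpoly (toMat 112 B43) p1) ⊓ Fix (R e) c ≤ Ker (mpoly (toMat 112 B43) p1 * mpoly (toMat 112 B43) p2) ⊓ Fix (R e) c := by
    refine inf_le_inf_right _ ?_
    intro v hv
    rw [mem_Ker] at hv ⊢
    rw [← Matrix.vecMul_vecMul, hv, Matrix.zero_vecMul]
  have h7 := card_le_of_le hle
  rw [h1, i1, hj, hi] at h7
  norm_num at h7

/-- elements of order 31 commute with no involution -/
theorem n31_2 : NAdj L 31 2 := by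
  obtain ⟨-, -, ⟨F⟩⟩ := KFacts.J4.Base.exists_full (K := L) ⟨e⟩
  intro b c hb hc hbc
  have hcc : c * c = 1 := by
    rw [← pow_two, ← hc]
    exact pow_orderOf_eq_one c
  have hc1 : c ≠ 1 := by
    rintro rfl
    rw [orderOf_one] at hc
    norm_num at hc
  have hb1 : b ≠ 1 := by
    rintro rfl
    rw [orderOf_one] at hb
    norm_num at hb
  have key : ∀ g t : L, g * t * g⁻¹ = c → (g⁻¹ * b * g) * t = t * (g⁻¹ * b * g) := by
    intro g t h
    have h1 : t = g⁻¹ * c * g := by rw [← h]; group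
    rw [h1]
    have h2 : g⁻¹ * b * g * (g⁻¹ * c * g) = g⁻¹ * (b * c) * g := by group
    have h3 : g⁻¹ * c * g * (g⁻¹ * b * g) = g⁻¹ * (c * b) * g := by group
    rw [h2, h3, hbc]
  have h31 : ∀ g : L, (g⁻¹ * b * g) ^ 31 = 1 := by
    intro g
    have h1 : (g⁻¹ * b * g⁻¹⁻¹) ^ 31 = g⁻¹ * b ^ 31 * g⁻¹⁻¹ := conj_pow
    rw [inv_inv] at h1
    rw [h1, ← hb, pow_orderOf_eq_one, mul_one, inv_mul_cancel]
  have hne : ∀ g : L, g⁻¹ * b * g = 1 → False := by
    intro g h
    apply hb1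
    have h1 : b = g * (g⁻¹ * b * g) * g⁻¹ := by group
    rw [h1, h, mul_one, mul_inv_cancel]
  rcases KFacts.J4.DFour.classes F.C hcc hc1 with ⟨g, hg⟩ | ⟨p, q, g, hpq, hg⟩
  · exact hne g (H7.J4Weak.eq_one_of_comm_z F.C.toFrame (h31 g) (key g _ hg))
  · exact hne g (H7.J4Weak.eq_one_of_comm_duad F.C.toFrame hpq (h31 g) (key g _ hg))

end

/-- the factorization of the odd part of `|J4|` -/
def fac : List (ℕ × ℕ) := [(3, 3), (5, 1), (7, 1), (11, 3), (23, 1), (29, 1), (31, 1), (37, 1), (43, 1)]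

section

variable [Finite L] {p : ℕ} {a : MulAut L} {b : L}

theorem card_F_dvd (S : Sit p a b) (e : L ≃* Spor.J4) : Nat.card ↥(fixedSubgroup a) ∣ SylOne.pval fac := by
  have h1 : Nat.card ↥(fixedSubgroup a) ∣ 2 ^ 21 * SylOne.pval fac := by
    have h2 : 2 ^ 21 * SylOne.pval fac = 86775571046077562880 := by decide +kernel
    rw [h2, ← card_eq e]
    exact Subgroup.card_subgroup_dvd_card _
  exact (Nat.Coprime.pow_right 21 (Nat.coprime_two_right.2 S.odd)).dvd_of_dvd_mul_left h1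

theorem le_F (S : Sit p a b) (e : L ≃* Spor.J4) : 2 ^ 21 ≤ Nat.card ↥(fixedSubgroup a) :=
  S.two_pow_le (by rw [card_eq e]; norm_num)

theorem contra (S : Sit p a b) (e : L ≃* Spor.J4) {j m : ℕ} (h : Nat.card ↥(fixedSubgroup a) ∣ 2 ^ j * m) (hm : m ≠ 0)
    (hlt : m < 2 ^ 21) : False := by
  have h1 := (Nat.Coprime.pow_right j (Nat.coprime_two_right.2 S.odd)).dvd_of_dvd_mul_left h
  have h2 := Nat.le_of_dvd (Nat.pos_of_ne_zero hm) h1
  have h3 := le_F S e
  omega

theorem big (S : Sit p a b) (e : L ≃* Spor.J4) {s m : ℕ} (hs : s.Prime) (hm : 86775571046077562880 = s * m) (hm2 : ¬ s ∣ m)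
    (hd : s ∣ Nat.card ↥(fixedSubgroup a)) (hchk : ∀ x ∈ fac, ∀ i < x.2 + 1, ¬ (x.1 ≠ s ∧ 1 ≤ i ∧ x.1 ^ i % s = 1)) :
    ∃ c : L, orderOf c = s ∧ fixedSubgroup a ≤ normalizer ((zpowers c : Subgroup L) : Set L) ∧
      Nat.card ↥(fixedSubgroup a) ∣ (s - 1) * Nat.card ↥(centralizer ({c} : Set L)) := by
  obtain ⟨m', hm'⟩ := hd
  have hmm : ¬ s ∣ m' := by
    intro h
    apply hm2
    have h1 : s * m' ∣ s * m := by
      rw [← hm', ← hm, ← card_eq e]
      exact Subgroup.card_subgroup_dvd_card _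
    exact h.trans (Nat.dvd_of_mul_dvd_mul_left hs.pos h1)
  have hqq : ∀ q i : ℕ, q.Prime → q ≠ s → 1 ≤ i → q ^ i ∣ Nat.card ↥(fixedSubgroup a) → ¬ q ^ i ≡ 1 [MOD s] := by
    intro q i hq hqs hi hqi hmod
    obtain ⟨x, hx, hx1, hx2⟩ := SylOne.mem_of_pow_dvd hq hi fac (by decide +kernel) (by decide +kernel) (hqi.trans (card_F_dvd S e))
    apply hchk x hx i (by omega)
    refine ⟨by rw [hx1]; exact hqs, hi, ?_⟩
    have h1 : q ^ i % s = 1 % s := hmod
    rw [hx1, h1, Nat.mod_eq_of_lt hs.one_lt]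
  obtain ⟨c, -, h1, h2, h3⟩ := SylOne.exists_of_odd S.odd hs ⟨m', hm', hmm⟩ hqq
  exact ⟨c, h1, h2, h3⟩

theorem not43 (S : Sit p a b) (e : L ≃* Spor.J4) : ¬ 43 ∣ Nat.card ↥(fixedSubgroup a) := by
  intro hd
  have := S.good.simple
  obtain ⟨c, h1, -, h2⟩ := big S e (s := 43) (m := 2018036535955292160) (by norm_num) (by norm_num) (by norm_num) hd (by decide +kernel)
  have h3 : Nat.card ↥(centralizer ({c} : Set L)) ∣ 2 ^ 21 * 27 * 29 * 43 := by
    refine card_dvd_list (R := 5 * 7 * 1331 * 23 * 31 * 37) (by rw [card_eq e]; norm_num) [5, 7, 11, 23, 31, 37]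
      (fun r hr h => mem_of_dvd_prod (k := 3) (N := 5 * 7 * 1331 * 23 * 31 * 37) (by decide +kernel) hr (by decide +kernel) h) ?_
    rw [h1]
    intro r hr
    simp only [List.mem_cons, List.not_mem_nil, or_false] at hr
    rcases hr with rfl | rfl | rfl | rfl | rfl | rfl
    exacts [n43_5 e, n43_7 e, n43_11 e, n43_23 e, n43_31 e, (n37_43 e).symm]
  have h4 : Nat.card ↥(fixedSubgroup a) ∣ 2 ^ 22 * (21 * 27 * 29 * 43) := by
    have h5 := h2.trans (Nat.mul_dvd_mul_left (43 - 1) h3)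
    have h6 : (43 - 1) * (2 ^ 21 * 27 * 29 * 43) = 2 ^ 22 * (21 * 27 * 29 * 43) := by norm_num
    rwa [h6] at h5
  exact contra S e h4 (by norm_num) (by norm_num)

theorem not37 (S : Sit p a b) (e : L ≃* Spor.J4) : ¬ 37 ∣ Nat.card ↥(fixedSubgroup a) := by
  intro hd
  have := S.good.simple
  obtain ⟨c, h1, -, h2⟩ := big S e (s := 37) (m := 2345285703948042240) (by norm_num) (by norm_num) (by norm_num) hd (by decide +kernel)
  have h3 : Nat.card ↥(centralizer ({c} : Set L)) ∣ 2 ^ 21 * 27 * 5 * 7 * 37 := by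
    refine card_dvd_list (R := 1331 * 23 * 29 * 31 * 43) (by rw [card_eq e]; norm_num) [11, 23, 29, 31, 43]
      (fun r hr h => mem_of_dvd_prod (k := 3) (N := 1331 * 23 * 29 * 31 * 43) (by decide +kernel) hr (by decide +kernel) h) ?_
    rw [h1]
    intro r hr
    simp only [List.mem_cons, List.not_mem_nil, or_false] at hr
    rcases hr with rfl | rfl | rfl | rfl | rfl
    exacts [n37_11 e, n37_23 e, n37_29 e, n37_31 e, n37_43 e]
  have h4 : Nat.card ↥(fixedSubgroup a) ∣ 2 ^ 23 * (9 * 27 * 5 * 7 * 37) := by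
    have h5 := h2.trans (Nat.mul_dvd_mul_left (37 - 1) h3)
    have h6 : (37 - 1) * (2 ^ 21 * 27 * 5 * 7 * 37) = 2 ^ 23 * (9 * 27 * 5 * 7 * 37) := by norm_num
    rwa [h6] at h5
  exact contra S e h4 (by norm_num) (by norm_num)

theorem not29 (S : Sit p a b) (e : L ≃* Spor.J4) : ¬ 29 ∣ Nat.card ↥(fixedSubgroup a) := by
  intro hd
  have := S.good.simple
  obtain ⟨c, h1, -, h2⟩ := big S e (s := 29) (m := 2992261070554398720) (by norm_num) (by norm_num) (by norm_num) hd (by decide +kernel)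
  have h3 : Nat.card ↥(centralizer ({c} : Set L)) ∣ 2 ^ 21 * 27 * 7 * 29 * 43 := by
    refine card_dvd_list (R := 5 * 1331 * 23 * 31 * 37) (by rw [card_eq e]; norm_num) [5, 11, 23, 31, 37]
      (fun r hr h => mem_of_dvd_prod (k := 3) (N := 5 * 1331 * 23 * 31 * 37) (by decide +kernel) hr (by decide +kernel) h) ?_
    rw [h1]
    intro r hr
    simp only [List.mem_cons, List.not_mem_nil, or_false] at hr
    rcases hr with rfl | rfl | rfl | rfl | rfl
    exacts [n29_5 e, n29_11 e, n29_23 e, n29_31 e, (n37_29 e).symm]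
  have h4 : Nat.card ↥(fixedSubgroup a) ∣ 2 ^ 23 * (7 * 27 * 7 * 29 * 43) := by
    have h5 := h2.trans (Nat.mul_dvd_mul_left (29 - 1) h3)
    have h6 : (29 - 1) * (2 ^ 21 * 27 * 7 * 29 * 43) = 2 ^ 23 * (7 * 27 * 7 * 29 * 43) := by norm_num
    rwa [h6] at h5
  exact contra S e h4 (by norm_num) (by norm_num)

/-- the numbers of the form `|N(P)| / 31` -/
theorem no31 {N t : ℕ} (hN : N ∣ 2 * (3 ^ 4 * (5 * (7 * 11 ^ 3)))) (h10 : N % 31 = 10) (ht : Odd t) (htd : t ∣ 31 * N) :
    t < 2 ^ 21 := by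
  obtain ⟨n1, n1', h1, hn1, rfl⟩ := (Nat.dvd_mul).1 hN
  obtain ⟨n2, n2', h2, hn2, rfl⟩ := (Nat.dvd_mul).1 hn1
  obtain ⟨n3, n3', h3, hn3, rfl⟩ := (Nat.dvd_mul).1 hn2
  obtain ⟨n4, n5, h4, h5, rfl⟩ := (Nat.dvd_mul).1 hn3
  rw [← pow_one 2] at h1
  rw [← pow_one 5] at h3
  rw [← pow_one 7] at h4
  obtain ⟨i1, hi1, rfl⟩ := (Nat.dvd_prime_pow (by norm_num)).1 h1
  obtain ⟨i2, hi2, rfl⟩ := (Nat.dvd_prime_pow (by norm_num)).1 h2
  obtain ⟨i3, hi3, rfl⟩ := (Nat.dvd_prime_pow (by norm_num)).1 h3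
  obtain ⟨i4, hi4, rfl⟩ := (Nat.dvd_prime_pow (by norm_num)).1 h4
  obtain ⟨i5, hi5, rfl⟩ := (Nat.dvd_prime_pow (by norm_num)).1 h5
  have H : ((List.range 2).all fun i1 => (List.range 5).all fun i2 => (List.range 2).all fun i3 => (List.range 2).all fun i4 =>
      (List.range 4).all fun i5 => !((2 ^ i1 * (3 ^ i2 * (5 ^ i3 * (7 ^ i4 * 11 ^ i5)))) % 31 == 10 &&
        Nat.ble (2 ^ 21) (31 * (3 ^ i2 * (5 ^ i3 * (7 ^ i4 * 11 ^ i5)))))) = true := by decide +kernel
  simp only [List.all_eq_true, List.mem_range, Bool.not_eq_true', Bool.and_eq_false_iff, beq_eq_false_iff_ne, ne_eq] at H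
  have h6 : t ∣ 31 * (3 ^ i2 * (5 ^ i3 * (7 ^ i4 * 11 ^ i5))) := by
    refine (Nat.Coprime.pow_right i1 (Nat.coprime_two_right.2 ht)).dvd_of_dvd_mul_left ?_
    refine htd.trans (dvd_of_eq ?_)
    ring
  refine lt_of_le_of_lt (Nat.le_of_dvd (by positivity) h6) ?_
  by_contra hcon
  rcases H i1 (by omega) i2 (by omega) i3 (by omega) i4 (by omega) i5 (by omega) with h | h
  · exact h h10
  · have h11 := Nat.ble_eq_true_of_le (not_lt.1 hcon)
    rw [h11] at h
    exact absurd h (by decide)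

theorem not31 (S : Sit p a b) (e : L ≃* Spor.J4) : ¬ 31 ∣ Nat.card ↥(fixedSubgroup a) := by
  intro hd
  have := S.good.simple
  have hf31 : Fact (Nat.Prime 31) := ⟨by norm_num⟩
  obtain ⟨c, h1, hle, h2⟩ := big S e (s := 31) (m := 2799211969228308480) (by norm_num) (by norm_num) (by norm_num) hd (by decide +kernel)
  have h3 : Nat.card ↥(centralizer ({c} : Set L)) ∣ 27 * 7 * 1331 * 31 := by
    refine card_dvd_list (R := 2 ^ 21 * 5 * 23 * 29 * 37 * 43) (by rw [card_eq e]; norm_num) [2, 5, 23, 29, 37, 43]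
      (fun r hr h => mem_of_dvd_prod (k := 21) (N := 2 ^ 21 * 5 * 23 * 29 * 37 * 43) (by decide +kernel) hr (by decide +kernel) h) ?_
    rw [h1]
    intro r hr
    simp only [List.mem_cons, List.not_mem_nil, or_false] at hr
    rcases hr with rfl | rfl | rfl | rfl | rfl | rfl
    exacts [n31_2 e, n31_5 e, n31_23 e, (n29_31 e).symm, (n37_31 e).symm, (n43_31 e).symm]
  -- the normalizer
  set N : Subgroup L := normalizer ((zpowers c : Subgroup L) : Set L) with hN
  have hcN : c ∈ N := le_normalizer (mem_zpowers c)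
  have hNd : Nat.card ↥N ∣ 30 * (27 * 7 * 1331 * 31) := by
    have hc' : orderOf (⟨c, hcN⟩ : ↥N) = 31 := by rw [Subgroup.orderOf_mk, h1]
    have hn : (zpowers (⟨c, hcN⟩ : ↥N)).Normal := by
      apply SylOne.zpowers_normal
      intro x
      have h4 : (x : L) * c * (x : L)⁻¹ ∈ zpowers c := (mem_normalizer_iff.1 x.2 c).1 (mem_zpowers c)
      obtain ⟨k, hk⟩ := mem_zpowers_iff.1 h4
      rw [mem_zpowers_iff]
      refine ⟨k, Subtype.ext ?_⟩
      simpa using hk
    have h5 := SylOne.card_dvd_of_normal (by norm_num) hc'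
    refine h5.trans (Nat.mul_dvd_mul_left _ (dvd_trans ?_ h3))
    have h6 : (centralizer ({(⟨c, hcN⟩ : ↥N)} : Set ↥N)).map N.subtype ≤ centralizer ({c} : Set L) := by
      rintro _ ⟨y, hy, rfl⟩
      apply mem_centralizer_singleton_iff.2
      exact congrArg Subtype.val (mem_centralizer_singleton_iff.1 hy)
    have h7 := Subgroup.card_dvd_of_le h6
    rwa [Subgroup.card_map_of_injective N.subtype_injective] at h7
  -- Sylow
  have hfac : 31 ^ (Nat.card L).factorization 31 = 31 := by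
    have h4 : (Nat.card L).factorization 31 = 1 := by
      rw [card_eq e, show (86775571046077562880 : ℕ) = 31 * 2799211969228308480 by norm_num, Nat.factorization_mul (by norm_num) (by norm_num)]
      show (31 : ℕ).factorization 31 + (2799211969228308480 : ℕ).factorization 31 = 1
      rw [Nat.factorization_eq_zero_of_not_dvd (by norm_num : ¬ 31 ∣ 2799211969228308480), Nat.Prime.factorization_self (by norm_num)]
    rw [h4, pow_one]
  let P : Sylow 31 L := Sylow.ofCard (zpowers c) (by rw [Nat.card_zpowers, h1, hfac])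
  have hP : ((P : Sylow 31 L) : Subgroup L) = zpowers c := rfl
  have h4 : Nat.card (Sylow 31 L) = N.index := by
    rw [P.card_eq_index_normalizer]
    rfl
  have h5 : N.index % 31 = 1 := by
    have h6 := card_sylow_modEq_one 31 L
    rw [h4] at h6
    exact h6
  have h6 := N.index_mul_card
  rw [card_eq e] at h6
  obtain ⟨N', hN'⟩ : 31 ∣ Nat.card ↥N := by
    rw [← h1, ← Subgroup.orderOf_mk (H := N) c hcN]
    exact orderOf_dvd_natCard _
  rw [hN'] at h6 hNd
  have h7 : N.index * N' = 2799211969228308480 := by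
    have h8 : 31 * (N.index * N') = 31 * 2799211969228308480 := by
      rw [show 31 * (N.index * N') = N.index * (31 * N') by ring, h6]
    omega
  have h8 : N' % 31 = 10 := by
    have h9 : (N.index * N') % 31 = 10 := by rw [h7]
    rw [Nat.mul_mod, h5, one_mul, Nat.mod_mod] at h9
    exact h9
  have h9 : N' ∣ 2 * (3 ^ 4 * (5 * (7 * 11 ^ 3))) := by
    have h10 : 31 * N' ∣ 31 * (2 * (3 ^ 4 * (5 * (7 * 11 ^ 3)))) := by
      refine hNd.trans (dvd_of_eq ?_)
      norm_num
    exact Nat.dvd_of_mul_dvd_mul_left (by norm_num) h10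
  have h10 := no31 h9 h8 S.odd (by rw [← hN']; exact Subgroup.card_dvd_of_le hle)
  have h11 := le_F S e
  omega

theorem not23 (S : Sit p a b) (e : L ≃* Spor.J4) : ¬ 23 ∣ Nat.card ↥(fixedSubgroup a) := by
  intro hd
  have := S.good.simple
  obtain ⟨c, h1, -, h2⟩ := big S e (s := 23) (m := 3772850915046850560) (by norm_num) (by norm_num) (by norm_num) hd (by decide +kernel)
  have h3 : Nat.card ↥(centralizer ({c} : Set L)) ∣ 2 ^ 21 * 27 * 5 * 7 * 23 := by
    refine card_dvd_list (R := 1331 * 29 * 31 * 37 * 43) (by rw [card_eq e]; norm_num) [11, 29, 31, 37, 43]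
      (fun r hr h => mem_of_dvd_prod (k := 3) (N := 1331 * 29 * 31 * 37 * 43) (by decide +kernel) hr (by decide +kernel) h) ?_
    rw [h1]
    intro r hr
    simp only [List.mem_cons, List.not_mem_nil, or_false] at hr
    rcases hr with rfl | rfl | rfl | rfl | rfl
    exacts [n23_11 e, (n29_23 e).symm, (n31_23 e).symm, (n37_23 e).symm, (n43_23 e).symm]
  have h4 : Nat.card ↥(fixedSubgroup a) ∣ 2 ^ 22 * (11 * 27 * 5 * 7 * 23) := by
    have h5 := h2.trans (Nat.mul_dvd_mul_left (23 - 1) h3)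
    have h6 : (23 - 1) * (2 ^ 21 * 27 * 5 * 7 * 23) = 2 ^ 22 * (11 * 27 * 5 * 7 * 23) := by norm_num
    rwa [h6] at h5
  exact contra S e h4 (by norm_num) (by norm_num)

end

/-- **The row of `J4`.** -/
theorem j4 {p : ℕ} [Finite L] {a : MulAut L} {b : L} (h : Spor.IsoJ4 L) (S : Sit p a b) : False := by
  obtain ⟨e⟩ := h
  have h1 : Nat.card ↥(fixedSubgroup a) ∣ (3 ^ 3 * 5 * 7 * 11 ^ 3) * (23 * 29 * 31 * 37 * 43) := by
    refine (card_F_dvd S e).trans (dvd_of_eq ?_)
    decide +kernel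
  have hc : Nat.Coprime (Nat.card ↥(fixedSubgroup a)) (23 * 29 * 31 * 37 * 43) := by
    refine Nat.Coprime.mul_right (Nat.Coprime.mul_right (Nat.Coprime.mul_right (Nat.Coprime.mul_right ?_ ?_) ?_) ?_) ?_
    · exact ((Nat.Prime.coprime_iff_not_dvd (by norm_num)).2 (not23 S e)).symm
    · exact ((Nat.Prime.coprime_iff_not_dvd (by norm_num)).2 (not29 S e)).symm
    · exact ((Nat.Prime.coprime_iff_not_dvd (by norm_num)).2 (not31 S e)).symm
    · exact ((Nat.Prime.coprime_iff_not_dvd (by norm_num)).2 (not37 S e)).symm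
    · exact ((Nat.Prime.coprime_iff_not_dvd (by norm_num)).2 (not43 S e)).symm
  have h2 := hc.dvd_of_dvd_mul_right h1
  refine contra S e (j := 0) (m := 3 ^ 3 * 5 * 7 * 11 ^ 3) ?_ (by norm_num) (by norm_num)
  rw [pow_zero, one_mul]
  exact h2

end Cfsg.Agent.H516.J4Row
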