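import Mathlib
import Cfsg.Prelude.Def_Local
import Cfsg.Prelude.Def_EvenType
import Cfsg.Agent.SignalizersComponents.Components
import Cfsg.Agent.TwoFusion.FStarControl

/-!
# S4095, S4096, S4094: automorphisms all of whose nontrivial commutators are `p`-singular

* `Row p L` : every nontrivial automorphism `a` of `L` has a nontrivial commutator `(a s)⁻¹ * s` of order prime to `p`;
* `Bad p a` : every commutator `(a s)⁻¹ * s` is trivial or of order divisible by `p`; `row_iff`;
* `Bad.fix_of_not_dvd`, `Bad.le_fixed` : a `p'`-subgroup invariant under a bad automorphism is fixed elementwise;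
* `Bad.card_le` : **coset bound** `|Q| ≤ |C_L(a)|` for every `p'`-subgroup `Q`;
* `Bad.res` : restriction to an invariant subgroup;
* `Bad.quot` : the induced automorphism of a quotient by a normal `p'`-subgroup;
* `Bad.eq_one_of_quasisimple`, `Bad.eq_one_of_pCore` : **a bad automorphism of `H` is trivial if `O_p(H) = 1` and the rows
  hold for the `K / Z(K)`, `K` a component of `H`**.
-/

set_option autoImplicit false

namespace Cfsg.Agent.H516

open Subgroup Cfsg
open scoped commutatorElement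

universe u v

/-- Every nontrivial automorphism of `L` has a nontrivial commutator of order prime to `p`. -/
def Row (p : ℕ) (L : Type*) [Group L] : Prop :=
  ∀ a : MulAut L, a ≠ 1 → ∃ s : L, (a s)⁻¹ * s ≠ 1 ∧ ¬ p ∣ orderOf ((a s)⁻¹ * s)

/-- All commutators of the automorphism are trivial or `p`-singular. -/
def Bad (p : ℕ) {L : Type*} [Group L] (a : MulAut L) : Prop :=
  ∀ s : L, (a s)⁻¹ * s = 1 ∨ p ∣ orderOf ((a s)⁻¹ * s)

section Basic

variable {L : Type u} [Group L] {p : ℕ} {a : MulAut L}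

theorem row_iff : Row p L ↔ ∀ a : MulAut L, Bad p a → a = 1 := by
  constructor
  · intro h a ha
    by_contra h1
    obtain ⟨s, hs, hp⟩ := h a h1
    rcases ha s with h2 | h2
    · exact hs h2
    · exact hp h2
  · intro h a ha
    by_contra h1
    push Not at h1
    refine ha (h a fun s => ?_)
    by_cases h2 : (a s)⁻¹ * s = 1
    · exact Or.inl h2
    · exact Or.inr (h1 s h2)

theorem Row.congr {L' : Type v} [Group L'] (e : L ≃* L') (h : Row p L) : Row p L' := by
  intro b hb
  have hne : (MulAut.congr e).symm b ≠ 1 := by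
    intro h1
    apply hb
    rw [← (MulAut.congr e).apply_symm_apply b, h1, map_one]
  obtain ⟨s, hs, hp⟩ := h _ hne
  have h1 : ∀ s, ((MulAut.congr e).symm b) s = e.symm (b (e s)) := fun s => rfl
  have h2 : (b (e s))⁻¹ * e s = e (((MulAut.congr e).symm b s)⁻¹ * s) := by
    rw [h1, map_mul, map_inv, e.apply_symm_apply]
  refine ⟨e s, ?_, ?_⟩
  · rw [h2]
    intro h3
    exact hs (by rwa [EmbeddingLike.map_eq_one_iff] at h3)
  · rw [h2, MulEquiv.orderOf_eq]
    exact hp

theorem mem_fixed {s : L} : s ∈ fixedSubgroup a ↔ a s = s := Iff.rfl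

theorem fix_iff {s : L} : (a s)⁻¹ * s = 1 ↔ a s = s := by
  rw [inv_mul_eq_one]

/-- a commutator of order prime to `p` is trivial -/
theorem Bad.fix (h : Bad p a) {s : L} (hs : ¬ p ∣ orderOf ((a s)⁻¹ * s)) : a s = s :=
  fix_iff.1 ((h s).resolve_right hs)

/-- If `s` and `a s` lie in a `p'`-subgroup, `s` is fixed. -/
theorem Bad.fix_of_mem [Finite L] (h : Bad p a) {Q : Subgroup L} (hQ : ¬ p ∣ Nat.card Q) {s : L} (hs : s ∈ Q) (hs' : a s ∈ Q) :
    a s = s := by
  refine h.fix fun h1 => hQ (h1.trans ?_)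
  have h2 : (a s)⁻¹ * s ∈ Q := Q.mul_mem (Q.inv_mem hs') hs
  have h3 := orderOf_dvd_natCard (⟨(a s)⁻¹ * s, h2⟩ : Q)
  rwa [Subgroup.orderOf_mk] at h3

theorem Bad.le_fixed [Finite L] (h : Bad p a) {Q : Subgroup L} (hQ : ¬ p ∣ Nat.card Q) (hm : ∀ s ∈ Q, a s ∈ Q) :
    Q ≤ fixedSubgroup a := fun s hs => h.fix_of_mem hQ hs (hm s hs)

/-- `s`, `a s` commute and `s` has order prime to `p`: then `s` is fixed. -/
theorem Bad.fix_of_commute (h : Bad p a) {s : L} (hs : (orderOf s).Coprime p) (hc : Commute (a s) s) (hp : p ≠ 1) :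
    a s = s := by
  refine h.fix fun h1 => hp ?_
  have h2 : orderOf ((a s)⁻¹ * s) ∣ orderOf s * orderOf s := by
    have h3 := (hc.inv_left).orderOf_mul_dvd_mul_orderOf
    rwa [orderOf_inv, MulEquiv.orderOf_eq] at h3
  have h4 : p ∣ orderOf s * orderOf s := h1.trans h2
  have h5 : Nat.Coprime (orderOf s * orderOf s) p := Nat.Coprime.mul_left hs hs
  exact Nat.dvd_one.1 (by rw [← h5.symm.eq_one_of_dvd h4])

/-- **Coset bound.** -/
theorem Bad.card_le [Finite L] (h : Bad p a) {Q : Subgroup L} (hQ : ¬ p ∣ Nat.card Q) :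
    Nat.card Q ≤ Nat.card (fixedSubgroup a) := by
  classical
  set C := fixedSubgroup a with hC
  -- the commutators are in bijection with the right cosets of `C`
  let f : L → L := fun s => (a s)⁻¹ * s
  have hf : ∀ s t : L, f s = f t ↔ t * s⁻¹ ∈ C := by
    intro s t
    change (a s)⁻¹ * s = (a t)⁻¹ * t ↔ a (t * s⁻¹) = t * s⁻¹
    rw [map_mul, map_inv]
    constructor
    · intro h1
      have h2 : s = a s * ((a t)⁻¹ * t) := by rw [← h1]; group
      calc a t * (a s)⁻¹ = a t * ((a s)⁻¹ * s) * s⁻¹ := by group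
        _ = a t * ((a t)⁻¹ * t) * s⁻¹ := by rw [h1]
        _ = t * s⁻¹ := by group
    · intro h1
      calc (a s)⁻¹ * s = (a t)⁻¹ * (a t * (a s)⁻¹) * s := by group
        _ = (a t)⁻¹ * (t * s⁻¹) * s := by rw [h1]
        _ = (a t)⁻¹ * t := by group
  -- distinct commutators lie in distinct left cosets of `Q`
  have hinj : ∀ s t : L, (f s)⁻¹ * f t ∈ Q → f s = f t := by
    intro s t hst
    have h1 : (f s)⁻¹ * f t = s⁻¹ * ((a (s * t⁻¹)) * (s * t⁻¹)⁻¹) * s := by
      change ((a s)⁻¹ * s)⁻¹ * ((a t)⁻¹ * t) = _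
      rw [map_mul, map_inv]
      group
    have h2 : ¬ p ∣ orderOf ((f s)⁻¹ * f t) := by
      intro h3
      apply hQ
      refine h3.trans ?_
      have h4 := orderOf_dvd_natCard (⟨_, hst⟩ : Q)
      rwa [Subgroup.orderOf_mk] at h4
    have h3 : ((f s)⁻¹ * f t) = MulAut.conj s⁻¹ ((MulAut.conj (a (s * t⁻¹)) ((a (s * t⁻¹))⁻¹ * (s * t⁻¹))⁻¹)) := by
      rw [h1, MulAut.conj_apply, MulAut.conj_apply]
      group
    have h4 : orderOf ((f s)⁻¹ * f t) = orderOf ((a (s * t⁻¹))⁻¹ * (s * t⁻¹)) := by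
      rw [h3, MulEquiv.orderOf_eq, MulEquiv.orderOf_eq, orderOf_inv]
    rw [h4] at h2
    have h5 := h.fix h2
    rw [hf]
    have h6 : (s * t⁻¹) ∈ C := h5
    have h7 := C.inv_mem h6
    rwa [mul_inv_rev, inv_inv] at h7
  -- counting
  have hF : Function.Injective (fun z : (L ⧸ C) × Q => f ((Quotient.out z.1 : L)⁻¹) * (z.2 : L)) := by
    rintro ⟨x, q⟩ ⟨y, r⟩ hxy
    have hxy' : f ((Quotient.out x : L)⁻¹) * (q : L) = f ((Quotient.out y : L)⁻¹) * (r : L) := hxy
    have h1 : (f ((Quotient.out x : L)⁻¹))⁻¹ * f ((Quotient.out y : L)⁻¹) = (q : L) * (r : L)⁻¹ := by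
      calc (f ((Quotient.out x : L)⁻¹))⁻¹ * f ((Quotient.out y : L)⁻¹)
          = (f ((Quotient.out x : L)⁻¹))⁻¹ * (f ((Quotient.out y : L)⁻¹) * (r : L)) * (r : L)⁻¹ := by group
        _ = (f ((Quotient.out x : L)⁻¹))⁻¹ * (f ((Quotient.out x : L)⁻¹) * (q : L)) * (r : L)⁻¹ := by rw [hxy']
        _ = (q : L) * (r : L)⁻¹ := by group
    have h2 := hinj _ _ (by rw [h1]; exact Q.mul_mem q.2 (Q.inv_mem r.2))
    have h3 := (hf _ _).1 h2
    rw [inv_inv] at h3
    have h4 : x = y := by
      have h5 : (QuotientGroup.mk (Quotient.out y : L) : L ⧸ C) = QuotientGroup.mk (Quotient.out x : L) :=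
        QuotientGroup.eq.2 h3
      calc x = QuotientGroup.mk (Quotient.out x : L) := (QuotientGroup.out_eq' x).symm
        _ = QuotientGroup.mk (Quotient.out y : L) := h5.symm
        _ = y := QuotientGroup.out_eq' y
    subst h4
    have h5 : (q : L) = r := mul_left_cancel hxy'
    exact Prod.ext rfl (Subtype.ext h5)
  have h1 := Nat.card_le_card_of_injective _ hF
  rw [Nat.card_prod, ← C.card_mul_index, ← Subgroup.index] at h1
  have h2 : 0 < C.index := Nat.pos_of_ne_zero Subgroup.index_ne_zero_of_finite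
  exact Nat.le_of_mul_le_mul_left (by rw [mul_comm C.index (Nat.card C)]; exact h1) h2

end Basic

section Res

variable {L : Type u} [Group L] {p : ℕ} {a : MulAut L}

/-- restriction of an automorphism to an invariant subgroup -/
def resAut (a : MulAut L) (H : Subgroup L) (hH : H.map a.toMonoidHom = H) : MulAut H :=
  (a.subgroupMap H).trans (MulEquiv.subgroupCongr hH)

theorem resAut_apply (H : Subgroup L) (hH : H.map a.toMonoidHom = H) (s : H) : ((resAut a H hH s : H) : L) = a s := rfl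

theorem Bad.res (h : Bad p a) (H : Subgroup L) (hH : H.map a.toMonoidHom = H) : Bad p (resAut a H hH) := by
  intro s
  have h1 : (((resAut a H hH s)⁻¹ * s : H) : L) = (a s)⁻¹ * s := rfl
  rcases h s with h2 | h2
  · left
    apply Subtype.ext
    rw [h1, h2]
    rfl
  · right
    rw [← Subgroup.orderOf_coe, h1]
    exact h2

theorem le_fixed_of_res {H : Subgroup L} {hH : H.map a.toMonoidHom = H} (h : resAut a H hH = 1) : H ≤ fixedSubgroup a := by
  intro s hs
  have h1 : ((resAut a H hH ⟨s, hs⟩ : H) : L) = s := by rw [h]; rfl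
  exact h1

theorem map_eq_of_forall [Finite L] {H : Subgroup L} (h : ∀ s ∈ H, a s ∈ H) : H.map a.toMonoidHom = H := by
  have h1 : H.map a.toMonoidHom ≤ H := by
    rintro _ ⟨s, hs, rfl⟩
    exact h s hs
  refine Subgroup.eq_of_le_of_card_ge h1 ?_
  rw [Subgroup.card_map_of_injective a.injective]

/-- the induced automorphism of a quotient -/
def quotAut (a : MulAut L) (N : Subgroup L) [N.Normal] (hN : N.map a.toMonoidHom = N) : MulAut (L ⧸ N) :=
  QuotientGroup.congr N N a hN

theorem quotAut_mk (N : Subgroup L) [N.Normal] (hN : N.map a.toMonoidHom = N) (s : L) :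
    quotAut a N hN (QuotientGroup.mk s) = QuotientGroup.mk (a s) := rfl

theorem Bad.quot [Finite L] (hp : p.Prime) (h : Bad p a) (N : Subgroup L) [N.Normal] (hN : N.map a.toMonoidHom = N)
    (hN' : ¬ p ∣ Nat.card N) : Bad p (quotAut a N hN) := by
  intro s
  obtain ⟨s, rfl⟩ := QuotientGroup.mk_surjective s
  have h1 : (quotAut a N hN (QuotientGroup.mk s))⁻¹ * (QuotientGroup.mk s : L ⧸ N) = QuotientGroup.mk ((a s)⁻¹ * s) := rfl
  rw [h1]
  rcases h s with h2 | h2
  · left
    rw [h2]
    rfl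
  · right
    set y := (a s)⁻¹ * s with hy
    have h3 : y ^ orderOf (QuotientGroup.mk y : L ⧸ N) ∈ N := by
      rw [← QuotientGroup.eq_one_iff, QuotientGroup.mk_pow, pow_orderOf_eq_one]
    have h4 : (y ^ orderOf (QuotientGroup.mk y : L ⧸ N)) ^ Nat.card N = 1 := by
      have h5 : (⟨_, h3⟩ : N) ^ Nat.card N = 1 := pow_card_eq_one'
      exact congrArg (fun z : N => (z : L)) h5
    rw [← pow_mul] at h4
    have h5 : orderOf y ∣ orderOf (QuotientGroup.mk y : L ⧸ N) * Nat.card N := orderOf_dvd_of_pow_eq_one h4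
    exact (hp.dvd_mul.1 (h2.trans h5)).resolve_right hN'

end Res

section Quasi

variable {K : Type u} [Group K] {p : ℕ} {a : MulAut K}

theorem map_center_eq (a : MulAut K) : (center K).map a.toMonoidHom = center K :=
  Subgroup.characteristic_iff_map_eq.1 inferInstance a

/-- An automorphism of a perfect group which is trivial modulo the center is trivial. -/
theorem eq_one_of_center (hK : Group.IsPerfect K) (h : ∀ s : K, (a s)⁻¹ * s ∈ center K) : a = 1 := by
  have h1 : commutator K ≤ fixedSubgroup a := by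
    rw [commutator_def, Subgroup.commutator_le]
    intro x _ y _
    change a ⁅x, y⁆ = ⁅x, y⁆
    rw [map_commutatorElement]
    have hx : a x = x * ((a x)⁻¹ * x)⁻¹ := by group
    have hy : a y = y * ((a y)⁻¹ * y)⁻¹ := by group
    have hcx := Subgroup.inv_mem _ (h x)
    have hcy := Subgroup.inv_mem _ (h y)
    rw [hx, hy]
    generalize ((a x)⁻¹ * x)⁻¹ = z at hcx
    generalize ((a y)⁻¹ * y)⁻¹ = w at hcy
    have hz := Subgroup.mem_center_iff.1 hcx
    have hw := Subgroup.mem_center_iff.1 hcy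
    simp only [commutatorElement_def, mul_inv_rev]
    calc x * z * (y * w) * (z⁻¹ * x⁻¹) * (w⁻¹ * y⁻¹)
        = x * z * y * (w * z⁻¹) * x⁻¹ * w⁻¹ * y⁻¹ := by group
      _ = x * z * y * (z⁻¹ * w) * x⁻¹ * w⁻¹ * y⁻¹ := by rw [hw z⁻¹]
      _ = x * (z * y) * z⁻¹ * (w * x⁻¹) * w⁻¹ * y⁻¹ := by group
      _ = x * (y * z) * z⁻¹ * (x⁻¹ * w) * w⁻¹ * y⁻¹ := by rw [hz y, hw x⁻¹]
      _ = x * y * x⁻¹ * y⁻¹ := by group
  have h2 : (⊤ : Subgroup K) ≤ fixedSubgroup a := by
    have h3 : commutator K = ⊤ := Group.isPerfect_def.1 hK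
    rw [← h3]
    exact h1
  ext s
  exact h2 (mem_top s)

/-- A quasisimple group with center of order prime to `p` has no nontrivial bad automorphism, if the row holds for
the simple quotient. -/
theorem Bad.eq_one_of_quasisimple [Finite K] (hp : p.Prime) (hK : IsQuasisimple K) (hz : ¬ p ∣ Nat.card (center K))
    (hr : Row p (K ⧸ center K)) (h : Bad p a) : a = 1 := by
  have h1 := row_iff.1 hr _ (h.quot hp (center K) (map_center_eq a) hz)
  refine eq_one_of_center hK.1 fun s => ?_
  rw [← QuotientGroup.eq_one_iff]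
  have h2 : (QuotientGroup.mk ((a s)⁻¹ * s) : K ⧸ center K) =
      (quotAut a (center K) (map_center_eq a) (QuotientGroup.mk s))⁻¹ * QuotientGroup.mk s := rfl
  rw [h2, h1]
  simp

end Quasi

end Cfsg.Agent.H516
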