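import Cfsg.Agent.H516.MinOdd
import Cfsg.Agent.H979.OddB

/-!
# The Baby Monster at the prime 3, strong form (helper516)

The row `H979.OddB.row` uses the induction hypothesis only for the centralizer of one element; in a minimal
counterexample to S4094 this is `centralizer_le_of_wk`.
-/

set_option autoImplicit false

namespace Cfsg.Agent.H516

open Cfsg
open Subgroup (centralizer mem_centralizer_singleton_iff center card_dvd_of_le)
open Cfsg.Agent.H472.ComRed (nAut)
open Cfsg.Agent.H979.OddB

universe u

theorem b_lt_five {G : Type u} [Group G] [Finite G] {p : ℕ} {N : Subgroup G} {x : G} (h : Zip.Wk p N x) (hp : p.Prime)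
    (hp2 : p ≠ 2) (hp5 : p ≠ 5) (hL : Good N) (hN : Spor.IsoB N) : False := by
  have hodd := odd_of_wk h hp hp2 hL
  have hbad := bad_of_wk h
  have h41 : 2 ^ 41 ≤ Nat.card (fixedSubgroup (nAut (wk_mem_normalizer h))) := by
    have hf2 : Fact (Nat.Prime 2) := ⟨Nat.prime_two⟩
    obtain ⟨Q, hQ⟩ := Sylow.exists_subgroup_card_pow_prime (G := N) (n := 41) 2 (by
      rw [NotCT.Orders.b hN]
      norm_num)
    rw [← hQ]
    apply hbad.card_le
    rw [hQ]
    intro h1
    exact hp2 ((Nat.prime_dvd_prime_iff_eq hp Nat.prime_two).1 (hp.dvd_of_dvd_pow h1))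
  rcases card_lt hN (fixedSubgroup (nAut (wk_mem_normalizer h))) hodd with h1 | h1
  · omega
  · obtain ⟨y, hy, hy2, hyc⟩ := exists_hn hN hp hp2 hp5
    obtain ⟨g, hg⟩ := exists_conj_mem hN (F := fixedSubgroup (nAut (wk_mem_normalizer h))) (by rw [h1]; norm_num) hy
    have hfix : nAut (wk_mem_normalizer h) (g * y * g⁻¹) = g * y * g⁻¹ := hg
    have hmap : (centralizer ({y} : Set N)).map (MulAut.conj g).toMonoidHom = centralizer ({g * y * g⁻¹} : Set N) := by
      ext k
      rw [Subgroup.mem_map_equiv, mem_centralizer_singleton_iff, mem_centralizer_singleton_iff,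
        MulAut.conj_symm_apply]
      constructor
      · intro h3
        calc k * (g * y * g⁻¹) = g * (g⁻¹ * k * g * y) * g⁻¹ := by group
          _ = g * (y * (g⁻¹ * k * g)) * g⁻¹ := by rw [h3]
          _ = _ := by group
      · intro h3
        calc g⁻¹ * k * g * y = g⁻¹ * (k * (g * y * g⁻¹)) * g := by group
          _ = g⁻¹ * (g * y * g⁻¹ * k) * g := by rw [h3]
          _ = _ := by group
    let ec : ↥(centralizer ({y} : Set N)) ≃* ↥(centralizer ({g * y * g⁻¹} : Set N)) :=
      ((centralizer ({y} : Set N)).equivMapOfInjective _ (MulAut.conj g).injective).trans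
        (MulEquiv.subgroupCongr hmap)
    have hO : pCore p ↥(centralizer ({g * y * g⁻¹} : Set N)) = ⊥ := by
      rw [← Lib.Cores.map_equiv_pCore ec p, hyc, Subgroup.map_bot]
    have hne : g * y * g⁻¹ ≠ 1 := by
      intro h3
      have h4 : y = 1 := by
        have h5 : y = g⁻¹ * (g * y * g⁻¹) * g := by group
        rw [h5, h3]
        group
      rw [h4, orderOf_one] at hy
      norm_num at hy
    have h3 := centralizer_le_of_wk h hL.center hne hfix hO
    have h4 : 2 ∣ Nat.card (fixedSubgroup (nAut (wk_mem_normalizer h))) := by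
      refine Dvd.dvd.trans ?_ (card_dvd_of_le h3)
      rwa [← Nat.card_congr ec.toEquiv]
    exact (Nat.not_even_iff_odd.2 hodd) (even_iff_two_dvd.2 h4)

end Cfsg.Agent.H516
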