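import Cfsg.Agent.H516.TwoFrame
import Cfsg.Agent.UniqLoc.Suz

/-!
# The row of `Suz` of S4094 at the prime 2

The proof of `UniqLoc.Suz.nun` gives `NXC Suz`.
-/

set_option autoImplicit false

namespace Cfsg.Agent.H516.TwoSuz

open Subgroup Cfsg.Spor Cfsg.Agent.SporadicRecognition.SuzPhi Cfsg.Agent.SporadicRecognition.SuzOrder
  Cfsg.Agent.SporRec.SuzCl Cfsg.Agent.UniqLoc Cfsg.Agent.UniqLoc.Suz
  Cfsg.Agent.SuzThree.Basic Cfsg.Agent.SuzThree.CentA Cfsg.Agent.H516.Two

/-- **`NXC Suz`** -/
theorem nxc_model : NXC Suz := by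
  have := finite_suz
  have hs : IsSimpleGroup Suz := simple
  have hcen : ∀ g ∈ T, g * ia = ia * g := fun g hg =>
    Subgroup.mem_centralizer_singleton_iff.1 (Cfsg.Agent.SporRec.SuzCl.T_le hg)
  have hia : ia ∈ T := by rw [← pr_4096]; exact pr_mem _ _
  have hic : ic ∈ T := by rw [← pr_2048]; exact pr_mem _ _
  have hgen := KFacts.SuzOut.gen
  rw [KFacts.SuzY.z0_eq] at hgen
  refine nxc_of_second' not_comm TS (z := ia) (U := U) (n := KFacts.SuzOut.n0) a_ne hia hcen ?_ ?_ ?_ ?_ hgen
  · intro y hy h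
    have h1 : ∀ x ∈ ((TS : Sylow 2 Suz) : Subgroup Suz), x * y = y * x := h
    have h2 := KFacts.SuzSheet.center_sylow TS.isPGroup' KFacts.SuzY.T_le
      (fun Q hQ hle _ => (TS.is_maximal' hQ hle).le) h1
    rwa [KFacts.SuzY.z0_eq] at h2
  · intro x hx _ h
    rcases second hx h with h | h | h | h
    · exact Or.inl h
    · exact Or.inr (Or.inl h)
    · exact Or.inr (Or.inr (Or.inl (h.trans pr_2048)))
    · exact Or.inr (Or.inr (Or.inr (h.trans pr_6144)))
  · rintro x (rfl | rfl | rfl | rfl)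
    · exact ⟨T.one_mem, one_mul 1, fun t _ => Or.inl (by rw [one_mul, mul_one])⟩
    · exact ⟨hia, aa, fun t ht => Or.inl (hcen t ht).symm⟩
    · exact ⟨hic, cc, fun t ht => c_second ht⟩
    · refine ⟨T.mul_mem hic hia, ?_, fun t ht => ?_⟩
      · rw [← mul_assoc, show ic * ia * ic = ia by rw [ca, mul_assoc, cc, mul_one], aa]
      · have h1 := hcen t ht
        rcases c_second ht with h | h
        · left
          calc ic * ia * t = ic * (t * ia) := by rw [h1, mul_assoc]
            _ = (ic * t) * ia := by group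
            _ = t * (ic * ia) := by rw [h]; group
        · right
          calc ic * ia * t = ic * (t * ia) := by rw [h1, mul_assoc]
            _ = (ic * t) * ia := by group
            _ = ia * (t * (ic * ia)) := by rw [h]; group
  · have e1 := n0_z
    have e3 : KFacts.SuzOut.n0 * (ic * ia) * KFacts.SuzOut.n0⁻¹ =
        (KFacts.SuzOut.n0 * ic * KFacts.SuzOut.n0⁻¹) * (KFacts.SuzOut.n0 * ia * KFacts.SuzOut.n0⁻¹) := by group
    rintro x (rfl | rfl | rfl | rfl)
    · rw [mul_one, mul_inv_cancel]; exact U.one_mem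
    · rw [e1]; exact Or.inr (Or.inr (Or.inl rfl))
    · rcases n0_c with h | h <;> rw [h]
      · exact Or.inr (Or.inl rfl)
      · exact Or.inr (Or.inr (Or.inr rfl))
    · rw [e3, e1]
      rcases n0_c with h | h <;> rw [h]
      · exact Or.inr (Or.inr (Or.inr ca.symm))
      · refine Or.inr (Or.inl ?_)
        rw [ca, mul_assoc, cc, mul_one]

/-- **`NXC`** for the groups isomorphic to `Suz` -/
theorem nxc {S : Type*} [Group S] [Finite S] (h : IsoSuz S) : NXC S := by
  have := finite_suz
  obtain ⟨e⟩ := h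
  exact nxc_model.congr e.symm

end Cfsg.Agent.H516.TwoSuz
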