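import Cfsg.Agent.H516.GoodSpor
import Cfsg.Agent.H516.TwoFrame
import Cfsg.Agent.H516.TwoSuz
import Cfsg.Agent.H509.TwoInner
import Cfsg.Agent.H567.TF.Trans
import Cfsg.Agent.H567.TF.Octad
import Cfsg.Agent.H941.Com.JFour
import Cfsg.Agent.H486.TwoM12
import Cfsg.Agent.H486.TwoM11
import Cfsg.Agent.H486.TwoJ1
import Cfsg.Agent.H983.TwoMcL
import Cfsg.Agent.H983.TwoLy
import Cfsg.Agent.H462.TwoRow.FiTwentyTwo
import Cfsg.Agent.H462.TwoRow.FiTwentyFour
import Cfsg.Agent.H743.TwoTits
import Cfsg.Agent.H341.Nxc.ON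
import Cfsg.Agent.H663.NxcHN
import Cfsg.Agent.H70.HeNXC
import Cfsg.Agent.H852.NxcHS
import Cfsg.Agent.H952.TwoJanko
import Cfsg.Agent.H767.NX.M22
import Cfsg.Agent.H55.OutGen
import Cfsg.Agent.S2063
import Cfsg.Agent.S2064
import Cfsg.Agent.S2068
import Cfsg.Agent.S2069
import Cfsg.Agent.S2070
import Cfsg.Agent.S2071
import Cfsg.Agent.S2077
import Cfsg.Agent.S2080
import Cfsg.Agent.S2083
import Cfsg.Agent.S2084
import Cfsg.Agent.S2085

/-!
# The sporadic rows of S4094 and S4095 at the prime 2: assembly (helper516)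

* `false_of_wk` : `Wk 2 N x`, `2 ∣ o(x)`, `N` sporadic or the Tits group: impossible;
* `false_of_min` : the same for `MinCtx 2 N x`.
-/

set_option autoImplicit false
set_option linter.unusedSectionVars false

namespace Cfsg.Agent.H516.TwoSpor

open Subgroup Cfsg
open Cfsg.Agent.H472.ComRed (MinCtx)
open Cfsg.Agent.H516.Zip
open Cfsg.Agent.H516.Two
open Cfsg.Agent.UniqLoc

universe u

variable {G : Type u} [Group G] [Finite G] {N : Subgroup G} {x : G}

/-- the two contexts have the same content -/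
theorem ctx_of_wk (h : Wk 2 N x) : H509.TwoFrame.Ctx 2 N x :=
  ⟨h.normal, h.simple, h.nonab, h.cent, h.gen, h.ne, h.bad, h.ind⟩

/-- `Out = 1` and `NUN` -/
theorem false_inner {T : Type*} [Group T] (h : Wk 2 N x) (hx2 : 2 ∣ orderOf x) (e : N ≃* T)
    (ho : Nat.card (Cfsg.Out T) = 1) (hn : NUN N) : False :=
  false_of_nun h hx2 (mem_of_out h ((H55.OutGen.card_out_congr e).trans ho)) hn

/-- `Out = 1` and the inner row -/
theorem false_inrow {T : Type*} [Group T] (h : Wk 2 N x) (hx2 : 2 ∣ orderOf x) (e : N ≃* T)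
    (ho : Nat.card (Cfsg.Out T) = 1) (hn : ∀ y : N, H509.TwoFrame.Ctx 2 (⊤ : Subgroup N) y → 2 ∣ orderOf y → False) :
    False := by
  have hx := mem_of_out h ((H55.OutGen.card_out_congr e).trans ho)
  obtain ⟨y, hy, hyo⟩ := (ctx_of_wk h).exists_inner hx (MulEquiv.refl N)
  exact hn y hy (hyo ▸ hx2)

/-- **The sporadic rows and the Tits group at the prime 2, weak form.** -/
theorem false_of_wk (h : Wk 2 N x) (hx2 : 2 ∣ orderOf x) (hS : IsSporadicGroup N ∨ Lie.IsoTits N) : False := by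
  have hs := h.simple
  have hna := h.nonab
  rcases hS with hS | hS
  · rcases hS with hS | hS | hS | hS | hS | hS | hS | hS | hS | hS | hS | hS | hS | hS | hS | hS | hS | hS | hS | hS |
      hS | hS | hS | hS | hS | hS
    · exact H486.TwoM11.row_m11 h hx2 hS
    · exact false_of_nxc h hx2 (H486.TwoM12.nxc hS)
    · exact false_of_nxc h hx2 (H767.NX.M22.nxc hS)
    · obtain ⟨e⟩ := id hS
      exact false_inrow h hx2 e S2063.result fun y C hy => H567.TF.inrow_m23 hS C hy
    · obtain ⟨e⟩ := id hS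
      exact false_inrow h hx2 e S2064.result fun y C hy => H567.TF.inrow_m24 hS C hy
    · exact H486.TwoJ1.row_j1 h hx2 hS
    · exact false_of_nxc h hx2 (H952.TwoJanko.nxc_j2 hS)
    · exact false_of_nxc h hx2 (H952.TwoJanko.nxc_j3 hS)
    · obtain ⟨e⟩ := id hS
      exact false_inrow h hx2 e S2068.result fun y C hy => H941.Com.inrow_j4 hS C hy
    · obtain ⟨e⟩ := id hS
      exact false_inner h hx2 e S2069.result (Table.nun_iso H16.NunCo1.nun hS)
    · obtain ⟨e⟩ := id hS
      exact false_inner h hx2 e S2070.result (Table.nun_iso UniqSheet.Co2.nun hS)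
    · obtain ⟨e⟩ := id hS
      exact false_inner h hx2 e S2071.result (Table.nun_iso Co3.nun hS)
    · exact H983.TwoMcL.row h hx2 hS
    · exact false_of_nxc h hx2 (H852.NxcHS.nxc hS)
    · exact false_of_nxc h hx2 (TwoSuz.nxc hS)
    · exact false_of_nxc h hx2 (H70.HeNXC.nxc hS)
    · obtain ⟨e⟩ := id hS
      exact false_inner h hx2 e S2077.result (nun_of_notUnique (QTUnique.Ru.notUnique hS) (QTNorm.RuRow.nt_ru hS))
    · exact false_of_nxc h hx2 (H341.NxcON.nxc hS)
    · exact H983.TwoLy.row h hx2 hS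
    · exact false_of_nxc h hx2 (H462.TwoRow.FiTT.nxc hS)
    · obtain ⟨e⟩ := id hS
      exact false_inner h hx2 e S2080.result (H16.UniqRes.nun_fi23 hna hS)
    · exact H462.TwoRow.FiTF.fi24 h hx2 hS
    · exact false_of_nxc h hx2 (H663.NxcHN.nxc hS)
    · obtain ⟨e⟩ := id hS
      exact false_inner h hx2 e S2083.result (Table.nun_iso UniqSheet.Th.nun hS)
    · obtain ⟨e⟩ := id hS
      exact false_inner h hx2 e S2084.result (H16.NunB.nun_of_isoB hS)
    · obtain ⟨e⟩ := id hS
      exact false_inner h hx2 e S2085.result (Table.nun_iso H16.NunM.nun hS)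
  · exact false_of_nxc h hx2 (H743.TwoTits.nxc hS)

/-- **The sporadic rows and the Tits group at the prime 2, strong form.** -/
theorem false_of_min (h : MinCtx 2 N x) (hx2 : 2 ∣ orderOf x) (hS : IsSporadicGroup N ∨ Lie.IsoTits N) : False :=
  false_of_wk (wk_of_min h) hx2 hS

end Cfsg.Agent.H516.TwoSpor
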