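import Cfsg.Agent.H516.RepFix
import Cfsg.Agent.PermutationGroups.RegularCount
import Cfsg.Agent.Lib.SolvableNormalP
import Cfsg.Agent.S0205

/-!
# Sylow subgroups of prime order
-/

set_option autoImplicit false

namespace Cfsg.Agent.H516.SylOne

open Subgroup Cfsg

universe u

variable {G : Type u} [Group G] [Finite G]

theorem exists_conj {s : ℕ} (hs : s.Prime) {m : ℕ} (hG : Nat.card G = s * m) (hm : ¬ s ∣ m) {b b0 : G}
    (hb : orderOf b = s) (hb0 : orderOf b0 = s) : ∃ g : G, zpowers (g * b * g⁻¹) = zpowers b0 := by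
  classical
  have : Fact s.Prime := ⟨hs⟩
  have hfac : s ^ (Nat.card G).factorization s = s := by
    have h1 : (Nat.card G).factorization s = 1 := by
      rw [hG, Nat.factorization_mul hs.ne_zero (by rintro rfl; exact hm (dvd_zero s))]
      show s.factorization s + m.factorization s = 1
      rw [Nat.factorization_eq_zero_of_not_dvd hm, hs.factorization_self]
    rw [h1, pow_one]
  have hc : ∀ x : G, orderOf x = s → Nat.card ↥(zpowers x) = s ^ (Nat.card G).factorization s := by
    intro x hx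
    rw [Nat.card_zpowers, hx, hfac]
  let P : Sylow s G := Sylow.ofCard (zpowers b) (hc b hb)
  let Q : Sylow s G := Sylow.ofCard (zpowers b0) (hc b0 hb0)
  obtain ⟨g, hg⟩ := MulAction.exists_smul_eq G P Q
  refine ⟨g, ?_⟩
  have h2 : ((g • P : Sylow s G) : Subgroup G) = (zpowers b).map (MulAut.conj g).toMonoidHom := rfl
  have h3 : ((Q : Sylow s G) : Subgroup G) = zpowers b0 := rfl
  rw [hg, h3, MonoidHom.map_zpowers] at h2
  exact h2.symm

/-- non-adjacency from one subgroup of order `s` -/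
theorem nadj_of_base {s q : ℕ} (hs : s.Prime) {m : ℕ} (hG : Nat.card G = s * m) (hm : ¬ s ∣ m) {b0 : G}
    (hb0 : orderOf b0 = s) (h : ∀ c : G, orderOf c = q → b0 * c = c * b0 → False) : NAdj G s q := by
  intro b c hb hc hbc
  obtain ⟨g, hg⟩ := exists_conj hs hG hm hb hb0
  have h1 : b0 ∈ zpowers (g * b * g⁻¹) := by rw [hg]; exact mem_zpowers b0
  obtain ⟨k, hk⟩ := mem_zpowers_iff.1 h1
  refine h (g * c * g⁻¹) ?_ ?_
  · rw [← hc]
    exact orderOf_injective (MulAut.conj g).toMonoidHom (MulAut.conj g).injective c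
  · rw [← hk]
    have h2 : Commute (g * b * g⁻¹) (g * c * g⁻¹) := by
      show g * b * g⁻¹ * (g * c * g⁻¹) = g * c * g⁻¹ * (g * b * g⁻¹)
      have h3 : g * b * g⁻¹ * (g * c * g⁻¹) = g * (b * c) * g⁻¹ := by group
      have h4 : g * c * g⁻¹ * (g * b * g⁻¹) = g * (c * b) * g⁻¹ := by group
      rw [h3, h4, hbc]
    exact (h2.zpow_left k).eq

/-- the fixed space of an element of order `s` -/
theorem fx_of_base {n : ℕ} (ρ : G →* GL (Fin n) (ZMod 2)) {s : ℕ} (hs : s.Prime) {m : ℕ} (hG : Nat.card G = s * m) (hm : ¬ s ∣ m) {b b0 : G}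
    (hb : orderOf b = s) (hb0 : orderOf b0 = s) : LinFix.fx ρ b = LinFix.fx ρ b0 := by
  obtain ⟨g, hg⟩ := exists_conj hs hG hm hb hb0
  rw [← LinFix.fx_conj ρ g b]
  refine LinFix.fx_of_mem_zpowers ρ ?_ ?_
  · rw [← hg]
    exact mem_zpowers _
  · rw [hg]
    exact mem_zpowers _

/-! ### a normal Sylow subgroup of prime order -/

/-- an element of prime order `s` centralizes a normal `q`-subgroup of small order -/
theorem le_centralizer {s q k : ℕ} (hs : s.Prime) (hq : q.Prime) {M : Subgroup G} [M.Normal] (hM : Nat.card ↥M = q ^ k)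
    (h : ∀ i, 1 ≤ i → i ≤ k → ¬ q ^ i ≡ 1 [MOD s]) (hqs : q ≠ s) {g : G} (hg : orderOf g = s) :
    M ≤ centralizer ({g} : Set G) := by
  classical
  have : Fact s.Prime := ⟨hs⟩
  have := Fintype.ofFinite ↥M
  let f : Function.End ↥M := fun a => ⟨g * a * g⁻¹, (inferInstance : M.Normal).conj_mem a a.2 g⟩
  have hf : ∀ (n : ℕ) (a : ↥M), ((f ^ n) a : G) = g ^ n * a * (g ^ n)⁻¹ := by
    intro n
    induction n with
    | zero =>
      intro a
      rw [pow_zero, pow_zero, one_mul, inv_one, mul_one]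
      rfl
    | succ n ih =>
      intro a
      have h1 : (f ^ (n + 1)) a = (f ^ n) (f a) := by
        rw [pow_succ]
        rfl
      rw [h1, ih]
      change g ^ n * (g * a * g⁻¹) * (g ^ n)⁻¹ = _
      rw [pow_succ, mul_inv_rev]
      group
  have hfp : f ^ s ^ 1 = 1 := by
    funext a
    apply Subtype.ext
    rw [hf, pow_one, ← hg, pow_orderOf_eq_one, one_mul, inv_one, mul_one]
    rfl
  have h2 := Equiv.Perm.card_fixedPoints_modEq hfp
  rw [← Nat.card_eq_fintype_card, hM] at h2
  have h3 : Nat.card ↥(M ⊓ centralizer ({g} : Set G)) = Fintype.card ↥(Function.fixedPoints f) := by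
    rw [← Nat.card_eq_fintype_card]
    refine Nat.card_congr ⟨fun a => ⟨⟨a.1, a.2.1⟩, ?_⟩, fun a => ⟨((a : ↥M) : G), (a : ↥M).2, ?_⟩, fun a => rfl, fun a => rfl⟩
    · apply Subtype.ext
      change g * a.1 * g⁻¹ = a.1
      rw [← mem_centralizer_singleton_iff.1 a.2.2, mul_inv_cancel_right]
    · have h4 : f (a : ↥M) = a := a.2
      have h5 : g * (a : ↥M).1 * g⁻¹ = (a : ↥M).1 := congrArg Subtype.val h4
      apply mem_centralizer_singleton_iff.2
      rw [mul_inv_eq_iff_eq_mul] at h5
      exact h5.symm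
  have h5 : Nat.card ↥(M ⊓ centralizer ({g} : Set G)) ∣ q ^ k := by
    rw [← hM]
    exact Subgroup.card_dvd_of_le inf_le_left
  obtain ⟨j, hj, hj2⟩ := (Nat.dvd_prime_pow hq).1 h5
  rw [← h3, hj2] at h2
  have h6 : j = k := by
    by_contra hne
    have h7 : q ^ k = q ^ j * q ^ (k - j) := by rw [← pow_add]; congr 1; omega
    apply h (k - j) (by omega) (by omega)
    have h8 : Nat.Coprime s (q ^ j) := Nat.Coprime.pow_right _ ((Nat.coprime_primes hs hq).2 (Ne.symm hqs))
    apply Nat.ModEq.cancel_left_of_coprime (c := q ^ j) h8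
    rw [← h7, mul_one]
    exact h2
  have h9 : M ⊓ centralizer ({g} : Set G) = M := by
    apply Subgroup.eq_of_le_of_card_ge inf_le_left
    rw [hj2, h6, hM]
  rw [← h9]
  exact inf_le_right

theorem zpowers_normal {b : G} (h : ∀ x : G, x * b * x⁻¹ ∈ zpowers b) : (zpowers b).Normal := by
  refine ⟨fun y hy x => ?_⟩
  obtain ⟨k, rfl⟩ := mem_zpowers_iff.1 hy
  rw [← conj_zpow]
  exact (zpowers b).zpow_mem (h x) k

/-- **A solvable group with a Sylow `s`-subgroup `⟨b⟩` of order `s` such that `s` divides no `q ^ i - 1`, `q ^ i ∣ |F|`.** -/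
theorem normal_of_solvable {s : ℕ} (hs : s.Prime) : ∀ (N : ℕ) (F : Type u) [Group F] [Finite F], Nat.card F = N →
    Group.IsSolvable F → (∃ m : ℕ, Nat.card F = s * m ∧ ¬ s ∣ m) →
    (∀ q i : ℕ, q.Prime → q ≠ s → 1 ≤ i → q ^ i ∣ Nat.card F → ¬ q ^ i ≡ 1 [MOD s]) →
    ∀ b : F, orderOf b = s → (zpowers b).Normal := by
  intro N
  induction N using Nat.strong_induction_on with
  | _ N ih =>
    intro F _ _ hN hF hm hq b hb
    have hsf : Fact s.Prime := ⟨hs⟩
    have hnt : Nontrivial F := by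
      refine ⟨b, 1, ?_⟩
      rintro rfl
      rw [orderOf_one] at hb
      exact hs.one_lt.ne hb
    obtain ⟨q, M, hqp, hMn, hM, -, hM1⟩ := Cfsg.Agent.Lib.SolvableNormalP.exists_normal_pSubgroup F
    have hqf : Fact q.Prime := ⟨hqp⟩
    obtain ⟨k, hk⟩ := IsPGroup.iff_card.1 hM
    have hk1 : k ≠ 0 := by
      rintro rfl
      rw [pow_zero] at hk
      exact hM1 (Subgroup.card_eq_one.1 hk)
    obtain ⟨m, hm1, hm2⟩ := hm
    by_cases hqs : q = s
    · -- `M` is the Sylow subgroup
      subst hqs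
      obtain ⟨b', hb'⟩ := exists_prime_orderOf_dvd_card' (G := ↥M) q (by rw [hk]; exact dvd_pow_self q hk1)
      have hb'' : orderOf (b' : F) = q := by rw [Subgroup.orderOf_coe, hb']
      have h1 : Nat.card ↥M = q := by
        have h2 : q ^ k ∣ q * m := by
          rw [← hm1, ← hk]
          exact Subgroup.card_subgroup_dvd_card M
        have h3 : k ≤ 1 := by
          by_contra hk2
          apply hm2
          have h4 : q ^ 2 ∣ q * m := (pow_dvd_pow q (by omega)).trans h2
          rw [pow_two] at h4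
          exact Nat.dvd_of_mul_dvd_mul_left hqp.pos h4
        rw [hk, show k = 1 by omega, pow_one]
      have h2 : zpowers (b' : F) = M := by
        apply Subgroup.eq_of_le_of_card_ge
        · rw [zpowers_le]
          exact b'.2
        · rw [h1, Nat.card_zpowers, hb'']
      obtain ⟨g, hg⟩ := exists_conj hqp hm1 hm2 hb hb''
      rw [h2] at hg
      have h3 : b ∈ M := by
        have h4 : g * b * g⁻¹ ∈ M := by rw [← hg]; exact mem_zpowers _
        have h5 := hMn.conj_mem _ h4 g⁻¹
        have h6 : g⁻¹ * (g * b * g⁻¹) * g⁻¹⁻¹ = b := by group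
        rwa [h6] at h5
      have h7 : zpowers b = M := by
        apply Subgroup.eq_of_le_of_card_ge
        · rw [zpowers_le]
          exact h3
        · rw [h1, Nat.card_zpowers, hb]
      rw [h7]
      exact hMn
    · -- the quotient
      have hMF : q ^ k ∣ Nat.card F := by
        rw [← hk]
        exact Subgroup.card_subgroup_dvd_card M
      have hc : M ≤ centralizer ({b} : Set F) := by
        refine le_centralizer hs hqp hk (fun i h1 h2 => hq q i hqp hqs h1 ((pow_dvd_pow q h2).trans hMF)) hqs hb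
      have hcardQ : Nat.card F = Nat.card (F ⧸ M) * Nat.card ↥M := Subgroup.card_eq_card_quotient_mul_card_subgroup M
      have hdQ : Nat.card (F ⧸ M) ∣ Nat.card F := ⟨_, hcardQ⟩
      have hbM : (b : F ⧸ M) ≠ 1 := by
        intro h
        have h1 : b ∈ M := (QuotientGroup.eq_one_iff b).1 h
        have h2 : s ∣ q ^ k := by
          rw [← hb, ← hk]
          have h3 := orderOf_dvd_natCard (⟨b, h1⟩ : ↥M)
          rwa [Subgroup.orderOf_mk] at h3
        exact hqs ((Nat.prime_dvd_prime_iff_eq hs hqp).1 (hs.dvd_of_dvd_pow h2)).symm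
      have hbo : orderOf (b : F ⧸ M) = s := by
        apply orderOf_eq_prime _ hbM
        rw [← QuotientGroup.mk_pow, ← hb, pow_orderOf_eq_one]
        rfl
      have hQsol : Group.IsSolvable (F ⧸ M) := by
        have := hF
        infer_instance
      have hN2 : Nat.card (F ⧸ M) < N := by
        rw [← hN, hcardQ, hk]
        have h1 : 1 < q ^ k := Nat.one_lt_pow hk1 hqp.one_lt
        have h2 : 0 < Nat.card (F ⧸ M) := Nat.card_pos
        nlinarith
      have hmQ : ∃ m' : ℕ, Nat.card (F ⧸ M) = s * m' ∧ ¬ s ∣ m' := by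
        have h1 : s ∣ Nat.card (F ⧸ M) := by
          rw [← hbo]
          exact orderOf_dvd_natCard _
        obtain ⟨m', hm'⟩ := h1
        refine ⟨m', hm', fun h2 => hm2 ?_⟩
        have h3 : s * m = s * (m' * Nat.card ↥M) := by rw [← hm1, hcardQ, hm']; ring
        rw [Nat.eq_of_mul_eq_mul_left hs.pos h3]
        exact h2.mul_right _
      have hnQ := ih _ hN2 (F ⧸ M) rfl hQsol hmQ (fun q' i h1 h2 h3 h4 => hq q' i h1 h2 h3 (h4.trans hdQ)) b hbo
      apply zpowers_normal
      intro x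
      have h1 : ((x * b * x⁻¹ : F) : F ⧸ M) ∈ zpowers (b : F ⧸ M) := by
        have h2 := hnQ.conj_mem (b : F ⧸ M) (mem_zpowers _) (x : F ⧸ M)
        exact h2
      obtain ⟨i, hi⟩ := mem_zpowers_iff.1 h1
      have h3 : b ^ (-i) * (x * b * x⁻¹) ∈ M := by
        rw [← QuotientGroup.eq_one_iff]
        have h4 : ((b ^ (-i) * (x * b * x⁻¹) : F) : F ⧸ M) = (b : F ⧸ M) ^ (-i) * ((x * b * x⁻¹ : F) : F ⧸ M) := by
          rw [QuotientGroup.mk_mul, QuotientGroup.mk_zpow]
        rw [h4, ← hi, ← zpow_add, neg_add_cancel, zpow_zero]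
      set w : F := b ^ (-i) * (x * b * x⁻¹) with hw
      have h5 : x * b * x⁻¹ = b ^ i * w := by
        rw [hw, ← mul_assoc, ← zpow_add, add_neg_cancel, zpow_zero, one_mul]
      have h6 : Commute (b ^ i) w := by
        have h7 : Commute b w := by
          have h8 := mem_centralizer_singleton_iff.1 (hc h3)
          exact h8.symm
        exact h7.zpow_left i
      have h8 : (x * b * x⁻¹) ^ s = 1 := by
        rw [conj_pow, ← hb, pow_orderOf_eq_one, mul_one, mul_inv_cancel]
      have h9 : (b ^ i) ^ s = 1 := by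
        rw [← zpow_natCast, ← zpow_mul, mul_comm, zpow_mul, zpow_natCast, ← hb, pow_orderOf_eq_one, one_zpow]
      have h10 : w ^ s = 1 := by
        rw [h5, h6.mul_pow, h9, one_mul] at h8
        exact h8
      have h11 : w = 1 := by
        have h12 : orderOf w ∣ s := orderOf_dvd_of_pow_eq_one h10
        have h13 : orderOf w ∣ q ^ k := by
          rw [← hk]
          have h14 := orderOf_dvd_natCard (⟨w, h3⟩ : ↥M)
          rwa [Subgroup.orderOf_mk] at h14
        have h15 : Nat.Coprime s (q ^ k) := Nat.Coprime.pow_right _ ((Nat.coprime_primes hs hqp).2 (Ne.symm hqs))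
        exact orderOf_eq_one_iff.1 (Nat.eq_one_of_dvd_coprimes h15 h12 h13)
      rw [h5, h11, mul_one]
      exact (zpowers b).zpow_mem (mem_zpowers b) i

/-- the order of a subgroup normalizing `⟨b⟩`, `b` of prime order `s` -/
theorem card_dvd_of_normal {s : ℕ} (hs : s.Prime) {b : G} (hb : orderOf b = s) [hn : (zpowers b).Normal] :
    Nat.card G ∣ (s - 1) * Nat.card ↥(centralizer ({b} : Set G)) := by
  have h1 := Cfsg.Agent.PermutationGroups.RegularCount.index_centralizer_dvd (zpowers b)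
  have h2 : Nat.card (MulAut ↥(zpowers b)) = s - 1 := by
    have h3 : IsCyclic ↥(zpowers b) := inferInstance
    rw [IsCyclic.card_mulAut, Nat.card_zpowers, hb, Nat.totient_prime hs]
  rw [h2] at h1
  have h3 : centralizer ((zpowers b : Subgroup G) : Set G) = centralizer ({b} : Set G) := by
    apply le_antisymm
    · apply Subgroup.centralizer_le
      intro x hx
      rw [Set.mem_singleton_iff.1 hx]
      exact mem_zpowers b
    · intro x hx
      rw [mem_centralizer_iff]
      intro y hy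
      obtain ⟨k, rfl⟩ := mem_zpowers_iff.1 hy
      have h4 : Commute b x := (mem_centralizer_singleton_iff.1 hx).symm
      exact (h4.zpow_left k).eq
  rw [h3] at h1
  have h4 := Subgroup.index_mul_card (centralizer ({b} : Set G))
  rw [← h4]
  exact Nat.mul_dvd_mul_right h1 _

/-- **Subgroups of odd order with a Sylow subgroup of prime order.** -/
theorem exists_of_odd {F : Subgroup G} (hodd : Odd (Nat.card ↥F)) {s : ℕ} (hs : s.Prime)
    (hm : ∃ m : ℕ, Nat.card ↥F = s * m ∧ ¬ s ∣ m)
    (hq : ∀ q i : ℕ, q.Prime → q ≠ s → 1 ≤ i → q ^ i ∣ Nat.card ↥F → ¬ q ^ i ≡ 1 [MOD s]) :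
    ∃ b ∈ F, orderOf b = s ∧ F ≤ normalizer ((zpowers b : Subgroup G) : Set G) ∧
      Nat.card ↥F ∣ (s - 1) * Nat.card ↥(centralizer ({b} : Set G)) := by
  have : Fact s.Prime := ⟨hs⟩
  obtain ⟨m, hm1, hm2⟩ := hm
  obtain ⟨b, hb⟩ := exists_prime_orderOf_dvd_card' (G := ↥F) s (by rw [hm1]; exact dvd_mul_right s m)
  have hn := normal_of_solvable hs _ ↥F rfl (Cfsg.Agent.S0205.result hodd) ⟨m, hm1, hm2⟩ hq b hb
  refine ⟨b, b.2, by rw [Subgroup.orderOf_coe, hb], ?_, ?_⟩
  · have hconj : ∀ x ∈ F, ∀ y ∈ zpowers (b : G), x * y * x⁻¹ ∈ zpowers (b : G) := by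
      intro x hx y hy
      obtain ⟨k, rfl⟩ := mem_zpowers_iff.1 hy
      have h2 := hn.conj_mem (b ^ k) (Subgroup.zpow_mem _ (mem_zpowers b) k) ⟨x, hx⟩
      obtain ⟨l, hl⟩ := mem_zpowers_iff.1 h2
      rw [mem_zpowers_iff]
      refine ⟨l, ?_⟩
      have h3 := congrArg Subtype.val hl
      simpa using h3
    intro x hx
    rw [mem_normalizer_iff]
    intro y
    refine ⟨hconj x hx y, fun hy => ?_⟩
    have h1 := hconj x⁻¹ (F.inv_mem hx) _ hy
    have h2 : x⁻¹ * (x * y * x⁻¹) * x⁻¹⁻¹ = y := by group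
    rwa [h2] at h1
  · have h1 := card_dvd_of_normal hs hb
    refine h1.trans (Nat.mul_dvd_mul_left _ ?_)
    have h2 : (centralizer ({b} : Set ↥F)).map F.subtype ≤ centralizer ({(b : G)} : Set G) := by
      rintro _ ⟨y, hy, rfl⟩
      apply mem_centralizer_singleton_iff.2
      exact congrArg Subtype.val (mem_centralizer_singleton_iff.1 hy)
    have h3 := Subgroup.card_dvd_of_le h2
    rwa [Subgroup.card_map_of_injective F.subtype_injective] at h3

/-! ### prime powers dividing a product -/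

/-- the value of a factorization -/
def pval (l : List (ℕ × ℕ)) : ℕ := (l.map fun x => x.1 ^ x.2).prod

theorem mem_of_pow_dvd {q i : ℕ} (hq : q.Prime) (hi : 1 ≤ i) : ∀ (l : List (ℕ × ℕ)), (∀ x ∈ l, x.1.Prime) →
    (l.map Prod.fst).Nodup → q ^ i ∣ pval l → ∃ x ∈ l, x.1 = q ∧ i ≤ x.2 := by
  intro l
  induction l with
  | nil =>
    intro _ _ h
    exfalso
    have h1 : q ^ i ∣ 1 := h
    have h2 : 1 < q ^ i := Nat.one_lt_pow (by omega) hq.one_lt
    exact absurd (Nat.le_of_dvd (by norm_num) h1) (by omega)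
  | cons x l ih =>
    intro hp hn h
    rw [List.map_cons, List.nodup_cons] at hn
    have h1 : pval (x :: l) = x.1 ^ x.2 * pval l := by
      unfold pval
      rw [List.map_cons, List.prod_cons]
    rw [h1] at h
    have hxp : x.1.Prime := hp x (List.mem_cons_self)
    by_cases hxq : x.1 = q
    · refine ⟨x, List.mem_cons_self, hxq, ?_⟩
      have h2 : Nat.Coprime (q ^ i) (pval l) := by
        apply Nat.Coprime.pow_left
        rw [hq.coprime_iff_not_dvd]
        intro h3
        have h4 : ∃ y ∈ l, q ∣ y.1 ^ y.2 := by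
          unfold pval at h3
          rw [Prime.dvd_prod_iff hq.prime] at h3
          obtain ⟨a, ha, hqa⟩ := h3
          obtain ⟨y, hy, rfl⟩ := List.mem_map.1 ha
          exact ⟨y, hy, hqa⟩
        obtain ⟨y, hy, hqy⟩ := h4
        have h5 : q ∣ y.1 := hq.dvd_of_dvd_pow hqy
        have h6 : q = y.1 := (Nat.prime_dvd_prime_iff_eq hq (hp y (List.mem_cons_of_mem _ hy))).1 h5
        apply hn.1
        rw [hxq, h6]
        exact List.mem_map.2 ⟨y, hy, rfl⟩
      have h3 : q ^ i ∣ x.1 ^ x.2 := h2.dvd_of_dvd_mul_right h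
      rw [hxq] at h3
      exact (Nat.pow_dvd_pow_iff_le_right hq.one_lt).1 h3
    · have h2 : Nat.Coprime (q ^ i) (x.1 ^ x.2) := by
        apply Nat.Coprime.pow
        exact (Nat.coprime_primes hq hxp).2 (Ne.symm hxq)
      obtain ⟨y, hy, h3⟩ := ih (fun y hy => hp y (List.mem_cons_of_mem _ hy)) hn.2 (h2.dvd_of_dvd_mul_left h)
      exact ⟨y, List.mem_cons_of_mem _ hy, h3⟩

end Cfsg.Agent.H516.SylOne
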