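import Cfsg.Agent.H516.J4Data
import Cfsg.Agent.H516.SylOne
import Cfsg.Agent.J4.Rep112

/-!
# Elements of prime order of `J4` in the 112-dimensional representation
-/

set_option autoImplicit false
set_option linter.unusedSimpArgs false

namespace Cfsg.Agent.H516.J4El

open Subgroup Cfsg Cfsg.Agent.Lib.F2Mat Cfsg.Agent.Lib.F2MatGroup Matrix Cfsg.Agent.J4.Rep112 LinFix J4Data

universe u

theorem codes_of {g : GL (Fin 112) (ZMod 2)} {N B : ℕ} (h : Codes 112 g N) (hb : Nat.beq N B = true) : Codes 112 g B := by
  rw [← Nat.eq_of_beq_eq_true hb]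
  exact h

/-- the elements -/
def b43 : Spor.J4 := x * y * t * y * t * y * x * t * y⁻¹
/-- the elements -/
def b37 : Spor.J4 := y * t * x
/-- the elements -/
def b31 : Spor.J4 := x * y⁻¹ * t * x * y⁻¹ * x * y⁻¹
/-- the elements -/
def b29 : Spor.J4 := x * y⁻¹ * t * y * x * y * t * x * y⁻¹ * t * x
/-- the elements -/
def b23 : Spor.J4 := y⁻¹ * x
/-- the elements -/
def b7 : Spor.J4 := (y * t * y * x) ^ 5
/-- the elements -/
def b5 : Spor.J4 := (y * t * y * x) ^ 7

theorem c43 : Codes 112 (rho b43) B43 := by
  simp only [b43, map_mul, map_pow, map_inv, rho_x, rho_y, rho_t]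
  apply codes_of
  · codes_tac
  · decide +kernel
theorem c37 : Codes 112 (rho b37) B37 := by
  simp only [b37, map_mul, map_pow, map_inv, rho_x, rho_y, rho_t]
  apply codes_of
  · codes_tac
  · decide +kernel
theorem c31 : Codes 112 (rho b31) B31 := by
  simp only [b31, map_mul, map_pow, map_inv, rho_x, rho_y, rho_t]
  apply codes_of
  · codes_tac
  · decide +kernel
theorem c29 : Codes 112 (rho b29) B29 := by
  simp only [b29, map_mul, map_pow, map_inv, rho_x, rho_y, rho_t]
  apply codes_of
  · codes_tac
  · decide +kernel
theorem c23 : Codes 112 (rho b23) B23 := by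
  simp only [b23, map_mul, map_pow, map_inv, rho_x, rho_y, rho_t]
  apply codes_of
  · codes_tac
  · decide +kernel
theorem c7 : Codes 112 (rho b7) B7 := by
  simp only [b7, map_mul, map_pow, map_inv, rho_x, rho_y, rho_t]
  apply codes_of
  · codes_tac
  · decide +kernel
theorem c5 : Codes 112 (rho b5) B5 := by
  simp only [b5, map_mul, map_pow, map_inv, rho_x, rho_y, rho_t]
  apply codes_of
  · codes_tac
  · decide +kernel

theorem o43 : rho b43 ^ 43 = 1 := (Codes.pow c43 43).eq_one (by decide +kernel)
theorem o37 : rho b37 ^ 37 = 1 := (Codes.pow c37 37).eq_one (by decide +kernel)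
theorem o31 : rho b31 ^ 31 = 1 := (Codes.pow c31 31).eq_one (by decide +kernel)
theorem o29 : rho b29 ^ 29 = 1 := (Codes.pow c29 29).eq_one (by decide +kernel)
theorem o23 : rho b23 ^ 23 = 1 := (Codes.pow c23 23).eq_one (by decide +kernel)
theorem o7 : rho b7 ^ 7 = 1 := (Codes.pow c7 7).eq_one (by decide +kernel)
theorem o5 : rho b5 ^ 5 = 1 := (Codes.pow c5 5).eq_one (by decide +kernel)

theorem k43 : kc 112 112 (Nat.xor B43 (one 112)) f43P f43R f43Q f43S = true := by decide +kernel
theorem k37 : kc 112 108 (Nat.xor B37 (one 112)) f37P f37R f37Q f37S = true := by decide +kernel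
theorem k31 : kc 112 110 (Nat.xor B31 (one 112)) f31P f31R f31Q f31S = true := by decide +kernel
theorem k29 : kc 112 112 (Nat.xor B29 (one 112)) f29P f29R f29Q f29S = true := by decide +kernel
theorem k23 : kc 112 110 (Nat.xor B23 (one 112)) f23P f23R f23Q f23S = true := by decide +kernel
theorem k7 : kc 112 96 (Nat.xor B7 (one 112)) f7P f7R f7Q f7S = true := by decide +kernel
theorem k5 : kc 112 88 (Nat.xor B5 (one 112)) f5P f5R f5Q f5S = true := by decide +kernel

/-- an irreducible polynomial of degree 14 -/
def p1 : List Bool := [true, false, false, true, true, true, true, true, true, true, true, true, false, false, true]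
/-- an irreducible polynomial of degree 14 -/
def p2 : List Bool := [true, true, false, true, false, false, false, true, false, false, false, true, false, true, true]
/-- an irreducible polynomial of degree 5 -/
def p3 : List Bool := [true, false, true, false, false, true]
/-- an irreducible polynomial of degree 11 -/
def p4 : List Bool := [true, true, false, false, false, true, true, true, false, true, false, true]

theorem kw43 : kc 112 70 (poly 112 B43 p1) w43P w43R w43Q w43S = true := by decide +kernel
theorem kv43 : kc 112 42 (Cfsg.Agent.Lib.F2Mat.mul 112 (poly 112 B43 p1) (poly 112 B43 p2)) v43P v43R v43Q v43S = true := by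
  decide +kernel
theorem kw31 : kc 112 97 (poly 112 B31 p3) w31P w31R w31Q w31S = true := by decide +kernel
theorem kw23 : kc 112 57 (poly 112 B23 p4) w23P w23R w23Q w23S = true := by decide +kernel

end Cfsg.Agent.H516.J4El
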