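import Cfsg.Agent.Lib.F2MatGroup
import Cfsg.Agent.H516.Tools

/-!
# Fixed points of commuting elements in a representation over `GF(2)`

* `card_ker` : a kernel certificate `P A Q = diag(1, .., 1, 0, .., 0)`;
* `mpoly`, `poly` : polynomials in a matrix, packed;
* `card_modEq` : `|W| ≡ |C_W(c)|` modulo the order of `c`;
* `Rep` tools: pairs of commuting elements of prime orders.
-/

set_option autoImplicit false

namespace Cfsg.Agent.H516.LinFix

open Subgroup Cfsg Cfsg.Agent.Lib.F2Mat Cfsg.Agent.Lib.F2MatGroup Matrix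

variable {n : ℕ}

/-- the kernel of a matrix (on row vectors) -/
def Ker (A : Matrix (Fin n) (Fin n) (ZMod 2)) : AddSubgroup (Fin n → ZMod 2) where
  carrier := {v | v ᵥ* A = 0}
  zero_mem' := Matrix.zero_vecMul A
  add_mem' := fun {v w} hv hw => by
    show (v + w) ᵥ* A = 0
    rw [Matrix.add_vecMul, (show v ᵥ* A = 0 from hv), (show w ᵥ* A = 0 from hw), add_zero]
  neg_mem' := fun {v} hv => by
    show (-v) ᵥ* A = 0
    rw [Matrix.neg_vecMul, (show v ᵥ* A = 0 from hv), neg_zero]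

theorem mem_Ker {A : Matrix (Fin n) (Fin n) (ZMod 2)} {v : Fin n → ZMod 2} : v ∈ Ker A ↔ v ᵥ* A = 0 := Iff.rfl

/-! ### certificates -/

theorem toMat_xor (A B : ℕ) : toMat n (A ^^^ B) = toMat n A + toMat n B := by
  ext i j
  rw [toMat_apply, Nat.testBit_xor, bz_xor]
  rfl

theorem toMat_zero : toMat n 0 = 0 := by
  ext i j
  rw [toMat_apply, Nat.zero_testBit]
  rfl

/-- the matrix `diag(1, .., 1, 0, .., 0)` with `r` ones -/
def dg (n r : ℕ) : ℕ := Nat.mod (Cfsg.Agent.Lib.F2Mat.one n) (Nat.pow 2 (Nat.mul n r))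

theorem toMat_dg (r : ℕ) (i j : Fin n) : toMat n (dg n r) i j = if i = j ∧ (i : ℕ) < r then 1 else 0 := by
  have h1 : dg n r = Cfsg.Agent.Lib.F2Mat.one n % 2 ^ (n * r) := rfl
  rw [toMat_apply, h1, Nat.testBit_mod_two_pow, testBit_one i.2 j.2]
  have h2 : (n * (i : ℕ) + j < n * r) ↔ (i : ℕ) < r := by
    constructor
    · intro h
      by_contra hc
      have h3 : n * r ≤ n * i := Nat.mul_le_mul_left _ (by omega)
      omega
    · intro h
      have h3 : n * (i + 1) ≤ n * r := Nat.mul_le_mul_left _ h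
      have h4 := j.2
      have h5 : n * ((i : ℕ) + 1) = n * i + n := by ring
      omega
  by_cases hij : i = j
  · subst hij
    by_cases hr : (i : ℕ) < r
    · simp [h2.2 hr, hr, bz]
    · have h6 : ¬ (n * (i : ℕ) + i < n * r) := fun h => hr (h2.1 h)
      simp [h6, hr, bz]
  · have h7 : (i : ℕ) ≠ j := fun h => hij (Fin.ext h)
    simp [hij, h7, bz]

theorem vecMul_dg (r : ℕ) (w : Fin n → ZMod 2) (j : Fin n) :
    (w ᵥ* toMat n (dg n r)) j = if (j : ℕ) < r then w j else 0 := by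
  show ∑ i, w i * toMat n (dg n r) i j = _
  rw [Finset.sum_eq_single j]
  · rw [toMat_dg]
    by_cases h : (j : ℕ) < r
    · simp [h]
    · simp [h]
  · intro i _ hi
    rw [toMat_dg, if_neg (fun h => hi h.1), mul_zero]
  · intro h
    exact absurd (Finset.mem_univ j) h

theorem card_zero_coords {r k : ℕ} (hn : r + k = n) :
    Nat.card {w : Fin n → ZMod 2 // ∀ j : Fin n, (j : ℕ) < r → w j = 0} = 2 ^ k := by
  classical
  rw [Nat.card_congr (Equiv.subtypePiEquivPi (p := fun (j : Fin n) (x : ZMod 2) => (j : ℕ) < r → x = 0)), Nat.card_pi]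
  have h1 : ∀ j : Fin n, Nat.card {x : ZMod 2 // (j : ℕ) < r → x = 0} = if (j : ℕ) < r then 1 else 2 := by
    intro j
    by_cases h : (j : ℕ) < r
    · rw [if_pos h]
      have h2 : ∀ x : ZMod 2, ((j : ℕ) < r → x = 0) ↔ x = 0 := fun x => ⟨fun hx => hx h, fun hx _ => hx⟩
      rw [Nat.card_congr (Equiv.subtypeEquivRight h2)]
      exact Nat.card_unique
    · rw [if_neg h]
      have h2 : ∀ x : ZMod 2, ((j : ℕ) < r → x = 0) ↔ True := fun x => ⟨fun _ => trivial, fun _ h3 => absurd h3 h⟩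
      rw [Nat.card_congr ((Equiv.subtypeEquivRight h2).trans (Equiv.Set.univ (ZMod 2)))]
      rw [Nat.card_eq_fintype_card, ZMod.card]
  rw [Finset.prod_congr rfl (fun j _ => h1 j), Finset.prod_ite, Finset.prod_const, Finset.prod_const, one_pow, one_mul]
  congr 1
  have h3 : (Finset.univ.filter fun j : Fin n => ¬ (j : ℕ) < r) = Finset.univ.filter fun j : Fin n => ¬ (j : ℕ) < r := rfl
  have h4 : (Finset.univ.filter fun j : Fin n => (j : ℕ) < r).card = r := by
    rw [Fin.card_filter_val_lt]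
    omega
  have h5 := Finset.card_filter_add_card_filter_not (s := (Finset.univ : Finset (Fin n))) (fun j : Fin n => (j : ℕ) < r)
  rw [h4, Finset.card_univ, Fintype.card_fin] at h5
  omega

/-- the certificate -/
def kc (n r A P PI Q QI : ℕ) : Bool :=
  Nat.beq (Cfsg.Agent.Lib.F2Mat.mul n (Cfsg.Agent.Lib.F2Mat.mul n P A) Q) (dg n r) &&
    (Nat.beq (Cfsg.Agent.Lib.F2Mat.mul n P PI) (Cfsg.Agent.Lib.F2Mat.one n) &&
      Nat.beq (Cfsg.Agent.Lib.F2Mat.mul n Q QI) (Cfsg.Agent.Lib.F2Mat.one n))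

/-- **The dimension of a kernel.** -/
theorem card_ker {r k A P PI Q QI : ℕ} (hn : r + k = n) (h : kc n r A P PI Q QI = true) :
    Nat.card ↥(Ker (toMat n A)) = 2 ^ k := by
  unfold kc at h
  rw [Bool.and_eq_true, Bool.and_eq_true] at h
  obtain ⟨h1, h2, h3⟩ := h
  have e1 : toMat n P * toMat n A * toMat n Q = toMat n (dg n r) := by
    rw [← toMat_mul, ← toMat_mul, Nat.eq_of_beq_eq_true h1]
  have e2 : toMat n P * toMat n PI = 1 := by
    rw [← toMat_mul, Nat.eq_of_beq_eq_true h2, toMat_one]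
  have e3 : toMat n Q * toMat n QI = 1 := by
    rw [← toMat_mul, Nat.eq_of_beq_eq_true h3, toMat_one]
  have e2' : toMat n PI * toMat n P = 1 := mul_eq_one_comm.1 e2
  rw [← card_zero_coords (n := n) hn]
  have key : ∀ w : Fin n → ZMod 2, (w ᵥ* toMat n P) ᵥ* toMat n A = 0 ↔ ∀ j : Fin n, (j : ℕ) < r → w j = 0 := by
    intro w
    have h4 : (w ᵥ* toMat n P) ᵥ* toMat n A = 0 ↔ w ᵥ* toMat n (dg n r) = 0 := by
      rw [← e1, ← Matrix.vecMul_vecMul, ← Matrix.vecMul_vecMul]
      constructor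
      · intro h5
        rw [h5, Matrix.zero_vecMul]
      · intro h5
        have h6 := congrArg (fun v => v ᵥ* toMat n QI) h5
        simp only [Matrix.vecMul_vecMul, Matrix.zero_vecMul, mul_assoc] at h6
        rw [e3, mul_one] at h6
        rw [Matrix.vecMul_vecMul]
        exact h6
    rw [h4]
    constructor
    · intro h5 j hj
      have h6 := congrFun h5 j
      rw [vecMul_dg, if_pos hj] at h6
      exact h6
    · intro h5
      ext j
      rw [vecMul_dg]
      by_cases hj : (j : ℕ) < r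
      · rw [if_pos hj, h5 j hj]
        rfl
      · rw [if_neg hj]
        rfl
  refine Nat.card_congr ⟨fun v => ⟨v.1 ᵥ* toMat n PI, ?_⟩, fun w => ⟨w.1 ᵥ* toMat n P, ?_⟩, fun v => ?_, fun w => ?_⟩
  · rw [← key, Matrix.vecMul_vecMul (v := v.1), e2', Matrix.vecMul_one]
    exact v.2
  · exact (key w.1).2 w.2
  · apply Subtype.ext
    show (v.1 ᵥ* toMat n PI) ᵥ* toMat n P = v.1
    rw [Matrix.vecMul_vecMul, e2', Matrix.vecMul_one]
  · apply Subtype.ext
    show (w.1 ᵥ* toMat n P) ᵥ* toMat n PI = w.1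
    rw [Matrix.vecMul_vecMul, e2, Matrix.vecMul_one]

/-! ### polynomials in a matrix -/

/-- the polynomial with coefficient list `cs` (constant term first) -/
def mpoly (B : Matrix (Fin n) (Fin n) (ZMod 2)) : List Bool → Matrix (Fin n) (Fin n) (ZMod 2)
  | [] => 0
  | c :: cs => mpoly B cs * B + bz c • (1 : Matrix (Fin n) (Fin n) (ZMod 2))

/-- the packed polynomial -/
def poly (n N : ℕ) : List Bool → ℕ :=
  fun cs => List.rec 0 (fun c _ ih => Nat.xor (Cfsg.Agent.Lib.F2Mat.mul n ih N) (cond c (Cfsg.Agent.Lib.F2Mat.one n) 0)) cs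

theorem toMat_poly (N : ℕ) (cs : List Bool) : toMat n (poly n N cs) = mpoly (toMat n N) cs := by
  induction cs with
  | nil => exact toMat_zero
  | cons c cs ih =>
    have h1 : poly n N (c :: cs) = (Cfsg.Agent.Lib.F2Mat.mul n (poly n N cs) N) ^^^ (cond c (Cfsg.Agent.Lib.F2Mat.one n) 0) := rfl
    rw [h1, toMat_xor, toMat_mul, ih]
    show _ = mpoly (toMat n N) cs * toMat n N + bz c • (1 : Matrix (Fin n) (Fin n) (ZMod 2))
    congr 1
    cases c
    · show toMat n 0 = bz false • (1 : Matrix (Fin n) (Fin n) (ZMod 2))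
      rw [toMat_zero, bz_false, zero_smul]
    · show toMat n (Cfsg.Agent.Lib.F2Mat.one n) = bz true • (1 : Matrix (Fin n) (Fin n) (ZMod 2))
      rw [toMat_one, bz_true, one_smul]

theorem commute_mpoly {B C : Matrix (Fin n) (Fin n) (ZMod 2)} (h : B * C = C * B) (cs : List Bool) :
    mpoly B cs * C = C * mpoly B cs := by
  induction cs with
  | nil =>
    show 0 * C = C * 0
    rw [zero_mul, mul_zero]
  | cons c cs ih =>
    show (mpoly B cs * B + bz c • 1) * C = C * (mpoly B cs * B + bz c • 1)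
    rw [add_mul, mul_add, mul_assoc, h, ← mul_assoc, ih, mul_assoc]
    congr 1
    rw [Matrix.smul_mul, Matrix.mul_smul, one_mul, mul_one]

/-- on a fixed vector, a polynomial acts by its value at 1 -/
theorem vecMul_mpoly {B : Matrix (Fin n) (Fin n) (ZMod 2)} {v : Fin n → ZMod 2} (h : v ᵥ* B = v) (cs : List Bool) :
    v ᵥ* mpoly B cs = (cs.map bz).sum • v := by
  induction cs with
  | nil =>
    show v ᵥ* (0 : Matrix (Fin n) (Fin n) (ZMod 2)) = _
    rw [Matrix.vecMul_zero, List.map_nil, List.sum_nil, zero_smul]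
  | cons c cs ih =>
    show v ᵥ* (mpoly B cs * B + bz c • 1) = _
    rw [Matrix.vecMul_add, ← Matrix.vecMul_vecMul, ih, Matrix.smul_vecMul, h, Matrix.vecMul_smul, Matrix.vecMul_one,
      List.map_cons, List.sum_cons, add_smul, add_comm]

end Cfsg.Agent.H516.LinFix
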