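import Cfsg.Agent.H516.LinFix

/-!
# Fixed points of commuting elements in a representation over `GF(2)`: counting
-/

set_option autoImplicit false

namespace Cfsg.Agent.H516.LinFix

open Subgroup Cfsg Cfsg.Agent.Lib.F2Mat Cfsg.Agent.Lib.F2MatGroup Matrix

universe u

variable {n : ℕ} {G : Type u} [Group G] (ρ : G →* GL (Fin n) (ZMod 2))

/-- the fixed vectors of `g` -/
def Fix (g : G) : AddSubgroup (Fin n → ZMod 2) where
  carrier := {v | v ᵥ* (ρ g : Matrix (Fin n) (Fin n) (ZMod 2)) = v}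
  zero_mem' := Matrix.zero_vecMul _
  add_mem' := fun {v w} hv hw => by
    show (v + w) ᵥ* (ρ g : Matrix (Fin n) (Fin n) (ZMod 2)) = v + w
    rw [Matrix.add_vecMul, (show v ᵥ* (ρ g : Matrix (Fin n) (Fin n) (ZMod 2)) = v from hv),
      (show w ᵥ* (ρ g : Matrix (Fin n) (Fin n) (ZMod 2)) = w from hw)]
  neg_mem' := fun {v} hv => by
    show (-v) ᵥ* (ρ g : Matrix (Fin n) (Fin n) (ZMod 2)) = -v
    rw [Matrix.neg_vecMul, (show v ᵥ* (ρ g : Matrix (Fin n) (Fin n) (ZMod 2)) = v from hv)]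

theorem mem_Fix {g : G} {v : Fin n → ZMod 2} : v ∈ Fix ρ g ↔ v ᵥ* (ρ g : Matrix (Fin n) (Fin n) (ZMod 2)) = v := Iff.rfl

theorem two_zero (v : Fin n → ZMod 2) : v + v = 0 := by
  ext i
  show v i + v i = 0
  rw [← two_mul, show (2 : ZMod 2) = 0 from rfl, zero_mul]

theorem Fix_eq_Ker (g : G) : Fix ρ g = Ker ((ρ g : Matrix (Fin n) (Fin n) (ZMod 2)) + 1) := by
  ext v
  rw [mem_Fix, mem_Ker, Matrix.vecMul_add, Matrix.vecMul_one]
  constructor
  · intro h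
    rw [h, two_zero]
  · intro h
    have h1 : v ᵥ* (ρ g : Matrix (Fin n) (Fin n) (ZMod 2)) + v + v = v := by rw [h, zero_add]
    rwa [add_assoc, two_zero, add_zero] at h1

theorem Fix_mul {g h : G} {v : Fin n → ZMod 2} (hg : v ∈ Fix ρ g) (hh : v ∈ Fix ρ h) : v ∈ Fix ρ (g * h) := by
  rw [mem_Fix] at *
  rw [map_mul, Units.val_mul, ← Matrix.vecMul_vecMul, hg, hh]

theorem Fix_pow {g : G} {v : Fin n → ZMod 2} (hg : v ∈ Fix ρ g) (k : ℕ) : v ∈ Fix ρ (g ^ k) := by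
  induction k with
  | zero =>
    rw [pow_zero, mem_Fix, map_one, Units.val_one, Matrix.vecMul_one]
  | succ k ih =>
    rw [pow_succ]
    exact Fix_mul ρ ih hg

theorem card_V : Nat.card (Fin n → ZMod 2) = 2 ^ n := by
  rw [Nat.card_pi, Finset.prod_const, Finset.card_univ, Fintype.card_fin, Nat.card_eq_fintype_card, ZMod.card]

theorem card_sub (W : AddSubgroup (Fin n → ZMod 2)) : ∃ j ≤ n, Nat.card ↥W = 2 ^ j := by
  have h1 : Nat.card ↥W ∣ 2 ^ n := by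
    rw [← card_V]
    exact AddSubgroup.card_addSubgroup_dvd_card W
  exact (Nat.dvd_prime_pow Nat.prime_two).1 h1

theorem card_le_of_le {U W : AddSubgroup (Fin n → ZMod 2)} (h : U ≤ W) : Nat.card ↥U ≤ Nat.card ↥W :=
  Nat.card_le_card_of_injective _ (AddSubgroup.inclusion_injective h)

/-- **counting fixed vectors** -/
theorem card_modEq {c : G} {q : ℕ} (hq : q.Prime) (hc : c ^ q = 1) (W : AddSubgroup (Fin n → ZMod 2))
    (hW : ∀ v ∈ W, v ᵥ* (ρ c : Matrix (Fin n) (Fin n) (ZMod 2)) ∈ W) :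
    Nat.card ↥W ≡ Nat.card ↥(W ⊓ Fix ρ c) [MOD q] := by
  classical
  have : Fact q.Prime := ⟨hq⟩
  have := Fintype.ofFinite ↥W
  let f : Function.End ↥W := fun a => ⟨a.1 ᵥ* (ρ c : Matrix (Fin n) (Fin n) (ZMod 2)), hW a a.2⟩
  have hf : ∀ (k : ℕ) (a : ↥W), ((f ^ k) a : Fin n → ZMod 2) = a.1 ᵥ* (ρ (c ^ k) : Matrix (Fin n) (Fin n) (ZMod 2)) := by
    intro k
    induction k with
    | zero =>
      intro a
      rw [pow_zero, pow_zero, map_one, Units.val_one, Matrix.vecMul_one]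
      rfl
    | succ k ih =>
      intro a
      have h1 : (f ^ (k + 1)) a = (f ^ k) (f a) := by
        rw [pow_succ]
        rfl
      rw [h1, ih]
      change (a.1 ᵥ* (ρ c : Matrix (Fin n) (Fin n) (ZMod 2))) ᵥ* (ρ (c ^ k) : Matrix (Fin n) (Fin n) (ZMod 2)) = _
      rw [Matrix.vecMul_vecMul, ← Units.val_mul, ← map_mul, ← pow_succ']
  have hfp : f ^ q ^ 1 = 1 := by
    funext a
    apply Subtype.ext
    rw [hf, pow_one, hc, map_one, Units.val_one, Matrix.vecMul_one]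
    rfl
  have h2 := Equiv.Perm.card_fixedPoints_modEq hfp
  rw [Nat.card_eq_fintype_card]
  have h3 : Nat.card ↥(W ⊓ Fix ρ c) = Fintype.card ↥(Function.fixedPoints f) := by
    rw [← Nat.card_eq_fintype_card]
    refine Nat.card_congr ⟨fun a => ⟨⟨a.1, a.2.1⟩, ?_⟩, fun a => ⟨((a : ↥W) : Fin n → ZMod 2), (a : ↥W).2, ?_⟩, fun a => rfl, fun a => rfl⟩
    · apply Subtype.ext
      exact a.2.2
    · have h4 : f (a : ↥W) = a := a.2
      exact congrArg Subtype.val h4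
  rw [h3]
  exact h2

theorem Ker_invariant {A : Matrix (Fin n) (Fin n) (ZMod 2)} {c : G}
    (h : A * (ρ c : Matrix (Fin n) (Fin n) (ZMod 2)) = (ρ c : Matrix (Fin n) (Fin n) (ZMod 2)) * A)
    {v : Fin n → ZMod 2} (hv : v ∈ Ker A) : v ᵥ* (ρ c : Matrix (Fin n) (Fin n) (ZMod 2)) ∈ Ker A := by
  rw [mem_Ker] at *
  rw [Matrix.vecMul_vecMul, ← h, ← Matrix.vecMul_vecMul, hv, Matrix.zero_vecMul]

theorem Fix_invariant {b c : G} (h : b * c = c * b) {v : Fin n → ZMod 2} (hv : v ∈ Fix ρ b) :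
    v ᵥ* (ρ c : Matrix (Fin n) (Fin n) (ZMod 2)) ∈ Fix ρ b := by
  rw [mem_Fix] at *
  rw [Matrix.vecMul_vecMul, ← Units.val_mul, ← map_mul, ← h, map_mul, Units.val_mul, ← Matrix.vecMul_vecMul, hv]

/-! ### the exponent -/

/-- the dimension of the space of fixed vectors -/
noncomputable def fx (g : G) : ℕ := (card_sub (Fix ρ g)).choose

theorem card_Fix (g : G) : Nat.card ↥(Fix ρ g) = 2 ^ fx ρ g := (card_sub (Fix ρ g)).choose_spec.2

theorem fx_le (g : G) : fx ρ g ≤ n := (card_sub (Fix ρ g)).choose_spec.1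

theorem fx_eq {g : G} {k : ℕ} (h : Nat.card ↥(Fix ρ g) = 2 ^ k) : fx ρ g = k :=
  Nat.pow_right_injective (le_refl 2) (by
    show 2 ^ fx ρ g = 2 ^ k
    rw [← card_Fix ρ g, h])

theorem fx_lt (hρ : Function.Injective ρ) {g : G} (hg : g ≠ 1) : fx ρ g < n := by
  refine lt_of_le_of_ne (fx_le ρ g) fun h => hg ?_
  apply hρ
  rw [map_one]
  have h1 : Fix ρ g = ⊤ := by
    apply AddSubgroup.eq_top_of_card_eq
    rw [card_Fix, h, card_V]
  apply Units.ext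
  rw [Units.val_one]
  ext i j
  have h2 : (Pi.single i 1 : Fin n → ZMod 2) ∈ Fix ρ g := by rw [h1]; trivial
  have h3 := congrFun h2 j
  rw [Matrix.single_one_vecMul] at h3
  rw [show (ρ g : Matrix (Fin n) (Fin n) (ZMod 2)) i j = (ρ g : Matrix (Fin n) (Fin n) (ZMod 2)).row i j from rfl, h3,
    Matrix.one_apply, Pi.single_apply]
  by_cases hij : i = j
  · rw [if_pos hij, if_pos hij.symm]
  · rw [if_neg hij, if_neg (fun h => hij h.symm)]

theorem fx_of_mem_zpowers [Finite G] {g h : G} (h1 : g ∈ zpowers h) (h2 : h ∈ zpowers g) : fx ρ g = fx ρ h := by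
  apply fx_eq
  rw [← card_Fix]
  congr 1
  have key : ∀ {x y : G}, x ∈ zpowers y → Fix ρ y ≤ Fix ρ x := by
    intro x y hxy v hv
    obtain ⟨k, hk⟩ := mem_powers_iff_mem_zpowers.2 hxy
    have hk' : y ^ k = x := hk
    rw [← hk']
    exact Fix_pow ρ hv k
  rw [le_antisymm (key h2) (key h1)]

theorem fx_conj (g x : G) : fx ρ (g * x * g⁻¹) = fx ρ x := by
  apply fx_eq
  rw [← card_Fix]
  have hgg : ∀ v : Fin n → ZMod 2, (v ᵥ* (ρ g : Matrix (Fin n) (Fin n) (ZMod 2))) ᵥ* (ρ g⁻¹ : Matrix (Fin n) (Fin n) (ZMod 2)) = v := by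
    intro v
    rw [Matrix.vecMul_vecMul, ← Units.val_mul, ← map_mul, mul_inv_cancel, map_one, Units.val_one, Matrix.vecMul_one]
  have hgg' : ∀ v : Fin n → ZMod 2, (v ᵥ* (ρ g⁻¹ : Matrix (Fin n) (Fin n) (ZMod 2))) ᵥ* (ρ g : Matrix (Fin n) (Fin n) (ZMod 2)) = v := by
    intro v
    rw [Matrix.vecMul_vecMul, ← Units.val_mul, ← map_mul, inv_mul_cancel, map_one, Units.val_one, Matrix.vecMul_one]
  refine Nat.card_congr ⟨fun v => ⟨v.1 ᵥ* (ρ g : Matrix (Fin n) (Fin n) (ZMod 2)), ?_⟩,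
    fun v => ⟨v.1 ᵥ* (ρ g⁻¹ : Matrix (Fin n) (Fin n) (ZMod 2)), ?_⟩, fun v => Subtype.ext (hgg v.1), fun v => Subtype.ext (hgg' v.1)⟩
  · have h1 := v.2
    rw [mem_Fix, map_mul, map_mul, Units.val_mul, Units.val_mul, ← Matrix.vecMul_vecMul, ← Matrix.vecMul_vecMul] at h1
    rw [mem_Fix]
    have h2 := congrArg (fun w => w ᵥ* (ρ g : Matrix (Fin n) (Fin n) (ZMod 2))) h1
    simp only [hgg'] at h2
    exact h2
  · have h1 := v.2
    rw [mem_Fix] at h1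
    rw [mem_Fix, map_mul, map_mul, Units.val_mul, Units.val_mul, ← Matrix.vecMul_vecMul, ← Matrix.vecMul_vecMul, hgg', h1]

/-- **two commuting elements of prime orders** -/
theorem pair (hρ : Function.Injective ρ) {b c : G} {s q : ℕ} (hs : s.Prime) (hq : q.Prime) (hb : orderOf b = s)
    (hc : orderOf c = q) (hbc : b * c = c * b) :
    fx ρ b < n ∧ fx ρ c < n ∧ 2 ^ n % s = 2 ^ fx ρ b % s ∧ 2 ^ n % q = 2 ^ fx ρ c % q ∧
      ∃ j, j ≤ fx ρ b ∧ j ≤ fx ρ c ∧ 2 ^ fx ρ c % s = 2 ^ j % s ∧ 2 ^ fx ρ b % q = 2 ^ j % q := by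
  have hb1 : b ≠ 1 := by
    rintro rfl
    rw [orderOf_one] at hb
    exact hs.one_lt.ne hb
  have hc1 : c ≠ 1 := by
    rintro rfl
    rw [orderOf_one] at hc
    exact hq.one_lt.ne hc
  have hbp : b ^ s = 1 := by rw [← hb, pow_orderOf_eq_one]
  have hcp : c ^ q = 1 := by rw [← hc, pow_orderOf_eq_one]
  refine ⟨fx_lt ρ hρ hb1, fx_lt ρ hρ hc1, ?_, ?_, ?_⟩
  · have h1 := card_modEq ρ hs hbp ⊤ (fun _ _ => trivial)
    rw [top_inf_eq, card_Fix, AddSubgroup.card_top, card_V] at h1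
    exact h1
  · have h1 := card_modEq ρ hq hcp ⊤ (fun _ _ => trivial)
    rw [top_inf_eq, card_Fix, AddSubgroup.card_top, card_V] at h1
    exact h1
  · obtain ⟨j, -, hj⟩ := card_sub (Fix ρ b ⊓ Fix ρ c)
    have h1 := card_le_of_le (inf_le_left : Fix ρ b ⊓ Fix ρ c ≤ Fix ρ b)
    have h2 := card_le_of_le (inf_le_right : Fix ρ b ⊓ Fix ρ c ≤ Fix ρ c)
    rw [hj, card_Fix] at h1 h2
    refine ⟨j, (Nat.pow_le_pow_iff_right (by norm_num)).1 h1, (Nat.pow_le_pow_iff_right (by norm_num)).1 h2, ?_, ?_⟩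
    · have h3 := card_modEq ρ hs hbp (Fix ρ c) (fun v hv => Fix_invariant ρ hbc.symm hv)
      rw [inf_comm, hj, card_Fix] at h3
      exact h3
    · have h3 := card_modEq ρ hq hcp (Fix ρ b) (fun v hv => Fix_invariant ρ hbc hv)
      rw [hj, card_Fix] at h3
      exact h3

/-- **an invariant subspace of dimension `w` without fixed vectors of `b`** -/
theorem sub {b c : G} {s q : ℕ} (hs : s.Prime) (hq : q.Prime) (hb : orderOf b = s)
    (hc : orderOf c = q) (hbc : b * c = c * b) (A : Matrix (Fin n) (Fin n) (ZMod 2))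
    (hAb : A * (ρ b : Matrix (Fin n) (Fin n) (ZMod 2)) = (ρ b : Matrix (Fin n) (Fin n) (ZMod 2)) * A)
    (hAc : A * (ρ c : Matrix (Fin n) (Fin n) (ZMod 2)) = (ρ c : Matrix (Fin n) (Fin n) (ZMod 2)) * A)
    (h0 : ∀ v ∈ Fix ρ b, v ∈ Ker A → v = 0) {w : ℕ} (hw : Nat.card ↥(Ker A) = 2 ^ w) :
    ∃ j, Nat.card ↥(Ker A ⊓ Fix ρ c) = 2 ^ j ∧ j ≤ w ∧ j ≤ fx ρ c ∧ 2 ^ j % s = 1 ∧ 2 ^ w % q = 2 ^ j % q := by
  have hbp : b ^ s = 1 := by rw [← hb, pow_orderOf_eq_one]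
  have hcp : c ^ q = 1 := by rw [← hc, pow_orderOf_eq_one]
  obtain ⟨j, -, hj⟩ := card_sub (Ker A ⊓ Fix ρ c)
  have h1 := card_le_of_le (inf_le_left : Ker A ⊓ Fix ρ c ≤ Ker A)
  have h2 := card_le_of_le (inf_le_right : Ker A ⊓ Fix ρ c ≤ Fix ρ c)
  rw [hj] at h1 h2
  rw [hw] at h1
  rw [card_Fix] at h2
  refine ⟨j, hj, (Nat.pow_le_pow_iff_right (by norm_num)).1 h1, (Nat.pow_le_pow_iff_right (by norm_num)).1 h2, ?_, ?_⟩
  · have h3 := card_modEq ρ hs hbp (Ker A ⊓ Fix ρ c) (fun v hv => ⟨Ker_invariant ρ hAb hv.1, Fix_invariant ρ hbc.symm hv.2⟩)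
    have h4 : Ker A ⊓ Fix ρ c ⊓ Fix ρ b = ⊥ := by
      rw [eq_bot_iff]
      intro v hv
      exact h0 v hv.2 hv.1.1
    rw [h4, hj, AddSubgroup.card_bot] at h3
    have h5 : 2 ^ j % s = 1 % s := h3
    rw [h5, Nat.mod_eq_of_lt hs.one_lt]
  · have h3 := card_modEq ρ hq hcp (Ker A) (fun v hv => Ker_invariant ρ hAc hv)
    rw [hj, hw] at h3
    exact h3

end Cfsg.Agent.H516.LinFix
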